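import Cfsg.Agent.H37.All
import Cfsg.Agent.H40.RootCert

/-! The root-system certificates of the seven tabulated Chevalley data. -/

set_option autoImplicit false
set_option maxRecDepth 100000

namespace Cfsg.Agent.H40

open Cfsg.Lie Cfsg.Agent.H37

def tab2 (T : List (List ℤ)) (i j : ℕ) : ℤ := (T.getD i []).getD j 0

def lenG2 (r : ℕ) : ℤ := ([3, 3, 1, 1, 1, 3, 3, 1, 1, 1, 3, 3] : List ℤ).getD r 1

def invCG2 : List (List ℤ) := [[2, 3], [1, 2]]

theorem chkAG2 : chkA chevG2 validG2.car lenG2 (tab2 invCG2) 1 = true := by decide +kernel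
theorem chkBG2 : chkB chevG2 validG2.cor validG2.car lenG2 = true := by decide +kernel
theorem chkCG2 : chkC chevG2 validG2.cor lenG2 = true := by decide +kernel
theorem chkDG2 : chkD chevG2 validG2.code validG2.cor validG2.car lenG2 [1, 3] = true := by decide +kernel

/-- the root-system certificate of type G2 -/
noncomputable def certG2 : RootCert chevG2 :=
  mkCert validG2 lenG2 (tab2 invCG2) 1 [1, 3] chkAG2 chkBG2 chkCG2 chkDG2 (by decide +kernel)

def lenB2 (r : ℕ) : ℤ := ([2, 1, 1, 2, 2, 1, 1, 2] : List ℤ).getD r 1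

def invCB2 : List (List ℤ) := [[2, 2], [1, 2]]

theorem chkAB2 : chkA chevB2 validB2.car lenB2 (tab2 invCB2) 2 = true := by decide +kernel
theorem chkBB2 : chkB chevB2 validB2.cor validB2.car lenB2 = true := by decide +kernel
theorem chkCB2 : chkC chevB2 validB2.cor lenB2 = true := by decide +kernel
theorem chkDB2 : chkD chevB2 validB2.code validB2.cor validB2.car lenB2 [1, 2] = true := by decide +kernel

/-- the root-system certificate of type B2 -/
noncomputable def certB2 : RootCert chevB2 :=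
  mkCert validB2 lenB2 (tab2 invCB2) 2 [1, 2] chkAB2 chkBB2 chkCB2 chkDB2 (by decide +kernel)

def lenD4 (_ : ℕ) : ℤ := 1

def invCD4 : List (List ℤ) := [[2, 2, 1, 1], [2, 4, 2, 2], [1, 2, 2, 1], [1, 2, 1, 2]]

theorem chkAD4 : chkA chevD4 validD4.car lenD4 (tab2 invCD4) 2 = true := by decide +kernel
theorem chkBD4 : chkB chevD4 validD4.cor validD4.car lenD4 = true := by decide +kernel
theorem chkCD4 : chkC chevD4 validD4.cor lenD4 = true := by decide +kernel
theorem chkDD4 : chkD chevD4 validD4.code validD4.cor validD4.car lenD4 [1] = true := by decide +kernel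

/-- the root-system certificate of type D4 -/
noncomputable def certD4 : RootCert chevD4 :=
  mkCert validD4 lenD4 (tab2 invCD4) 2 [1] chkAD4 chkBD4 chkCD4 chkDD4 (fun _ _ _ _ => rfl)

def lenF4 (r : ℕ) : ℤ := ([2, 2, 2, 1, 2, 2, 2, 1, 1, 1, 1, 1, 1, 1, 1, 2, 2, 2, 1, 1, 1, 2, 2, 2, 2, 2, 2, 1, 1, 1, 2, 2, 2, 1, 1, 1, 1, 1, 1, 1, 1, 2, 2, 2, 1, 2, 2, 2] : List ℤ).getD r 1

def invCF4 : List (List ℤ) := [[2, 3, 4, 2], [3, 6, 8, 4], [2, 4, 6, 3], [1, 2, 3, 2]]

theorem chkAF4 : chkA chevF4 validF4.car lenF4 (tab2 invCF4) 1 = true := by decide +kernel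
theorem chkBF4 : chkB chevF4 validF4.cor validF4.car lenF4 = true := by decide +kernel
theorem chkCF4 : chkC chevF4 validF4.cor lenF4 = true := by decide +kernel
theorem chkDF4 : chkD chevF4 validF4.code validF4.cor validF4.car lenF4 [1, 2] = true := by decide +kernel

/-- the root-system certificate of type F4 -/
noncomputable def certF4 : RootCert chevF4 :=
  mkCert validF4 lenF4 (tab2 invCF4) 1 [1, 2] chkAF4 chkBF4 chkCF4 chkDF4 (by decide +kernel)

def lenE6 (_ : ℕ) : ℤ := 1

def invCE6 : List (List ℤ) := [[4, 3, 5, 6, 4, 2], [3, 6, 6, 9, 6, 3], [5, 6, 10, 12, 8, 4], [6, 9, 12, 18, 12, 6], [4, 6, 8, 12, 10, 5], [2, 3, 4, 6, 5, 4]]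

theorem chkAE6 : chkA chevE6 validE6.car lenE6 (tab2 invCE6) 3 = true := by decide +kernel
theorem chkBE6 : chkB chevE6 validE6.cor validE6.car lenE6 = true := by decide +kernel
theorem chkCE6 : chkC chevE6 validE6.cor lenE6 = true := by decide +kernel
theorem chkDE6 : chkD chevE6 validE6.code validE6.cor validE6.car lenE6 [1] = true := by decide +kernel

/-- the root-system certificate of type E6 -/
noncomputable def certE6 : RootCert chevE6 :=
  mkCert validE6 lenE6 (tab2 invCE6) 3 [1] chkAE6 chkBE6 chkCE6 chkDE6 (fun _ _ _ _ => rfl)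

def lenE7 (_ : ℕ) : ℤ := 1

def invCE7 : List (List ℤ) := [[4, 4, 6, 8, 6, 4, 2], [4, 7, 8, 12, 9, 6, 3], [6, 8, 12, 16, 12, 8, 4], [8, 12, 16, 24, 18, 12, 6], [6, 9, 12, 18, 15, 10, 5], [4, 6, 8, 12, 10, 8, 4], [2, 3, 4, 6, 5, 4, 3]]

theorem chkAE7 : chkA chevE7 validE7.car lenE7 (tab2 invCE7) 2 = true := by decide +kernel
theorem chkBE7 : chkB chevE7 validE7.cor validE7.car lenE7 = true := by decide +kernel
theorem chkCE7 : chkC chevE7 validE7.cor lenE7 = true := by decide +kernel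
theorem chkDE7 : chkD chevE7 validE7.code validE7.cor validE7.car lenE7 [1] = true := by decide +kernel

/-- the root-system certificate of type E7 -/
noncomputable def certE7 : RootCert chevE7 :=
  mkCert validE7 lenE7 (tab2 invCE7) 2 [1] chkAE7 chkBE7 chkCE7 chkDE7 (fun _ _ _ _ => rfl)

def lenE8 (_ : ℕ) : ℤ := 1

def invCE8 : List (List ℤ) := [[4, 5, 7, 10, 8, 6, 4, 2], [5, 8, 10, 15, 12, 9, 6, 3], [7, 10, 14, 20, 16, 12, 8, 4], [10, 15, 20, 30, 24, 18, 12, 6], [8, 12, 16, 24, 20, 15, 10, 5], [6, 9, 12, 18, 15, 12, 8, 4], [4, 6, 8, 12, 10, 8, 6, 3], [2, 3, 4, 6, 5, 4, 3, 2]]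

theorem chkAE8 : chkA chevE8 validE8.car lenE8 (tab2 invCE8) 1 = true := by decide +kernel
theorem chkBE8 : chkB chevE8 validE8.cor validE8.car lenE8 = true := by decide +kernel
theorem chkCE8 : chkC chevE8 validE8.cor lenE8 = true := by decide +kernel
theorem chkDE8 : chkD chevE8 validE8.code validE8.cor validE8.car lenE8 [1] = true := by decide +kernel

/-- the root-system certificate of type E8 -/
noncomputable def certE8 : RootCert chevE8 :=
  mkCert validE8 lenE8 (tab2 invCE8) 1 [1] chkAE8 chkBE8 chkCE8 chkDE8 (fun _ _ _ _ => rfl)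

theorem nonempty_cert {D : ChevalleyDatum}
    (hD : D ∈ [chevG2, chevB2, chevD4, chevF4, chevE6, chevE7, chevE8]) : Nonempty (RootCert D) := by
  simp only [List.mem_cons, List.not_mem_nil, or_false] at hD
  rcases hD with rfl | rfl | rfl | rfl | rfl | rfl | rfl
  exacts [⟨certG2⟩, ⟨certB2⟩, ⟨certD4⟩, ⟨certF4⟩, ⟨certE6⟩, ⟨certE7⟩, ⟨certE8⟩]

/-- a root-system certificate for a datum of the list -/
noncomputable def certOf {D : ChevalleyDatum}
    (hD : D ∈ [chevG2, chevB2, chevD4, chevF4, chevE6, chevE7, chevE8]) : RootCert D :=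
  Classical.choice (nonempty_cert hD)

end Cfsg.Agent.H40
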