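/-
Certificates for the involutions of G₂ and F₄ in odd characteristic.
-/
import Mathlib
import Cfsg.Agent.H40.InvOdd3

set_option autoImplicit false
set_option maxRecDepth 100000

namespace Cfsg.Agent.H40

open Cfsg.Lie Cfsg.Agent.H34 Cfsg.Agent.H37

theorem covG2 : CovCert chevG2 []
    [([0],[1],0,2,3),([1],[0],1,0,1)] [[0,1]] := by
  decide +kernel

/-- steps towards the class representatives -/
def clsTG2 : List (ℕ × ℕ × ℕ) :=
    [(0,0,0),(1,3,2),(0,0,0),(0,2,1)]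

theorem clsG2 : ClsCert (tabOf chevG2) [2] clsTG2 := by
  rw [tabOf_eq validG2]; decide +kernel

/-- coordinates of the roots -/
def rcG2m2 : List (List ℤ) :=
    [[],[],[0,-1],[],[],[-1,0],[1,0],[],[],[0,1],[],[]]

/-- Cartan matrix -/
def cartG2m2 : List (List ℤ) :=
    [[2,0],[0,2]]

theorem subG2m2 : SubCert (tabOf chevG2) 2 [6,9] rcG2m2 rcG2m2 cartG2m2
    [[1,0],[0,1]] 2 := by
  rw [tabOf_eq validG2]; decide +kernel

/-- values of the Weyl vector -/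
def rhG2m2 : List ℤ :=
    [-7,-3,-4,-3,1,-4,4,1,5,4,5,9]

theorem rigG2m2 : RigCert (tabOf chevG2) 2 [2,4] rhG2m2
    [(0,[]),(6,[0]),(7,[6])] := by
  rw [tabOf_eq validG2]; decide +kernel

/-- orbit certificates -/
def chainG2m2 : List (List ℕ × List (List ℤ × ℤ)) :=
    [([1],[([-1,0],1),([1,0],0)]),([],[([0,-1],1),([0,1],0)])]

theorem cardG2m2 (C : Cert chevG2) {F : Type*} [Field F] [Fintype F] (hF : Odd (Fintype.card F)) :
    Nat.card (Subgroup.centralizer {tm C F 2}) =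
      Fintype.card F ^ 2 * ([2,2].map fun d => Fintype.card F ^ d - 1).prod :=
  subG2m2.card hF rigG2m2 kerG2 (by rw [tabOf_eq validG2]; decide +kernel) (M := 2) (cs := chainG2m2)
    (by decide +kernel) (by decide +kernel)

theorem orderOfG2m2 (C : Cert chevG2) {F : Type*} [Field F] (h2 : (2 : F) ≠ 0) : orderOf (tm C F 2) = 2 :=
  orderOf_tm h2 (r := 0) (by decide) (by decide +kernel)

theorem covF4 : CovCert chevF4 [(0,1),(2,3)]
    [([0],[1],0,3,7),([1],[0,2],1,7,8),([2],[1,3],2,1,2),([3],[2],3,0,1),([1,2],[0,3],2,8,9)] [] := by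
  decide +kernel

/-- steps towards the class representatives -/
def clsTF4 : List (ℕ × ℕ × ℕ) :=
    [(0,0,0),(0,0,0),(0,3,2),(1,1,1),(0,0,0),(3,13,7),(1,4,1),(0,6,2),(2,12,2),(1,11,5),(2,14,3),(2,15,4),(3,4,1),(2,9,
    6),(3,6,2),(3,7,3)]

theorem clsF4 : ClsCert (tabOf chevF4) [1,4] clsTF4 := by
  rw [tabOf_eq validF4]; decide +kernel

/-- coordinates of the roots -/
def rcF4m1 : List (List ℤ) :=
    [[-2,-1,-2,-2],[-1,-1,-2,-2],[-1,0,-2,-2],[],[-1,-1,-1,-2],[-1,0,-1,-2],[0,0,-1,-2],[],[-1,-1,-1,-1],[-1,0,-1,-1],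
    [0,0,-1,-1],[],[],[],[0,0,0,-1],[-1,-1,-1,0],[-1,0,-1,0],[0,0,-1,0],[],[],[],[-1,-1,0,0],[0,-1,0,0],[-1,0,0,0],[1,
    0,0,0],[0,1,0,0],[1,1,0,0],[],[],[],[0,0,1,0],[1,0,1,0],[1,1,1,0],[0,0,0,1],[],[],[],[0,0,1,1],[1,0,1,1],[1,1,1,1],
    [],[0,0,1,2],[1,0,1,2],[1,1,1,2],[],[1,0,2,2],[1,1,2,2],[2,1,2,2]]

/-- coordinates of the coroots -/
def coF4m1 : List (List ℤ) :=
    [[-2,-1,-2,-1],[-1,-1,-2,-1],[-1,0,-2,-1],[],[-1,-1,-1,-1],[-1,0,-1,-1],[0,0,-1,-1],[],[-2,-2,-2,-1],[-2,0,-2,-1],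
    [0,0,-2,-1],[],[],[],[0,0,0,-1],[-1,-1,-1,0],[-1,0,-1,0],[0,0,-1,0],[],[],[],[-1,-1,0,0],[0,-1,0,0],[-1,0,0,0],[1,
    0,0,0],[0,1,0,0],[1,1,0,0],[],[],[],[0,0,1,0],[1,0,1,0],[1,1,1,0],[0,0,0,1],[],[],[],[0,0,2,1],[2,0,2,1],[2,2,2,1],
    [],[0,0,1,1],[1,0,1,1],[1,1,1,1],[],[1,0,2,1],[1,1,2,1],[2,1,2,1]]

/-- Cartan matrix -/
def cartF4m1 : List (List ℤ) :=
    [[2,-1,-1,0],[-1,2,0,0],[-1,0,2,-1],[0,0,-2,2]]

theorem subF4m1 : SubCert (tabOf chevF4) 1 [24,25,30,33] rcF4m1 coF4m1 cartF4m1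
    [[4,2,4,2],[2,2,2,1],[4,2,6,3],[4,2,6,4]] 2 := by
  rw [tabOf_eq validF4]; decide +kernel

/-- values of the Weyl vector -/
def rhF4m1 : List ℤ :=
    [-28,-24,-20,-19,-20,-16,-12,-15,-16,-12,-8,-11,-7,-3,-4,-12,-8,-4,-7,-3,1,-8,-4,-4,4,4,8,1,5,9,4,8,12,4,5,9,13,8,
    12,16,17,12,16,20,21,20,24,28]

theorem rigF4m1 : RigCert (tabOf chevF4) 1 [10,18,26,14] rhF4m1
    [(7,[]),(27,[7]),(24,[27]),(25,[27]),(33,[24])] := by
  rw [tabOf_eq validF4]; decide +kernel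

/-- orbit certificates -/
def chainF4m1 : List (List ℕ × List (List ℤ × ℤ)) :=
    [([0,2,3],[([0,-1,0,0],7),([-1,1,0,0],6),([1,0,-1,0],5),([0,0,1,-1],4),([0,0,-1,1],3),([-1,0,1,0],2),([1,-1,0,0],
    1),([0,1,0,0],0)]),([2,3],[([-1,2,0,0],5),([1,1,-1,0],4),([0,1,1,-1],3),([0,1,-1,1],2),([-1,1,1,0],1),([1,0,0,0],
    0)]),([3],[([2,0,-1,0],3),([1,0,1,-1],2),([1,0,-1,1],1),([0,0,1,0],0)]),([],[([0,0,2,-1],1),([0,0,0,1],0)])]

theorem cardF4m1 (C : Cert chevF4) {F : Type*} [Field F] [Fintype F] (hF : Odd (Fintype.card F)) :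
    Nat.card (Subgroup.centralizer {tm C F 1}) =
      Fintype.card F ^ 16 * ([2,4,6,8].map fun d => Fintype.card F ^ d - 1).prod :=
  subF4m1.card hF rigF4m1 kerF4 (by rw [tabOf_eq validF4]; decide +kernel) (M := 8) (cs := chainF4m1)
    (by decide +kernel) (by decide +kernel)

theorem orderOfF4m1 (C : Cert chevF4) {F : Type*} [Field F] (h2 : (2 : F) ≠ 0) : orderOf (tm C F 1) = 2 :=
  orderOf_tm h2 (r := 3) (by decide) (by decide +kernel)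

/-- coordinates of the roots -/
def rcF4m4 : List (List ℤ) :=
    [[0,-2,-1,-2],[],[],[0,-1,-1,-2],[],[],[0,0,-1,-2],[0,-1,-1,-1],[],[],[0,0,-1,-1],[0,-1,0,-1],[],[],[0,0,0,-1],[],
    [],[0,0,-1,0],[0,-1,0,0],[],[],[],[-1,0,0,0],[],[],[1,0,0,0],[],[],[],[0,1,0,0],[0,0,1,0],[],[],[0,0,0,1],[],[],[0,
    1,0,1],[0,0,1,1],[],[],[0,1,1,1],[0,0,1,2],[],[],[0,1,1,2],[],[],[0,2,1,2]]

/-- coordinates of the coroots -/
def coF4m4 : List (List ℤ) :=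
    [[0,-1,-1,-1],[],[],[0,-1,-2,-2],[],[],[0,0,-1,-1],[0,-1,-2,-1],[],[],[0,0,-2,-1],[0,-1,0,-1],[],[],[0,0,0,-1],[],
    [],[0,0,-1,0],[0,-1,0,0],[],[],[],[-1,0,0,0],[],[],[1,0,0,0],[],[],[],[0,1,0,0],[0,0,1,0],[],[],[0,0,0,1],[],[],[0,
    1,0,1],[0,0,2,1],[],[],[0,1,2,1],[0,0,1,1],[],[],[0,1,2,2],[],[],[0,1,1,1]]

/-- Cartan matrix -/
def cartF4m4 : List (List ℤ) :=
    [[2,0,0,0],[0,2,0,-1],[0,0,2,-1],[0,-1,-2,2]]

theorem subF4m4 : SubCert (tabOf chevF4) 4 [25,29,30,33] rcF4m4 coF4m4 cartF4m4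
    [[1,0,0,0],[0,2,2,2],[0,1,3,2],[0,2,4,4]] 2 := by
  rw [tabOf_eq validF4]; decide +kernel

/-- values of the Weyl vector -/
def rhF4m4 : List ℤ :=
    [-20,-19,-15,-16,-15,-11,-12,-12,-11,-7,-8,-8,-7,-3,-4,-7,-3,-4,-4,-3,1,-3,-4,1,1,4,5,1,5,4,4,5,9,4,5,9,8,8,9,13,
    12,12,13,17,16,17,21,20]

theorem rigF4m4 : RigCert (tabOf chevF4) 4 [8,14,20,10] rhF4m4
    [(0,[]),(24,[0]),(33,[24]),(25,[33]),(27,[25])] := by
  rw [tabOf_eq validF4]; decide +kernel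

/-- orbit certificates -/
def chainF4m4 : List (List ℕ × List (List ℤ × ℤ)) :=
    [([1,2,3],[([-1,0,0,0],1),([1,0,0,0],0)]),([2,3],[([0,-1,0,0],5),([0,1,0,-1],4),([0,0,-2,1],3),([0,0,2,-1],2),([0,
    -1,0,1],1),([0,1,0,0],0)]),([3],[([0,1,-1,0],3),([0,1,1,-1],2),([0,0,-1,1],1),([0,0,1,0],0)]),([],[([0,1,2,-1],1),
    ([0,0,0,1],0)])]

theorem cardF4m4 (C : Cert chevF4) {F : Type*} [Field F] [Fintype F] (hF : Odd (Fintype.card F)) :
    Nat.card (Subgroup.centralizer {tm C F 4}) =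
      Fintype.card F ^ 10 * ([2,2,4,6].map fun d => Fintype.card F ^ d - 1).prod :=
  subF4m4.card hF rigF4m4 kerF4 (by rw [tabOf_eq validF4]; decide +kernel) (M := 6) (cs := chainF4m4)
    (by decide +kernel) (by decide +kernel)

theorem orderOfF4m4 (C : Cert chevF4) {F : Type*} [Field F] (h2 : (2 : F) ≠ 0) : orderOf (tm C F 4) = 2 :=
  orderOf_tm h2 (r := 1) (by decide) (by decide +kernel)

theorem isConj_G2 (C : Cert chevG2) {F : Type*} [Field F] [Fintype F] (hF : Odd (Fintype.card F)) {t : chevG2.group F}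
    (ht : orderOf t = 2) : IsConj t (tm C F 2) := by
  rw [← Nat.card_eq_fintype_card] at hF
  obtain ⟨k, hk, h⟩ := exists_isConj_tm (C := C) hF covG2 (fun K hK n hn h => hn.sl3_G2 hF fun i => h i (by
    rw [List.mem_singleton.1 hK]
    have : (i : ℕ) < 2 := i.2
    simp only [List.mem_cons, List.not_mem_nil, or_false]; omega)) kerG2 clsG2 ht
  rwa [List.mem_singleton.1 hk] at h

theorem card_centralizer_of_isConj {G : Type*} [Group G] {s t : G} (h : IsConj s t) :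
    Nat.card (Subgroup.centralizer {s}) = Nat.card (Subgroup.centralizer {t}) := by
  obtain ⟨g, rfl⟩ := isConj_iff.1 h
  refine Nat.card_congr ((MulAut.conj g).toEquiv.subtypeEquiv fun x => ?_)
  simp only [Subgroup.mem_centralizer_singleton_iff, MulEquiv.toEquiv_eq_coe, EquivLike.coe_coe, MulAut.conj_apply,
    conj_mul, mul_left_inj, mul_right_inj]

theorem pow_mul_prod_ne {q a b : ℕ} (hq : 1 < q) (hab : a < b) {L : List ℕ} (hL : ∀ d ∈ L, d ≠ 0) (c : ℕ) :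
    q ^ a * (L.map fun d => q ^ d - 1).prod ≠ q ^ b * c := fun h => by
  obtain ⟨k, rfl⟩ := Nat.exists_eq_add_of_lt hab
  rw [add_assoc, pow_add, mul_assoc, Nat.mul_right_inj (by positivity), pow_succ', mul_assoc] at h
  have h1 : Nat.Coprime q (L.map fun d => q ^ d - 1).prod := Nat.coprime_list_prod_right_iff.2 fun x hx => by
    obtain ⟨d, hd, rfl⟩ := List.mem_map.1 hx
    exact ((Nat.coprime_pow_left_iff (Nat.pos_of_ne_zero (hL d hd)) _ _).1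
      ((Nat.coprime_self_sub_right (Nat.one_le_pow _ _ (by omega))).2 (Nat.coprime_one_right _)))
  rw [h, Nat.coprime_mul_iff_right, Nat.coprime_self] at h1
  omega

end Cfsg.Agent.H40
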