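/-
Certificates for the involutions of E₈ in odd characteristic.
-/
import Mathlib
import Cfsg.Agent.H40.InvOdd3

set_option autoImplicit false
set_option maxRecDepth 100000

namespace Cfsg.Agent.H40

open Cfsg.Lie Cfsg.Agent.H34 Cfsg.Agent.H37

theorem covE8 : CovCert chevE8 [(0,2),(1,3),(2,3),(3,4),(4,5),(5,6),(6,7)]
    [([0],[2,3],0,76,104),([1],[2,3],1,5,7),([2],[0,3],2,76,77),([3],[1,2,4],3,4,5),([4],[3,5],4,3,4),([5],[4,6],5,2,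
    3),([6],[5,7],6,1,2),([7],[6],7,0,1)] [] := by
  decide +kernel

/-- steps towards the class representatives -/
def clsTE8 : List (ℕ × ℕ × ℕ) :=
    [(0,0,0),(0,0,0),(3,10,6),(0,0,0),(0,5,2),(2,1,1),(0,7,2),(2,3,1),(2,12,4),(1,11,2),(2,14,5),(3,3,1),(3,4,3),(3,5,
    2),(1,12,4),(1,13,3),(3,24,6),(3,25,4),(5,50,14),(2,23,6),(0,21,6),(2,17,5),(3,30,6),(3,31,5),(4,8,5),(4,9,3),(4,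
    10,6),(4,11,2),(4,12,4),(4,13,3),(4,14,5),(4,15,4),(4,48,8),(4,49,6),(3,42,12),(4,51,8),(4,52,8),(4,53,7),(4,54,8),
    (4,55,7),(2,44,10),(1,43,10),(2,46,11),(3,35,9),(3,36,9),(3,37,8),(1,44,10),(1,45,9),(5,16,7),(5,17,5),(4,34,13),
    (5,19,7),(5,20,7),(5,21,6),(5,22,7),(5,23,6),(5,24,6),(5,25,4),(5,26,7),(5,27,3),(5,28,5),(5,29,4),(5,30,6),(5,31,
    5),(5,96,10),(5,97,8),(5,98,14),(5,99,10),(5,100,10),(5,101,9),(5,102,10),(5,103,9),(5,104,12),(5,105,12),(5,106,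
    13),(5,107,11),(5,108,11),(5,109,10),(5,110,12),(5,111,11),(3,88,14),(3,89,14),(7,210,28),(2,87,14),(0,85,16),(2,
    81,15),(3,94,14),(3,95,13),(4,72,13),(4,73,13),(4,74,14),(4,75,12),(4,76,12),(4,77,11),(4,78,13),(4,79,12),(6,32,
    9),(6,33,7),(6,34,13),(6,35,9),(6,36,9),(6,37,8),(6,38,9),(6,39,8),(6,40,11),(6,41,11),(6,42,12),(6,43,10),(6,44,
    10),(6,45,9),(6,46,11),(6,47,10),(6,48,8),(6,49,6),(6,50,14),(6,51,8),(6,52,8),(6,53,7),(6,54,8),(6,55,7),(6,56,7),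
    (6,57,5),(6,58,8),(6,59,4),(6,60,6),(6,61,5),(6,62,7),(6,63,6),(6,192,12),(6,193,10),(6,194,16),(6,195,12),(6,196,
    12),(6,197,11),(6,198,12),(6,199,11),(6,200,14),(6,201,14),(6,202,15),(6,203,13),(6,204,13),(6,205,12),(6,206,14),
    (6,207,13),(6,208,16),(6,209,16),(5,178,26),(6,211,16),(6,212,18),(6,213,17),(6,214,16),(6,215,15),(6,216,15),(6,
    217,15),(6,218,16),(6,219,14),(6,220,14),(6,221,13),(6,222,15),(6,223,14),(4,176,18),(4,177,18),(3,170,24),(4,179,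
    18),(4,180,20),(4,181,19),(4,182,18),(4,183,17),(2,172,22),(1,171,20),(2,174,23),(3,163,19),(3,164,21),(3,165,20),
    (1,172,22),(1,173,21),(5,144,17),(5,145,17),(4,162,25),(5,147,17),(5,148,19),(5,149,18),(5,150,17),(5,151,16),(5,
    152,16),(5,153,16),(5,154,17),(5,155,15),(5,156,15),(5,157,14),(5,158,16),(5,159,15),(7,64,11),(7,65,9),(7,66,15),
    (7,67,11),(7,68,11),(7,69,10),(7,70,11),(7,71,10),(7,72,13),(7,73,13),(7,74,14),(7,75,12),(7,76,12),(7,77,11),(7,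
    78,13),(7,79,12),(7,80,15),(7,81,15),(6,146,27),(7,83,15),(7,84,17),(7,85,16),(7,86,15),(7,87,14),(7,88,14),(7,89,
    14),(7,90,15),(7,91,13),(7,92,13),(7,93,12),(7,94,14),(7,95,13),(7,96,10),(7,97,8),(7,98,14),(7,99,10),(7,100,10),
    (7,101,9),(7,102,10),(7,103,9),(7,104,12),(7,105,12),(7,106,13),(7,107,11),(7,108,11),(7,109,10),(7,110,12),(7,111,
    11),(7,112,9),(7,113,7),(7,114,15),(7,115,9),(7,116,9),(7,117,8),(7,118,9),(7,119,8),(7,120,8),(7,121,6),(7,122,9),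
    (7,123,5),(7,124,7),(7,125,6),(7,126,8),(7,127,7)]

theorem clsE8 : ClsCert (tabOf chevE8) [3,1] clsTE8 := by
  rw [tabOf_eq validE8]; decide +kernel

/-- coordinates of the roots -/
def rcE8m3 : List (List ℤ) :=
    [[-2,-2,-2,-2,-2,-1,-1,-1],[-1,-2,-2,-2,-2,-1,-1,-1],[-1,-1,-2,-2,-2,-1,-1,-1],[-1,-1,-1,-2,-2,-1,-1,-1],[-1,-1,-1,
    -1,-2,-1,-1,-1],[],[-1,-1,-1,-1,-1,-1,-1,-1],[],[-1,-1,-1,-1,-1,0,-1,-1],[],[],[],[],[],[-1,-1,-1,-1,-1,-1,0,-1],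
    [-1,-1,-1,-1,-1,0,0,-1],[],[],[],[],[],[-1,-1,-1,-1,0,0,0,-1],[-1,-1,-1,0,0,0,0,-1],[-1,-1,0,0,0,0,0,-1],[-1,0,0,0,
    0,0,0,-1],[0,0,0,0,0,0,0,-1],[],[],[],[],[],[],[],[],[],[],[],[],[],[],[],[],[],[],[],[],[-1,-2,-2,-2,-2,-1,-1,0],
    [-1,-1,-2,-2,-2,-1,-1,0],[0,-1,-2,-2,-2,-1,-1,0],[-1,-1,-1,-2,-2,-1,-1,0],[0,-1,-1,-2,-2,-1,-1,0],[0,0,-1,-2,-2,-1,
    -1,0],[-1,-1,-1,-1,-2,-1,-1,0],[0,-1,-1,-1,-2,-1,-1,0],[0,0,-1,-1,-2,-1,-1,0],[0,0,0,-1,-2,-1,-1,0],[],[],[],[],[],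
    [],[],[],[],[],[-1,-1,-1,-1,-1,-1,-1,0],[0,-1,-1,-1,-1,-1,-1,0],[0,0,-1,-1,-1,-1,-1,0],[0,0,0,-1,-1,-1,-1,0],[0,0,
    0,0,-1,-1,-1,0],[-1,-1,-1,-1,-1,0,-1,0],[0,-1,-1,-1,-1,0,-1,0],[0,0,-1,-1,-1,0,-1,0],[0,0,0,-1,-1,0,-1,0],[0,0,0,0,
    -1,0,-1,0],[],[0,0,0,0,0,0,-1,0],[],[],[],[],[],[],[],[],[],[],[-1,-1,-1,-1,-1,-1,0,0],[0,-1,-1,-1,-1,-1,0,0],[0,0,
    -1,-1,-1,-1,0,0],[0,0,0,-1,-1,-1,0,0],[0,0,0,0,-1,-1,0,0],[],[],[],[],[],[0,0,0,0,0,-1,0,0],[-1,-1,-1,-1,-1,0,0,0],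
    [0,-1,-1,-1,-1,0,0,0],[0,0,-1,-1,-1,0,0,0],[0,0,0,-1,-1,0,0,0],[0,0,0,0,-1,0,0,0],[],[],[],[],[],[],[-1,-1,-1,-1,0,
    0,0,0],[0,-1,-1,-1,0,0,0,0],[0,0,-1,-1,0,0,0,0],[0,0,0,-1,0,0,0,0],[-1,-1,-1,0,0,0,0,0],[0,-1,-1,0,0,0,0,0],[0,0,
    -1,0,0,0,0,0],[-1,-1,0,0,0,0,0,0],[0,-1,0,0,0,0,0,0],[-1,0,0,0,0,0,0,0],[1,0,0,0,0,0,0,0],[0,1,0,0,0,0,0,0],[1,1,0,
    0,0,0,0,0],[0,0,1,0,0,0,0,0],[0,1,1,0,0,0,0,0],[1,1,1,0,0,0,0,0],[0,0,0,1,0,0,0,0],[0,0,1,1,0,0,0,0],[0,1,1,1,0,0,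
    0,0],[1,1,1,1,0,0,0,0],[],[],[],[],[],[],[0,0,0,0,1,0,0,0],[0,0,0,1,1,0,0,0],[0,0,1,1,1,0,0,0],[0,1,1,1,1,0,0,0],
    [1,1,1,1,1,0,0,0],[0,0,0,0,0,1,0,0],[],[],[],[],[],[0,0,0,0,1,1,0,0],[0,0,0,1,1,1,0,0],[0,0,1,1,1,1,0,0],[0,1,1,1,
    1,1,0,0],[1,1,1,1,1,1,0,0],[],[],[],[],[],[],[],[],[],[],[0,0,0,0,0,0,1,0],[],[0,0,0,0,1,0,1,0],[0,0,0,1,1,0,1,0],
    [0,0,1,1,1,0,1,0],[0,1,1,1,1,0,1,0],[1,1,1,1,1,0,1,0],[0,0,0,0,1,1,1,0],[0,0,0,1,1,1,1,0],[0,0,1,1,1,1,1,0],[0,1,1,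
    1,1,1,1,0],[1,1,1,1,1,1,1,0],[],[],[],[],[],[],[],[],[],[],[0,0,0,1,2,1,1,0],[0,0,1,1,2,1,1,0],[0,1,1,1,2,1,1,0],
    [1,1,1,1,2,1,1,0],[0,0,1,2,2,1,1,0],[0,1,1,2,2,1,1,0],[1,1,1,2,2,1,1,0],[0,1,2,2,2,1,1,0],[1,1,2,2,2,1,1,0],[1,2,2,
    2,2,1,1,0],[],[],[],[],[],[],[],[],[],[],[],[],[],[],[],[],[],[],[],[],[0,0,0,0,0,0,0,1],[1,0,0,0,0,0,0,1],[1,1,0,
    0,0,0,0,1],[1,1,1,0,0,0,0,1],[1,1,1,1,0,0,0,1],[],[],[],[],[],[1,1,1,1,1,0,0,1],[1,1,1,1,1,1,0,1],[],[],[],[],[],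
    [1,1,1,1,1,0,1,1],[],[1,1,1,1,1,1,1,1],[],[1,1,1,1,2,1,1,1],[1,1,1,2,2,1,1,1],[1,1,2,2,2,1,1,1],[1,2,2,2,2,1,1,1],
    [2,2,2,2,2,1,1,1]]

/-- Cartan matrix -/
def cartE8m3 : List (List ℤ) :=
    [[2,-1,0,0,0,0,0,-1],[-1,2,-1,0,0,0,0,0],[0,-1,2,-1,0,0,0,0],[0,0,-1,2,-1,0,0,0],[0,0,0,-1,2,-1,-1,0],[0,0,0,0,-1,
    2,0,0],[0,0,0,0,-1,0,2,0],[-1,0,0,0,0,0,0,2]]

theorem subE8m3 : SubCert (tabOf chevE8) 3 [120,121,123,126,136,141,162,214] rcE8m3 rcE8m3 cartE8m3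
    [[4,4,4,4,4,2,2,2],[4,6,6,6,6,3,3,2],[4,6,8,8,8,4,4,2],[4,6,8,10,10,5,5,2],[4,6,8,10,12,6,6,2],[2,3,4,5,6,4,3,1],
    [2,3,4,5,6,3,4,1],[2,2,2,2,2,1,1,2]] 2 := by
  rw [tabOf_eq validE8]; decide +kernel

/-- values of the Weyl vector -/
def rhE8m3 : List ℤ :=
    [-52,-48,-44,-40,-36,-55,-32,-51,-28,-47,-43,-39,-35,-31,-28,-24,-43,-39,-35,-31,-27,-20,-16,-12,-8,-4,-35,-31,-27,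
    -23,-27,-23,-19,-19,-15,-11,-31,-27,-23,-19,-23,-19,-15,-15,-11,-7,-44,-40,-36,-36,-32,-28,-32,-28,-24,-20,-19,-15,
    -11,-11,-7,-3,-7,-3,1,5,-28,-24,-20,-16,-12,-24,-20,-16,-12,-8,-27,-4,-15,-11,-7,-7,-3,1,-3,1,5,9,-24,-20,-16,-12,
    -8,1,5,9,13,17,-4,-20,-16,-12,-8,-4,-23,5,9,13,17,21,-16,-12,-8,-4,-12,-8,-4,-8,-4,-4,4,4,8,4,8,12,4,8,12,16,-19,
    -15,-11,-7,-3,25,4,8,12,16,20,4,-15,-11,-7,-3,1,8,12,16,20,24,-7,-3,1,5,1,5,9,9,13,17,4,29,8,12,16,20,24,12,16,20,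
    24,28,-3,1,5,9,5,9,13,13,17,21,20,24,28,32,28,32,36,36,40,44,9,13,17,17,21,25,21,25,29,33,13,17,21,21,25,29,25,29,
    33,37,4,8,12,16,20,29,33,37,41,45,24,28,33,37,41,45,49,28,53,32,57,36,40,44,48,52]

theorem rigE8m3 : RigCert (tabOf chevE8) 3 [42,56,82,110,92,72,50,26] rhE8m3
    [(1,[]),(120,[1]),(130,[1,120]),(121,[120,130]),(123,[120,121]),(126,[121,123]),(135,[126]),(141,[121,126,135]),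
    (162,[130,135])] := by
  rw [tabOf_eq validE8]; decide +kernel

/-- orbit certificates -/
def chainE8m3 : List (List ℕ × List (List ℤ × ℤ)) :=
    [([0,1,2,3,4,5,6],[([0,0,0,0,0,0,0,-1],14),([-1,0,0,0,0,0,0,1],13),([1,-1,0,0,0,0,0,0],12),([0,1,-1,0,0,0,0,0],11),
    ([0,0,1,-1,0,0,0,0],10),([0,0,0,1,-1,0,0,0],9),([0,0,0,0,1,-1,-1,0],8),([0,0,0,0,0,1,-1,0],7),([0,0,0,0,0,-1,1,0],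
    7),([0,0,0,0,-1,1,1,0],6),([0,0,0,-1,1,0,0,0],5),([0,0,-1,1,0,0,0,0],4),([0,-1,1,0,0,0,0,0],3),([-1,1,0,0,0,0,0,0],
    2),([1,0,0,0,0,0,0,-1],1),([0,0,0,0,0,0,0,1],0)]),([1,2,3,4,5,6],[([-1,0,0,0,0,0,0,2],12),([1,-1,0,0,0,0,0,1],11),
    ([0,1,-1,0,0,0,0,1],10),([0,0,1,-1,0,0,0,1],9),([0,0,0,1,-1,0,0,1],8),([0,0,0,0,1,-1,-1,1],7),([0,0,0,0,0,1,-1,1],
    6),([0,0,0,0,0,-1,1,1],6),([0,0,0,0,-1,1,1,1],5),([0,0,0,-1,1,0,0,1],4),([0,0,-1,1,0,0,0,1],3),([0,-1,1,0,0,0,0,1],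
    2),([-1,1,0,0,0,0,0,1],1),([1,0,0,0,0,0,0,0],0)]),([2,3,4,5,6],[([2,-1,0,0,0,0,0,0],10),([1,1,-1,0,0,0,0,0],9),([1,
    0,1,-1,0,0,0,0],8),([1,0,0,1,-1,0,0,0],7),([1,0,0,0,1,-1,-1,0],6),([1,0,0,0,0,1,-1,0],5),([1,0,0,0,0,-1,1,0],5),
    ([1,0,0,0,-1,1,1,0],4),([1,0,0,-1,1,0,0,0],3),([1,0,-1,1,0,0,0,0],2),([1,-1,1,0,0,0,0,0],1),([0,1,0,0,0,0,0,0],
    0)]),([3,4,5,6],[([0,2,-1,0,0,0,0,0],8),([0,1,1,-1,0,0,0,0],7),([0,1,0,1,-1,0,0,0],6),([0,1,0,0,1,-1,-1,0],5),([0,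
    1,0,0,0,1,-1,0],4),([0,1,0,0,0,-1,1,0],4),([0,1,0,0,-1,1,1,0],3),([0,1,0,-1,1,0,0,0],2),([0,1,-1,1,0,0,0,0],1),([0,
    0,1,0,0,0,0,0],0)]),([4,5,6],[([0,0,2,-1,0,0,0,0],6),([0,0,1,1,-1,0,0,0],5),([0,0,1,0,1,-1,-1,0],4),([0,0,1,0,0,1,
    -1,0],3),([0,0,1,0,0,-1,1,0],3),([0,0,1,0,-1,1,1,0],2),([0,0,1,-1,1,0,0,0],1),([0,0,0,1,0,0,0,0],0)]),([4,6],[([0,
    0,0,1,0,0,-1,0],3),([0,0,0,1,-1,0,1,0],2),([0,0,0,0,1,-1,0,0],1),([0,0,0,0,0,1,0,0],0)]),([6],[([0,0,0,1,0,1,-1,0],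
    2),([0,0,0,1,-1,1,1,0],1),([0,0,0,0,1,0,0,0],0)]),([],[([0,0,0,0,1,0,-1,0],1),([0,0,0,0,0,0,1,0],0)])]

theorem cardE8m3 (C : Cert chevE8) {F : Type*} [Field F] [Fintype F] (hF : Odd (Fintype.card F)) :
    Nat.card (Subgroup.centralizer {tm C F 3}) =
      Fintype.card F ^ 56 * ([8,2,4,6,8,10,12,14].map fun d => Fintype.card F ^ d - 1).prod :=
  subE8m3.card hF rigE8m3 kerE8 (by rw [tabOf_eq validE8]; decide +kernel) (M := 15) (cs := chainE8m3)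
    (by decide +kernel) (by decide +kernel)

theorem orderOfE8m3 (C : Cert chevE8) {F : Type*} [Field F] (h2 : (2 : F) ≠ 0) : orderOf (tm C F 3) = 2 :=
  orderOf_tm h2 (r := 5) (by decide) (by decide +kernel)

/-- coordinates of the roots -/
def rcE8m1 : List (List ℤ) :=
    [[-2,-3,-4,-3,-2,-1,0,-2],[-1,-3,-4,-3,-2,-1,0,-2],[-1,-2,-4,-3,-2,-1,0,-2],[-1,-2,-3,-3,-2,-1,0,-2],[-1,-2,-3,-2,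
    -2,-1,0,-2],[-1,-2,-3,-2,-1,-1,0,-2],[],[-1,-2,-3,-2,-1,0,0,-2],[],[],[],[],[],[],[],[],[],[],[],[],[],[-1,-2,-3,
    -3,-2,-1,0,-1],[-1,-2,-3,-2,-2,-1,0,-1],[-1,-2,-2,-2,-2,-1,0,-1],[-1,-1,-2,-2,-2,-1,0,-1],[0,-1,-2,-2,-2,-1,0,-1],
    [-1,-2,-3,-2,-1,-1,0,-1],[-1,-2,-2,-2,-1,-1,0,-1],[-1,-1,-2,-2,-1,-1,0,-1],[0,-1,-2,-2,-1,-1,0,-1],[-1,-2,-2,-1,-1,
    -1,0,-1],[-1,-1,-2,-1,-1,-1,0,-1],[0,-1,-2,-1,-1,-1,0,-1],[-1,-1,-1,-1,-1,-1,0,-1],[0,-1,-1,-1,-1,-1,0,-1],[0,0,-1,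
    -1,-1,-1,0,-1],[-1,-2,-3,-2,-1,0,0,-1],[-1,-2,-2,-2,-1,0,0,-1],[-1,-1,-2,-2,-1,0,0,-1],[0,-1,-2,-2,-1,0,0,-1],[-1,
    -2,-2,-1,-1,0,0,-1],[-1,-1,-2,-1,-1,0,0,-1],[0,-1,-2,-1,-1,0,0,-1],[-1,-1,-1,-1,-1,0,0,-1],[0,-1,-1,-1,-1,0,0,-1],
    [0,0,-1,-1,-1,0,0,-1],[-1,-2,-2,-1,0,0,0,-1],[-1,-1,-2,-1,0,0,0,-1],[0,-1,-2,-1,0,0,0,-1],[-1,-1,-1,-1,0,0,0,-1],
    [0,-1,-1,-1,0,0,0,-1],[0,0,-1,-1,0,0,0,-1],[-1,-1,-1,0,0,0,0,-1],[0,-1,-1,0,0,0,0,-1],[0,0,-1,0,0,0,0,-1],[0,0,0,0,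
    0,0,0,-1],[],[],[],[],[],[],[],[],[],[],[],[],[],[],[],[],[],[],[],[],[],[0,0,0,0,0,0,-1,0],[],[],[],[],[],[],[],
    [],[],[],[],[],[],[],[],[-1,-1,-1,-1,-1,-1,0,0],[0,-1,-1,-1,-1,-1,0,0],[0,0,-1,-1,-1,-1,0,0],[0,0,0,-1,-1,-1,0,0],
    [0,0,0,0,-1,-1,0,0],[0,0,0,0,0,-1,0,0],[],[],[],[],[],[],[-1,-1,-1,-1,-1,0,0,0],[0,-1,-1,-1,-1,0,0,0],[0,0,-1,-1,
    -1,0,0,0],[0,0,0,-1,-1,0,0,0],[0,0,0,0,-1,0,0,0],[-1,-1,-1,-1,0,0,0,0],[0,-1,-1,-1,0,0,0,0],[0,0,-1,-1,0,0,0,0],[0,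
    0,0,-1,0,0,0,0],[-1,-1,-1,0,0,0,0,0],[0,-1,-1,0,0,0,0,0],[0,0,-1,0,0,0,0,0],[-1,-1,0,0,0,0,0,0],[0,-1,0,0,0,0,0,0],
    [-1,0,0,0,0,0,0,0],[1,0,0,0,0,0,0,0],[0,1,0,0,0,0,0,0],[1,1,0,0,0,0,0,0],[0,0,1,0,0,0,0,0],[0,1,1,0,0,0,0,0],[1,1,
    1,0,0,0,0,0],[0,0,0,1,0,0,0,0],[0,0,1,1,0,0,0,0],[0,1,1,1,0,0,0,0],[1,1,1,1,0,0,0,0],[0,0,0,0,1,0,0,0],[0,0,0,1,1,
    0,0,0],[0,0,1,1,1,0,0,0],[0,1,1,1,1,0,0,0],[1,1,1,1,1,0,0,0],[],[],[],[],[],[],[0,0,0,0,0,1,0,0],[0,0,0,0,1,1,0,0],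
    [0,0,0,1,1,1,0,0],[0,0,1,1,1,1,0,0],[0,1,1,1,1,1,0,0],[1,1,1,1,1,1,0,0],[],[],[],[],[],[],[],[],[],[],[],[],[],[],
    [],[0,0,0,0,0,0,1,0],[],[],[],[],[],[],[],[],[],[],[],[],[],[],[],[],[],[],[],[],[],[0,0,0,0,0,0,0,1],[0,0,1,0,0,0,
    0,1],[0,1,1,0,0,0,0,1],[1,1,1,0,0,0,0,1],[0,0,1,1,0,0,0,1],[0,1,1,1,0,0,0,1],[1,1,1,1,0,0,0,1],[0,1,2,1,0,0,0,1],
    [1,1,2,1,0,0,0,1],[1,2,2,1,0,0,0,1],[0,0,1,1,1,0,0,1],[0,1,1,1,1,0,0,1],[1,1,1,1,1,0,0,1],[0,1,2,1,1,0,0,1],[1,1,2,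
    1,1,0,0,1],[1,2,2,1,1,0,0,1],[0,1,2,2,1,0,0,1],[1,1,2,2,1,0,0,1],[1,2,2,2,1,0,0,1],[1,2,3,2,1,0,0,1],[0,0,1,1,1,1,
    0,1],[0,1,1,1,1,1,0,1],[1,1,1,1,1,1,0,1],[0,1,2,1,1,1,0,1],[1,1,2,1,1,1,0,1],[1,2,2,1,1,1,0,1],[0,1,2,2,1,1,0,1],
    [1,1,2,2,1,1,0,1],[1,2,2,2,1,1,0,1],[1,2,3,2,1,1,0,1],[0,1,2,2,2,1,0,1],[1,1,2,2,2,1,0,1],[1,2,2,2,2,1,0,1],[1,2,3,
    2,2,1,0,1],[1,2,3,3,2,1,0,1],[],[],[],[],[],[],[],[],[],[],[],[],[],[1,2,3,2,1,0,0,2],[],[1,2,3,2,1,1,0,2],[1,2,3,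
    2,2,1,0,2],[1,2,3,3,2,1,0,2],[1,2,4,3,2,1,0,2],[1,3,4,3,2,1,0,2],[2,3,4,3,2,1,0,2]]

/-- Cartan matrix -/
def cartE8m1 : List (List ℤ) :=
    [[2,-1,0,0,0,0,0,0],[-1,2,-1,0,0,0,0,0],[0,-1,2,-1,0,0,0,-1],[0,0,-1,2,-1,0,0,0],[0,0,0,-1,2,-1,0,0],[0,0,0,0,-1,2,
    0,0],[0,0,0,0,0,0,2,0],[0,0,-1,0,0,0,0,2]]

theorem subE8m1 : SubCert (tabOf chevE8) 1 [120,121,123,126,130,141,162,184] rcE8m1 rcE8m1 cartE8m1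
    [[4,6,8,6,4,2,0,4],[6,12,16,12,8,4,0,8],[8,16,24,18,12,6,0,12],[6,12,18,15,10,5,0,9],[4,8,12,10,8,4,0,6],[2,4,6,5,
    4,3,0,3],[0,0,0,0,0,0,1,0],[4,8,12,9,6,3,0,7]] 2 := by
  rw [tabOf_eq validE8]; decide +kernel

/-- values of the Weyl vector -/
def rhE8m1 : List ℤ :=
    [-68,-64,-60,-56,-52,-48,-55,-44,-51,-47,-43,-39,-35,-31,-51,-47,-43,-39,-35,-31,-27,-52,-48,-44,-40,-36,-44,-40,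
    -36,-32,-36,-32,-28,-28,-24,-20,-40,-36,-32,-28,-32,-28,-24,-24,-20,-16,-28,-24,-20,-20,-16,-12,-16,-12,-8,-4,-35,
    -31,-27,-27,-23,-19,-23,-19,-15,-11,-19,-15,-11,-7,-3,-15,-11,-7,-3,1,5,-4,-31,-27,-23,-23,-19,-15,-19,-15,-11,-7,
    -15,-11,-7,-3,1,-24,-20,-16,-12,-8,-4,-11,-7,-3,1,5,9,-20,-16,-12,-8,-4,-16,-12,-8,-4,-12,-8,-4,-8,-4,-4,4,4,8,4,8,
    12,4,8,12,16,4,8,12,16,20,-7,-3,1,5,9,13,4,8,12,16,20,24,1,5,9,13,17,9,13,17,21,17,21,25,25,29,33,4,-3,1,5,9,13,17,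
    5,9,13,17,21,13,17,21,25,21,25,29,29,33,37,4,8,12,16,12,16,20,20,24,28,16,20,24,24,28,32,28,32,36,40,20,24,28,28,
    32,36,32,36,40,44,36,40,44,48,52,29,33,37,41,45,49,53,33,37,41,45,49,53,44,57,48,52,56,60,64,68]

theorem rigE8m1 : RigCert (tabOf chevE8) 1 [50,76,98,150,124,96,66,34] rhE8m1
    [(3,[]),(123,[3]),(121,[3,123]),(120,[123,121]),(135,[123,120]),(126,[123,120,135]),(130,[135,126]),(141,[126,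
    130]),(162,[135,141])] := by
  rw [tabOf_eq validE8]; decide +kernel

/-- orbit certificates -/
def chainE8m1 : List (List ℕ × List (List ℤ × ℤ)) :=
    [([0,1,2,3,4,5,7],[([0,0,0,0,0,0,-1,0],1),([0,0,0,0,0,0,1,0],0)]),([0,1,2,3,4,7],[([0,0,0,0,0,-1,0,0],27),([0,0,0,
    0,-1,1,0,0],26),([0,0,0,-1,1,0,0,0],25),([0,0,-1,1,0,0,0,0],24),([0,-1,1,0,0,0,0,-1],23),([-1,1,0,0,0,0,0,-1],22),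
    ([0,-1,0,0,0,0,0,1],22),([1,0,0,0,0,0,0,-1],21),([-1,1,-1,0,0,0,0,1],21),([1,0,-1,0,0,0,0,1],20),([-1,0,1,-1,0,0,0,
    0],20),([1,-1,1,-1,0,0,0,0],19),([-1,0,0,1,-1,0,0,0],19),([-1,0,0,0,1,-1,0,0],18),([0,1,0,-1,0,0,0,0],18),([1,-1,0,
    1,-1,0,0,0],18),([-1,0,0,0,0,1,0,0],17),([1,-1,0,0,1,-1,0,0],17),([0,1,-1,1,-1,0,0,0],17),([1,-1,0,0,0,1,0,0],16),
    ([0,1,-1,0,1,-1,0,0],16),([0,0,1,0,-1,0,0,-1],16),([0,1,-1,0,0,1,0,0],15),([0,0,1,-1,1,-1,0,-1],15),([0,0,0,0,-1,0,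
    0,1],15),([0,0,0,1,0,-1,0,-1],14),([0,0,1,-1,0,1,0,-1],14),([0,0,0,-1,1,-1,0,1],14),([0,0,0,1,-1,1,0,-1],13),([0,0,
    -1,1,0,-1,0,1],13),([0,0,0,-1,0,1,0,1],13),([0,-1,1,0,0,-1,0,0],12),([0,0,0,0,1,0,0,-1],12),([0,0,-1,1,-1,1,0,1],
    12),([-1,1,0,0,0,-1,0,0],11),([0,-1,1,0,-1,1,0,0],11),([0,0,-1,0,1,0,0,1],11),([1,0,0,0,0,-1,0,0],10),([-1,1,0,0,
    -1,1,0,0],10),([0,-1,1,-1,1,0,0,0],10),([1,0,0,0,-1,1,0,0],9),([-1,1,0,-1,1,0,0,0],9),([0,-1,0,1,0,0,0,0],9),([1,0,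
    0,-1,1,0,0,0],8),([-1,1,-1,1,0,0,0,0],8),([1,0,-1,1,0,0,0,0],7),([-1,0,1,0,0,0,0,-1],7),([1,-1,1,0,0,0,0,-1],6),
    ([-1,0,0,0,0,0,0,1],6),([0,1,0,0,0,0,0,-1],5),([1,-1,0,0,0,0,0,1],5),([0,1,-1,0,0,0,0,1],4),([0,0,1,-1,0,0,0,0],3),
    ([0,0,0,1,-1,0,0,0],2),([0,0,0,0,1,-1,0,0],1),([0,0,0,0,0,1,0,0],0)]),([1,2,3,4,7],[([0,0,0,0,-1,2,0,0],16),([0,0,
    0,-1,1,1,0,0],15),([0,0,-1,1,0,1,0,0],14),([0,-1,1,0,0,1,0,-1],13),([-1,1,0,0,0,1,0,-1],12),([0,-1,0,0,0,1,0,1],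
    12),([1,0,0,0,0,1,0,-1],11),([-1,1,-1,0,0,1,0,1],11),([1,0,-1,0,0,1,0,1],10),([-1,0,1,-1,0,1,0,0],10),([1,-1,1,-1,
    0,1,0,0],9),([-1,0,0,1,-1,1,0,0],9),([-1,0,0,0,1,0,0,0],8),([0,1,0,-1,0,1,0,0],8),([1,-1,0,1,-1,1,0,0],8),([1,-1,0,
    0,1,0,0,0],7),([0,1,-1,1,-1,1,0,0],7),([0,1,-1,0,1,0,0,0],6),([0,0,1,0,-1,1,0,-1],6),([0,0,1,-1,1,0,0,-1],5),([0,0,
    0,0,-1,1,0,1],5),([0,0,0,1,0,0,0,-1],4),([0,0,0,-1,1,0,0,1],4),([0,0,-1,1,0,0,0,1],3),([0,-1,1,0,0,0,0,0],2),([-1,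
    1,0,0,0,0,0,0],1),([1,0,0,0,0,0,0,0],0)]),([1,2,3,7],[([1,0,0,0,-1,2,0,0],8),([1,0,0,-1,1,1,0,0],7),([1,0,-1,1,0,1,
    0,0],6),([1,-1,1,0,0,1,0,-1],5),([0,1,0,0,0,1,0,-1],4),([1,-1,0,0,0,1,0,1],4),([0,1,-1,0,0,1,0,1],3),([0,0,1,-1,0,
    1,0,0],2),([0,0,0,1,-1,1,0,0],1),([0,0,0,0,1,0,0,0],0)]),([2,3,7],[([2,-1,0,0,1,0,0,0],6),([1,1,-1,0,1,0,0,0],5),
    ([1,0,1,-1,1,0,0,-1],4),([1,0,0,1,0,0,0,-1],3),([1,0,0,-1,1,0,0,1],3),([1,0,-1,1,0,0,0,1],2),([1,-1,1,0,0,0,0,0],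
    1),([0,1,0,0,0,0,0,0],0)]),([2,7],[([0,1,0,0,1,0,0,-1],3),([0,1,-1,0,1,0,0,1],2),([0,0,1,-1,1,0,0,0],1),([0,0,0,1,
    0,0,0,0],0)]),([7],[([0,1,0,1,0,0,0,-1],2),([0,1,-1,1,0,0,0,1],1),([0,0,1,0,0,0,0,0],0)]),([],[([0,0,1,0,0,0,0,-1],
    1),([0,0,0,0,0,0,0,1],0)])]

theorem cardE8m1 (C : Cert chevE8) {F : Type*} [Field F] [Fintype F] (hF : Odd (Fintype.card F)) :
    Nat.card (Subgroup.centralizer {tm C F 1}) =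
      Fintype.card F ^ 64 * ([2,2,6,8,10,12,14,18].map fun d => Fintype.card F ^ d - 1).prod :=
  subE8m1.card hF rigE8m1 kerE8 (by rw [tabOf_eq validE8]; decide +kernel) (M := 28) (cs := chainE8m1)
    (by decide +kernel) (by decide +kernel)

theorem orderOfE8m1 (C : Cert chevE8) {F : Type*} [Field F] (h2 : (2 : F) ≠ 0) : orderOf (tm C F 1) = 2 :=
  orderOf_tm h2 (r := 6) (by decide) (by decide +kernel)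

end Cfsg.Agent.H40
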