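import Cfsg.Agent.H40.L3Defs
import Cfsg.Agent.H40.AAa

/-! Project L33: general lemmas. -/

set_option autoImplicit false
set_option linter.unusedSectionVars false

noncomputable section

namespace Cfsg.Agent.H40.L3

open Subgroup Cfsg.Agent.H83

variable {G : Type*} [Group G]

instance fact2 : Fact (Nat.Prime 2) := ⟨Nat.prime_two⟩

theorem syl_cover [Finite G] {P N K : Subgroup G} (hP : IsSylowIn 2 P N)
    (hn : N ≤ normalizer (K : Set G)) (h2 : ∀ h ∈ N, ∃ k : ℕ, h ^ 2 ^ k ∈ K) {h : G} (hh : h ∈ N) :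
    ∃ p ∈ P, h * p⁻¹ ∈ K := by
  have := hP.le_sup_of_pMod hn h2 hh
  obtain ⟨k, hk, p, hp, rfl⟩ := (mem_sup_left_norm (hP.le.trans hn)).1 this
  exact ⟨p, hp, by simpa using hk⟩

/-- if `⟨z⟩` is a central Sylow 2-subgroup of `K` then `k * kˣ ≠ z` -/
theorem no_sq_z [Finite G] {K : Subgroup G} {z x k : G} (hz : z ∈ K) (z1 : z ≠ 1) (z2 : z * z = 1)
    (hc : ∀ y ∈ K, y * z = z * y) (hs : ∀ y ∈ K, y * y = 1 → y = 1 ∨ y = z)
    (hs4 : ∀ y ∈ K, y * y ≠ z) (hx : x ∈ normalizer (K : Set G)) (hxz : x * z = z * x)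
    (hk : k ∈ K) : k * (x * k * x⁻¹) ≠ z := by
  classical
  intro e
  have zp : z ^ 2 ^ 1 = 1 := by simpa [pow_two] using z2
  have mz : ∀ y, y ∈ zpowers z ↔ y = 1 ∨ y = z := fun y => by
    constructor
    · rintro ⟨i, rfl⟩
      have o2 : orderOf z = 2 := orderOf_eq_prime (by simpa [pow_two] using z2) z1
      show z ^ i = 1 ∨ z ^ i = z
      rcases Int.emod_two_eq_zero_or_one i with h | h
      · left; rw [← zpow_mod_orderOf, o2]; simp [h]
      · right; rw [← zpow_mod_orderOf, o2]; simp [h]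
    · rintro (rfl | rfl)
      · exact one_mem _
      · exact mem_zpowers _
  have hS : IsSylowIn 2 (zpowers z) K := by
    refine ⟨zpowers_le.2 hz, isPGroup_zpowers zp, fun P hP hp hle => le_antisymm (fun y hy => ?_) hle⟩
    obtain ⟨j, hj⟩ := isPGroup_iff.1 hp y hy
    induction j generalizing y with
    | zero => rw [pow_zero, pow_one] at hj; exact hj ▸ one_mem _
    | succ j ih =>
      have := ih (y * y) (mul_mem hy hy) (by rw [← pow_two, ← pow_mul, ← pow_succ', hj])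
      rcases (mz _).1 this with h | h
      · exact (mz _).2 (hs y (hP hy) h)
      · exact absurd h (hs4 y (hP hy))
  set H : Subgroup K := (zpowers z).subgroupOf K with hH
  have ho : Odd H.index := Nat.not_even_iff_odd.1 fun h => hS.not_dvd_relIndex (even_iff_two_dvd.1 h)
  haveI : IsMulCommutative (zpowers z) := inferInstance
  have cen : ∀ y : K, y ∈ H → ∀ g : K, g * y = y * g := fun y hy g => Subtype.ext (by
    show (g : G) * y = y * g
    rcases (mz _).1 hy with h | h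
    · have h' : (y : G) = 1 := h
      rw [h', mul_one, one_mul]
    · have h' : (y : G) = z := h
      rw [h', hc g g.2])
  letI : CommGroup H := { (inferInstance : Group H) with
    mul_comm := fun a b => Subtype.ext (cen _ b.2 _) }
  have key : ∀ g : K, ((MonoidHom.transfer (MonoidHom.id H) g : H) : K) = g ^ H.index := fun g => by
    rw [MonoidHom.transfer_eq_pow (MonoidHom.id H) g fun j g₀ h => by
      have := cen _ h g₀
      calc g₀⁻¹ * g ^ j * g₀ = g₀ * (g₀⁻¹ * g ^ j * g₀) * g₀⁻¹ := by rw [this]; group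
        _ = g ^ j := by group]
    rfl
  have hk' : x * k * x⁻¹ ∈ K := (mem_normalizer_iff.1 hx k).1 hk
  have h1 : (k * (x * k * x⁻¹)) ^ H.index = k ^ H.index * (x * k * x⁻¹) ^ H.index := by
    have := congrArg (fun u : H => ((u : K) : G))
      (map_mul (MonoidHom.transfer (MonoidHom.id H)) ⟨k, hk⟩ ⟨_, hk'⟩)
    simpa [key] using this
  have h2 : k ^ H.index ∈ zpowers z := by
    have := (MonoidHom.transfer (MonoidHom.id H) ⟨k, hk⟩).2
    rw [key] at this
    exact this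
  obtain ⟨j, hj⟩ := ho
  rw [e, conj_pow', hj, pow_succ, pow_mul, pow_two, z2, one_pow, one_mul, ← hj] at h1
  rcases (mz _).1 h2 with h | h <;> rw [h] at h1
  · exact z1 (by simpa using h1)
  · rw [hxz, mul_inv_cancel_right, z2] at h1; exact z1 h1

theorem exists_n [Finite G] {S T : Subgroup G} (hT : IsPGroup 2 T) (h : S ≤ T) (hne : S ≠ T) :
    ∃ n ∈ T, n ∈ normalizer (S : Set G) ∧ n ∉ S ∧ n * n ∈ S := by
  haveI := hT.isNilpotent
  have h1 : S.subgroupOf T < ⊤ := lt_top_iff_ne_top.2 fun e => hne (le_antisymm h (subgroupOf_eq_top.1 e))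
  obtain ⟨⟨x, hx⟩, h2, h3⟩ := SetLike.exists_of_lt (Group.normalizerCondition_of_isNilpotent _ h1)
  have h4 : x ∈ normalizer (S : Set G) := by
    rw [← subgroupOf_normalizer_eq h] at h2; exact h2
  obtain ⟨k, hk⟩ := isPGroup_iff.1 hT x hx
  have h5 : x ∉ S := h3
  clear h2 h3
  induction k generalizing x with
  | zero => exact absurd (by rw [pow_zero, pow_one] at hk; exact hk ▸ one_mem _) h5
  | succ k ih =>
    by_cases e : x * x ∈ S
    · exact ⟨x, hx, h4, h5, e⟩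
    · exact ih (x * x) (mul_mem hx hx) (mul_mem h4 h4)
        (by rw [← pow_two, ← pow_mul, ← pow_succ', hk]) e

theorem eq_of_norm [Finite G] {S T : Subgroup G} (hT : IsPGroup 2 T) (h : S ≤ T)
    (hn : ∀ m ∈ T, m ∈ normalizer (S : Set G) → m ∈ S) : S = T := by
  by_contra hne
  obtain ⟨n, h1, h2, h3, -⟩ := exists_n hT h hne
  exact h3 (hn n h1 h2)

/-- `N(⟨t, z⟩) ∩ C(z)` -/
def NZ (t z : G) (z2 : z * z = 1) : Subgroup G where
  carrier := {g | g * z = z * g ∧ (g * t * g⁻¹ = t ∨ g * t * g⁻¹ = t * z)}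
  one_mem' := by simp
  mul_mem' := by
    rintro a b ⟨h1, h2⟩ ⟨h3, h4⟩
    have az : a * z * a⁻¹ = z := by rw [h1]; group
    refine ⟨by rw [mul_assoc, h3, ← mul_assoc, h1, mul_assoc], ?_⟩
    have e : a * b * t * (a * b)⁻¹ = a * (b * t * b⁻¹) * a⁻¹ := by group
    have e2 : a * (t * z) * a⁻¹ = a * t * a⁻¹ * (a * z * a⁻¹) := by group
    rw [e]
    rcases h4 with h4 | h4 <;> rw [h4]
    · exact h2
    · rw [e2, az]
      rcases h2 with h2 | h2 <;> rw [h2]
      · exact Or.inr rfl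
      · exact Or.inl (by rw [mul_assoc, z2, mul_one])
  inv_mem' := by
    rintro a ⟨h1, h2⟩
    have h3 : a⁻¹ * z = z * a⁻¹ := by
      calc a⁻¹ * z = a⁻¹ * (z * a) * a⁻¹ := by group
        _ = z * a⁻¹ := by rw [← h1]; group
    refine ⟨h3, ?_⟩
    rcases h2 with h2 | h2
    · left; conv_lhs => rw [← h2]
      group
    · right
      have : t = a * t * a⁻¹ * z := by rw [h2, mul_assoc, z2, mul_one]
      conv_lhs => rw [this]
      calc a⁻¹ * (a * t * a⁻¹ * z) * a⁻¹⁻¹ = t * (a⁻¹ * z) * a := by group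
        _ = t * z := by rw [h3]; group

theorem mem_NZ {t z g : G} {z2 : z * z = 1} :
    g ∈ NZ t z z2 ↔ g * z = z * g ∧ (g * t * g⁻¹ = t ∨ g * t * g⁻¹ = t * z) := Iff.rfl

theorem NZ_of {t z a b v : G} (z2 : z * z = 1) (ha : a * z = z * a) (hb : b * z = z * b)
    (h1 : a * t * a⁻¹ = v ∨ a * t * a⁻¹ = v * z) (h2 : b * t * b⁻¹ = v ∨ b * t * b⁻¹ = v * z) :
    a⁻¹ * b ∈ NZ t z z2 := by
  have h3 : a⁻¹ * z = z * a⁻¹ := by
    calc a⁻¹ * z = a⁻¹ * (z * a) * a⁻¹ := by group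
      _ = z * a⁻¹ := by rw [← ha]; group
  refine ⟨by rw [mul_assoc, hb, ← mul_assoc, h3, mul_assoc], ?_⟩
  have e : a⁻¹ * b * t * (a⁻¹ * b)⁻¹ = a⁻¹ * (b * t * b⁻¹) * a := by group
  have k : ∀ u, a⁻¹ * (a * t * a⁻¹ * u) * a = t * (a⁻¹ * u) * a := fun u => by group
  rw [e]
  have c : b * t * b⁻¹ = a * t * a⁻¹ ∨ b * t * b⁻¹ = a * t * a⁻¹ * z := by
    rcases h1 with h1 | h1 <;> rcases h2 with h2 | h2 <;> rw [h1, h2]
    · exact Or.inl rfl
    · exact Or.inr rfl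
    · exact Or.inr (by rw [mul_assoc, z2, mul_one])
    · exact Or.inl rfl
  rcases c with c | c <;> rw [c]
  · left; group
  · right; rw [k, h3]; group

theorem relIndex_le_of_cover [Finite G] {t z : G} (z2 : z * z = 1) {P : Subgroup G}
    (hz : ∀ g ∈ P, g * z = z * g) (s : Finset G)
    (h : ∀ g ∈ P, ∃ v ∈ s, g * t * g⁻¹ = v ∨ g * t * g⁻¹ = v * z) :
    (NZ t z z2).relIndex P ≤ s.card := by
  choose! f hf1 hf2 using h
  rw [relIndex, index, ← Nat.card_eq_finsetCard]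
  refine Nat.card_le_card_of_injective (fun x => ⟨f x.out, hf1 _ x.out.2⟩) fun x y e => ?_
  rw [← x.out_eq', ← y.out_eq', QuotientGroup.eq]
  have e' : f x.out = f y.out := congrArg Subtype.val e
  exact NZ_of z2 (hz _ x.out.2) (hz _ y.out.2) (hf2 _ x.out.2) (e' ▸ hf2 _ y.out.2)

theorem le_relIndex_of [Finite G] {t z : G} (z2 : z * z = 1) {P : Subgroup G}
    (hz : ∀ g ∈ P, g * z = z * g) (s : Finset G) (hs : ∀ v ∈ s, v * z ∉ s)
    (h : ∀ v ∈ s, ∃ g ∈ P, g * t * g⁻¹ = v ∨ g * t * g⁻¹ = v * z) :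
    s.card ≤ (NZ t z z2).relIndex P := by
  choose! f hf1 hf2 using h
  rw [relIndex, index, ← Nat.card_eq_finsetCard]
  refine Nat.card_le_card_of_injective
    (fun v : s => ((⟨f v, hf1 _ v.2⟩ : P) : P ⧸ (NZ t z z2).subgroupOf P)) fun v w e => ?_
  have e0 : (⟨f v, hf1 _ v.2⟩ : P)⁻¹ * ⟨f w, hf1 _ w.2⟩ ∈ (NZ t z z2).subgroupOf P :=
    QuotientGroup.eq.1 e
  have e1 : (f v)⁻¹ * f w ∈ NZ t z z2 := e0
  have e2 : f w * t * (f w)⁻¹ = f v * ((f v)⁻¹ * f w * t * ((f v)⁻¹ * f w)⁻¹) * (f v)⁻¹ := by group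
  have e3 : f v * (t * z) * (f v)⁻¹ = f v * t * (f v)⁻¹ * z := by
    calc f v * (t * z) * (f v)⁻¹ = f v * t * (f v)⁻¹ * (f v * z) * (f v)⁻¹ := by group
      _ = _ := by rw [hz _ (hf1 _ v.2)]; group
  have zz : ∀ u : G, u * z * z = u := fun u => by rw [mul_assoc, z2, mul_one]
  have c : (w : G) = v ∨ (w : G) = v * z := by
    rcases e1.2 with k | k <;> rw [k] at e2 <;> (try rw [e3] at e2) <;>
      rcases hf2 _ v.2 with a | a <;> rcases hf2 _ w.2 with b | b <;> rw [a, b] at e2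
    · exact Or.inl e2
    · exact Or.inr (by rw [← e2, zz])
    · exact Or.inr e2
    · exact Or.inl (mul_right_cancel e2)
    · exact Or.inr e2
    · exact Or.inl (mul_right_cancel e2)
    · exact Or.inl (by rw [e2, zz])
    · exact Or.inr (by rw [← zz w, e2, zz])
  rcases c with c | c
  · exact Subtype.ext c.symm
  · exact absurd (c ▸ w.2) (hs _ v.2)

/-- a Sylow 2-subgroup is transitive on an orbit of 2-power length -/
theorem trans_gen [Finite G] {t z : G} (z2 : z * z = 1) {P P1 N : Subgroup G}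
    (hz : ∀ g ∈ N, g * z = z * g) (hP : IsSylowIn 2 P N) (h1 : IsSylowIn 2 P1 (NZ t z z2))
    (h1P : P1 ≤ P) (s : Finset G) (hs : ∀ v ∈ s, v * z ∉ s) {k : ℕ} (hk : s.card = 2 ^ k)
    (ha : ∀ v ∈ s, ∃ g ∈ N, g * t * g⁻¹ = v ∨ g * t * g⁻¹ = v * z)
    (hb : ∀ g ∈ N, ∃ v ∈ s, g * t * g⁻¹ = v ∨ g * t * g⁻¹ = v * z) {v : G} (hv : v ∈ s) :
    ∃ g ∈ P, g * t * g⁻¹ = v ∨ g * t * g⁻¹ = v * z := by
  classical
  by_contra hc
  have e1 : (NZ t z z2).relIndex N = 2 ^ k :=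
    hk ▸ le_antisymm (relIndex_le_of_cover z2 hz s hb) (le_relIndex_of z2 hz s hs ha)
  have e2 : (NZ t z z2).relIndex P ≤ (s.erase v).card :=
    relIndex_le_of_cover z2 (fun g hg => hz g (hP.le hg)) _ fun g hg => by
      obtain ⟨w, hw, e⟩ := hb g (hP.le hg)
      exact ⟨w, Finset.mem_erase.2 ⟨fun h => hc ⟨g, hg, h ▸ e⟩, hw⟩, e⟩
  have e3 : NZ t z z2 ⊓ P = P1 :=
    h1.max _ inf_le_left (hP.isPGroup.to_le inf_le_right) (le_inf h1.le h1P)
  have h1' : IsSylowIn 2 P1 (NZ t z z2 ⊓ N) := h1.mono (le_inf h1.le (h1P.trans hP.le)) inf_le_left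
  have e4 := relIndex_mul_relIndex P1 (NZ t z z2 ⊓ N) N h1'.le inf_le_right
  have e5 := relIndex_mul_relIndex P1 P N h1P hP.le
  rw [inf_relIndex_right, e1, ← e5] at e4
  have e6 : 2 ^ k ∣ P1.relIndex P :=
    (Nat.Coprime.pow_left k hP.coprime_relIndex.symm).dvd_of_dvd_mul_right (e4 ▸ dvd_mul_left _ _)
  rw [← e3, inf_relIndex_right] at e6
  have e7 := Nat.le_of_dvd (Nat.pos_of_ne_zero index_ne_zero_of_finite) e6
  rw [Finset.card_erase_of_mem hv, hk] at e2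
  have : 0 < 2 ^ k := by positivity
  have e8 : (NZ t z z2).relIndex P = ((NZ t z z2).subgroupOf P).index := rfl
  omega

theorem card_le_gen [Finite G] {t z : G} (z2 : z * z = 1) {P P1 : Subgroup G}
    (hz : ∀ g ∈ P, g * z = z * g) (hP : IsPGroup 2 P) (h1 : IsSylowIn 2 P1 (NZ t z z2))
    (h1P : P1 ≤ P) (s : Finset G) {k : ℕ} (hk : s.card < 2 ^ (k + 1))
    (hb : ∀ g ∈ P, ∃ v ∈ s, g * t * g⁻¹ = v ∨ g * t * g⁻¹ = v * z) :
    Nat.card P ≤ Nat.card P1 * 2 ^ k := by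
  have e2 := relIndex_le_of_cover z2 hz s hb
  have e3 : NZ t z z2 ⊓ P = P1 :=
    h1.max _ inf_le_left (hP.to_le inf_le_right) (le_inf h1.le h1P)
  obtain ⟨j, hj⟩ := hP.index (P1.subgroupOf P)
  have e4 : (NZ t z z2).relIndex P = 2 ^ j := by rw [← inf_relIndex_right, e3]; exact hj
  have e5 : j ≤ k := Nat.lt_succ_iff.1 ((Nat.pow_lt_pow_iff_right (a := 2) (by norm_num)).1 (by omega))
  rw [← (P1.subgroupOf P).card_mul_index, hj, Nat.card_congr (subgroupOfEquivOfLe h1P).toEquiv]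
  exact Nat.mul_le_mul_left _ (Nat.pow_le_pow_right (by norm_num) e5)

theorem extr_gen [Finite G] {S P : Subgroup G} {t t' : G}
    (hS : IsSylowIn 2 S (centralizer ({t} : Set G))) (h : IsConj t' t) (hP : IsPGroup 2 P)
    (hc : ∀ x ∈ P, x * t' = t' * x) : ∃ g : G, g * t' * g⁻¹ = t ∧ ∀ x ∈ P, g * x * g⁻¹ ∈ S := by
  obtain ⟨g, hg⟩ := isConj_iff.1 h
  obtain ⟨c, hc1, hc2⟩ := hS.exists_conj_le (P := cj g P) (fun x hx => by
    have := hc _ (mem_cj.1 hx)
    rw [mem_centralizer_singleton_iff, ← hg]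
    calc x * (g * t' * g⁻¹) = g * (g⁻¹ * x * g * t') * g⁻¹ := by group
      _ = _ := by rw [this]; group) (isPGroup_cj hP g)
  refine ⟨c * g, ?_, fun x hx => ?_⟩
  · have := mem_centralizer_singleton_iff.1 hc1
    calc c * g * t' * (c * g)⁻¹ = c * (g * t' * g⁻¹) * c⁻¹ := by group
      _ = t := by rw [hg, this]; group
  · have := hc2 (conj_mem_cj (g := c) (conj_mem_cj (g := g) hx))
    convert this using 1; group

end Cfsg.Agent.H40.L3
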