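import Cfsg.Agent.H34.PDefs2
import Cfsg.Agent.H40.EAlt

/-! Project ENDU, piece ALT4: the bound `AB` excludes the second class of graph involutions. -/

set_option autoImplicit false
set_option linter.unusedSectionVars false
set_option linter.style.haveILetI false

namespace Cfsg.Agent.H40.EAlt

open Cfsg Cfsg.Agent.H63 Cfsg.Agent.H63.SL Cfsg.Agent.H34 Cfsg.Agent.H34.TW Cfsg.Agent.H34.UM
  Cfsg.Agent.H34.UE Cfsg.Agent.H31 Subgroup Module
open Cfsg.Agent.H27.End (is2_of_sq)
open Cfsg.Agent.H67.UCls (split f_split form act_mul act_phi semi_mul semi_phi)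

universe u v

theorem alt4 : Alt4Stmt.{u, v} := by
  intro cl F E V _ _ _ _ _ _ _ _ i σ B G _ _ φ L c KA KB odd t f gr k hk b hb ab
  by_contra na
  have k3 : 2 ≤ k := by have := c.four; omega
  let o : Fin k := ⟨0, by omega⟩
  obtain ⟨u, y, fu, fy, uu, uy, yy⟩ := frameV c gr.semi gr.ff na o hk
  classical
  choose S hS using exists_s c uu
  have Smul : ∀ C C', S (C + C') = S C * S C' := fun C C' => s_ext fun x => by
    rw [mul_app, hS, hS, hS, map_add, MM_MM uu, MM_add]; abel
  have Ssq : ∀ C, S C * S C = 1 := fun C => s_ext fun x => by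
    rw [mul_app, hS, hS, map_add, MM_MM uu, add_zero, add_assoc, c.add_self, add_zero]; rfl
  have Sf : ∀ C x, f ((S C).1 x) = (S C).1 (f x) := fun C x => by
    rw [hS, hS, map_add, MM_f gr.semi fu c.qf.σ_i]
  have St : ∀ C, Commute t (φ (S C)) := fun C => by
    obtain ⟨s', h1, h2⟩ := gr.act (S C)
    have : s' = S C := s_ext fun x => by
      obtain ⟨x, rfl⟩ := f.surjective x
      rw [h1, Sf]
    exact mul_inv_eq_iff_eq_mul.1 (this ▸ h2)
  have yu : ∀ a d, B (y d) (u a) = if a = d then 1 else 0 := fun a d => by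
    rw [← c.symm, uy]; split_ifs <;> simp
  have yM : ∀ C a d, B (y d) (MM i B u C (y a)) = i (C s(a, d)) := fun C a d => by
    simp [MM_apply, map_sum, uy, yu]
  let D := {p : Sym2 (Fin k) // ¬ p = s(o, o)}
  let ex : (D → F) → Sym2 (Fin k) → F := fun C p => if h : p = s(o, o) then 0 else C ⟨p, h⟩
  have exa : ∀ C C', ex (C + C') = ex C + ex C' := fun C C' => funext fun p => by
    simp only [ex, Pi.add_apply]; split_ifs <;> simp
  let ψ : Multiplicative (D → F) →* G := MonoidHom.mk' (fun C => φ (S (ex C.toAdd)))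
    fun C C' => by rw [toAdd_mul, exa, Smul, map_mul]
  have hψ : ∀ C, ψ C = φ (S (ex C.toAdd)) := fun _ => rfl
  have inj : Function.Injective ψ := (injective_iff_map_eq_one ψ).2 fun C hC => by
    have h1 := c.one (is2_of_sq (Ssq (ex C.toAdd))) (by rw [← hψ, hC]; exact one_mem _)
    refine toAdd_eq_zero.1 (funext fun ⟨p, hp⟩ => ?_)
    induction p using Sym2.ind with
    | _ a d =>
      have h2 := hS (ex C.toAdd) (y a)
      rw [h1] at h2
      have h3 := yM (ex C.toAdd) a d
      rw [left_eq_add.1 h2, map_zero, eq_comm, map_eq_zero] at h3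
      simpa only [ex, dif_neg hp, Pi.zero_apply] using h3
  obtain ⟨ω, hω⟩ := c.qf.tr
  have key := ab ψ.range (by
    rintro _ ⟨C, rfl⟩
    exact mem_centralizer_singleton_iff.2 (St _).symm) (by
    rintro _ ⟨C, rfl⟩
    rw [hψ, ← map_mul, Ssq, map_one]) (by
    rintro _ ⟨C, rfl⟩
    rw [hψ]
    have e0 : ex C.toAdd s(o, o) = 0 := dif_pos rfl
    generalize ex C.toAdd = C' at e0
    have gr' : Gr φ L (t * φ (S C')) ((S C').1.toAddEquiv.trans f) :=
      ⟨mul_mem gr.mem (le_normalizer (c.mem _)), by
        rw [(St C').symm.mul_mul_mul_comm, gr.sq, ← map_mul, Ssq, map_one, one_mul],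
        semi_mul gr.semi (semi_phi _), fun x => by
          change f ((S C').1 (f ((S C').1 x))) = x
          rw [Sf, gr.ff, ← mul_app, Ssq]; rfl, act_mul gr.act (act_phi _)⟩
    obtain ⟨m, -, e⟩ := cl i σ B φ L c KA KB odd t f _ _ gr gr' (fun _ => iff_of_false na fun h => by
      have h1 := h (y o + ω • MM i B u C' (y o)) (by
        change f ((S C').1 _) = _
        rw [hS]
        simp only [map_add, map_smul, MM_MM uu, smul_zero, add_zero, gr.semi.smul,
          MM_f gr.semi fu c.qf.σ_i, fy, hω]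
        linear_combination (norm := module) c.add_self (MM i B u C' (y o)))
      simp only [map_add, LinearMap.add_apply, sm_left, sm_right, MM_adj c, MM_MM uu, yM, e0, yy,
        map_zero] at h1
      simp at h1) (by
      rw [← mul_assoc, gr.sq, one_mul]; exact mem_sup_left (c.mem _))
    exact ⟨m, e.symm⟩)
  rw [← Nat.card_congr (MonoidHom.ofInjective inj).toEquiv, Nat.card_congr Multiplicative.toAdd,
    Nat.card_fun, Nat.card_eq_fintype_card (α := D), Fintype.card_subtype_compl, Sym2.card,
    Fintype.card_fin, Fintype.card_subtype_eq, Nat.choose_two_right, Nat.add_sub_cancel,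
    mul_comm] at key
  omega

end Cfsg.Agent.H40.EAlt
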