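import Cfsg.Agent.H37.FkTF
import Cfsg.Agent.H87.Quat
import Cfsg.Agent.S3742
import Cfsg.Agent.S0261
import Cfsg.Agent.S0242

/-! Project FK (statement S5161), piece SLQ: Sylow `2`-subgroups of `SL₂(q)`. -/

set_option autoImplicit false

namespace Cfsg.Agent.H40.FkSlq

open Subgroup Matrix Cfsg.Agent.H37.FK Equiv

/-- the two properties of the automorphism group -/
def AutOK (Q : Type) [Group Q] : Prop :=
  (∀ α ∈ O2 (⊤ : Subgroup (MulAut Q)), Two α → ∃ y : Q, α = MulAut.conj y) ∧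
    ∀ (α : MulAut Q) (B : Subgroup (MulAut Q)), Odd (orderOf α) → IsPGroup 2 B →
      (∀ β ∈ B, α * β * α⁻¹ ∈ B) → (∃ β ∈ B, ∀ y : Q, β ≠ MulAut.conj y) → α = 1

theorem autOK_of_two {Q : Type} [Group Q] (h : IsPGroup 2 (MulAut Q)) : AutOK Q := by
  refine ⟨fun α hα _ => ⟨1, ?_⟩, fun α _ ho _ _ _ => Two.eq_one (h α) ho⟩
  have : O2 (⊤ : Subgroup (MulAut Q)) ≤ ⊥ :=
    (closure_le _).2 fun g hg => mem_bot.2 (Two.eq_one (h g) hg.2)
  rw [map_one]
  exact mem_bot.1 (this hα)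

theorem two_three {G : Type*} [Group G] {x : G} (h : Two x) (h3 : x ^ 3 = 1) : x = 1 :=
  h.eq_one (Odd.of_dvd_nat (by decide) (orderOf_dvd_of_pow_eq_one h3))

theorem sign_odd {σ : Perm (Fin 4)} (h : Odd (orderOf σ)) : Perm.sign σ = 1 :=
  (Two.of_sq (Int.units_mul_self _)).eq_one (h.of_dvd_nat (orderOf_map_dvd _ _))

theorem d1 : ∀ v : Perm (Fin 4), v * v = 1 → Perm.sign v = 1 →
    ∃ y, ∀ q, S3742.psi v q = y * q * y⁻¹ := by decide +kernel

theorem d2 : ∀ v : Perm (Fin 4), Perm.sign v = 1 → v * v = 1 ∨ v ^ 3 = 1 := by decide +kernel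

set_option synthInstance.maxSize 1024 in
theorem d3 : ∀ a b : Perm (Fin 4), Perm.sign a = 1 → a * a = 1 ∨ (b * b = 1 ∧ Perm.sign b = 1) ∨
    (b ^ 3 = 1 ∧ b ≠ 1) ∨ ((b * (a * b * a⁻¹)) ^ 3 = 1 ∧ b * (a * b * a⁻¹) ≠ 1) := by
  decide +kernel

theorem psi_bij : Function.Bijective S3742.psiHom := by
  obtain ⟨e⟩ := S3742.result
  refine (Nat.bijective_iff_injective_and_card _).2 ⟨?_, (Nat.card_congr e.toEquiv).symm⟩
  rw [injective_iff_map_eq_one]
  exact fun σ h => S3742.psi_inj σ fun q => DFunLike.congr_fun h q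

theorem autOK_q8 {Q : Type} [Group Q] (e : Q ≃* QuaternionGroup 2) : AutOK Q := by
  let E : Perm (Fin 4) ≃* MulAut Q :=
    (MulEquiv.ofBijective _ psi_bij).trans (MulAut.congr e.symm)
  have hE : ∀ v q, E v q = e.symm (S3742.psi v (e q)) := fun _ _ => rfl
  have inn : ∀ v, v * v = 1 → Perm.sign v = 1 → ∃ y : Q, E v = MulAut.conj y := fun v h1 h2 => by
    obtain ⟨y, hy⟩ := d1 v h1 h2
    exact ⟨e.symm y, MulEquiv.ext fun q => by simp [hE, hy]⟩
  have tw : ∀ v, Two (E v) → Two v := fun v h => by simpa using h.map E.symm.toMonoidHom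
  constructor
  · intro α hα h2
    have h1 : O2 (⊤ : Subgroup (MulAut Q)) ≤ (Perm.sign.comp E.symm.toMonoidHom).ker :=
      (closure_le _).2 fun g hg => sign_odd ((E.symm.orderOf_eq g).symm ▸ hg.2)
    obtain ⟨v, rfl⟩ := E.surjective α
    have h3 : Perm.sign v = 1 := by simpa using h1 hα
    rcases d2 v h3 with h | h
    · exact inn v h h3
    · exact inn v (by rw [two_three (tw v h2) h, mul_one]) h3
  · rintro α B ho hB hn ⟨β, hβ, hi⟩
    obtain ⟨a, rfl⟩ := E.surjective α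
    obtain ⟨b, rfl⟩ := E.surjective β
    rw [E.orderOf_eq] at ho
    rcases d3 a b (sign_odd ho) with h | h | h | h
    · rw [(Two.of_sq h).eq_one ho, map_one]
    · obtain ⟨y, hy⟩ := inn b h.1 h.2
      exact absurd hy (hi y)
    · exact absurd (two_three (tw b (Two.of_mem hB hβ)) h.1) h.2
    · refine absurd (two_three (tw _ (Two.of_mem hB ?_)) h.1) h.2
      rw [map_mul, map_mul, map_mul, map_inv]
      exact B.mul_mem hβ (hn _ hβ)

theorem quat_nc {k : ℕ} (hk : 1 ≤ k) :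
    ∃ a b : QuaternionGroup (2 ^ k), a * b ≠ b * a := by
  refine ⟨.a 1, .xa 0, fun h => ?_⟩
  rw [QuaternionGroup.a_mul_xa, QuaternionGroup.xa_mul_a, QuaternionGroup.xa.injEq] at h
  have h1 : ((2 : ℕ) : ZMod (2 * 2 ^ k)) = 0 := by
    push_cast
    linear_combination -h
  have h2 := Nat.le_of_dvd two_pos ((ZMod.natCast_eq_zero_iff _ _).1 h1)
  have : 2 ^ 1 ≤ 2 ^ k := Nat.pow_le_pow_right two_pos hk
  omega

variable {F : Type} [Field F]

theorem scalar_of {M a b : Matrix (Fin 2) (Fin 2) F} (ha : M * a = a * M) (hb : M * b = b * M)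
    (h : a * b ≠ b * a) : ∃ c : F, M = c • (1 : Matrix (Fin 2) (Fin 2) F) := by
  have e : ∀ {x : Matrix (Fin 2) (Fin 2) F}, M * x = x * M →
      M 0 1 * x 1 0 = M 1 0 * x 0 1 ∧ (M 0 0 - M 1 1) * x 0 1 = M 0 1 * (x 0 0 - x 1 1) ∧
        (M 0 0 - M 1 1) * x 1 0 = M 1 0 * (x 0 0 - x 1 1) := fun {x} hx => by
    have h1 := congrFun (congrFun hx 0) 0
    have h2 := congrFun (congrFun hx 0) 1
    have h3 := congrFun (congrFun hx 1) 0
    simp only [Matrix.mul_apply, Fin.sum_univ_two] at h1 h2 h3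
    exact ⟨by linear_combination h1, by linear_combination h2, by linear_combination -h3⟩
  obtain ⟨a1, a2, a3⟩ := e ha
  obtain ⟨b1, b2, b3⟩ := e hb
  have key : a 0 1 * b 1 0 = b 0 1 * a 1 0 → (a 0 0 - a 1 1) * b 0 1 = (b 0 0 - b 1 1) * a 0 1 →
      (a 0 0 - a 1 1) * b 1 0 = (b 0 0 - b 1 1) * a 1 0 → False := fun k1 k2 k3 => h (by
    ext i j
    fin_cases i <;> fin_cases j <;> simp only [Matrix.mul_apply, Fin.sum_univ_two, Fin.zero_eta,
      Fin.mk_one, Fin.isValue]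
    · linear_combination k1
    · linear_combination k2
    · linear_combination -k3
    · linear_combination -k1)
  have h1 : M 0 1 = 0 := by
    by_contra h0
    have k2 : (a 0 0 - a 1 1) * b 0 1 = (b 0 0 - b 1 1) * a 0 1 :=
      mul_left_cancel₀ h0 (by linear_combination a 0 1 * b2 - b 0 1 * a2)
    exact key (mul_left_cancel₀ h0 (by linear_combination a 0 1 * b1 - b 0 1 * a1)) k2
      (mul_left_cancel₀ h0 (by
        linear_combination (a 0 0 - a 1 1) * b1 - (b 0 0 - b 1 1) * a1 + M 1 0 * k2))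
  have h2 : M 1 0 = 0 := by
    by_contra h0
    have k3 : (a 0 0 - a 1 1) * b 1 0 = (b 0 0 - b 1 1) * a 1 0 :=
      mul_left_cancel₀ h0 (by linear_combination a 1 0 * b3 - b 1 0 * a3)
    exact key (mul_left_cancel₀ h0 (by linear_combination a 1 0 * b1 - b 1 0 * a1))
      (mul_left_cancel₀ h0 (by
        linear_combination (b 0 0 - b 1 1) * a1 - (a 0 0 - a 1 1) * b1 + M 0 1 * k3)) k3
  have h3 : M 0 0 - M 1 1 = 0 := by
    by_contra h0
    rw [h1, zero_mul] at a2 b2
    rw [h2, zero_mul] at a3 b3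
    have := (mul_eq_zero.1 a2).resolve_left h0
    have := (mul_eq_zero.1 a3).resolve_left h0
    have := (mul_eq_zero.1 b2).resolve_left h0
    have := (mul_eq_zero.1 b3).resolve_left h0
    exact key (by simp [*]) (by simp [*]) (by simp [*])
  refine ⟨M 0 0, ?_⟩
  ext i j
  fin_cases i <;> fin_cases j <;> simp [h1, h2, sub_eq_zero.1 h3]

theorem sq_eq_one (h2 : (2 : F) ≠ 0) (a : SL2 F) (h : a * a = 1) : a = 1 ∨ a = -1 := by
  have hd := a.det_coe
  rw [det_fin_two] at hd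
  have e := congrArg Subtype.val h
  have h1 := congrFun (congrFun e 0) 0
  have h3 := congrFun (congrFun e 0) 1
  have h4 := congrFun (congrFun e 1) 0
  simp [Matrix.mul_apply, Fin.sum_univ_two] at h1 h3 h4
  have ht : a.1 0 0 + a.1 1 1 ≠ 0 := fun ht => h2 (by linear_combination -h1 - hd + a.1 0 0 * ht)
  have k1 : a.1 0 1 = 0 := mul_left_cancel₀ ht (by linear_combination h3)
  have k2 : a.1 1 0 = 0 := mul_left_cancel₀ ht (by linear_combination h4)
  rw [k1, zero_mul, add_zero] at h1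
  rw [k1, zero_mul, sub_zero] at hd
  rcases mul_self_eq_one_iff.1 h1 with k | k
  · left
    rw [k, one_mul] at hd
    ext i j
    fin_cases i <;> fin_cases j <;> simp [k, k1, k2, hd]
  · right
    rw [k, neg_one_mul, neg_eq_iff_eq_neg] at hd
    ext i j
    fin_cases i <;> fin_cases j <;> simp [k, k1, k2, hd]

theorem dvd_card [Fintype F] : Fintype.card F ^ 2 - 1 ∣ Nat.card (SL2 F) := by
  have h := S0242.result (F := F) rfl 2 (by norm_num)
  have h1 : 1 < Fintype.card F := Fintype.one_lt_card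
  rw [Fin.prod_univ_two] at h
  refine ⟨Fintype.card F, Nat.eq_of_mul_eq_mul_left (Nat.sub_pos_of_lt h1) (h.trans ?_)⟩
  generalize Fintype.card F = q at h1
  obtain ⟨s, rfl⟩ : ∃ s, q = s + 1 := ⟨q - 1, by omega⟩
  have : (s + 1) ^ 2 - (s + 1) = s * (s + 1) := by
    rw [Nat.sub_eq_iff_eq_add (by nlinarith)]; ring
  simp only [Fin.val_zero, Fin.val_one, pow_zero, pow_one, this, Nat.add_sub_cancel]
  ring

theorem slq : SlqStmt := by
  intro F _ _ ho Q
  have h2 : (2 : F) ≠ 0 := Ring.two_ne_zero fun h => by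
    rw [FiniteField.even_card_iff_char_two, Nat.odd_iff.1 ho] at h
    exact one_ne_zero h
  obtain ⟨k, hk, ⟨e⟩⟩ := S0261.result ho Q
  obtain ⟨a, b, hab⟩ : ∃ a b : Q, a * b ≠ b * a := by
    obtain ⟨a, b, h⟩ := quat_nc hk
    exact ⟨e.symm a, e.symm b, by rwa [← map_mul, ← map_mul, e.symm.injective.ne_iff]⟩
  have hab' : (a : SL2 F) * b ≠ b * a := fun h => hab (Subtype.ext h)
  have hA : AutOK Q := by
    rcases hk.eq_or_lt with rfl | h
    · exact autOK_q8 e
    · exact autOK_of_two (H87.isPGroup_mulAut_of_quaternion h e)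
  refine ⟨⟨a, a.2, b, b.2, hab'⟩, ⟨fun h => h2 ?_, sq_eq_one h2⟩, fun M hM =>
    scalar_of (hM a a.2) (hM b b.2) fun h => hab' (Subtype.ext h), hA.1, hA.2, fun h16 => ?_⟩
  · have := congrFun (congrFun (congrArg Subtype.val h) 0) 0
    simp at this
    linear_combination -this
  · rcases hk.eq_or_lt with rfl | h
    · exfalso
      have h1 := h16.trans (dvd_card (F := F))
      have h3 : Nat.card (Q : Subgroup (SL2 F)) = 8 := by
        rw [Nat.card_congr e.toEquiv, Nat.card_eq_fintype_card, QuaternionGroup.card]; rfl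
      rw [← (Q : Subgroup (SL2 F)).card_mul_index, h3] at h1
      exact Q.not_dvd_index (by omega)
    · exact H87.isPGroup_mulAut_of_quaternion h e

end Cfsg.Agent.H40.FkSlq
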