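import Cfsg.Agent.H74.CksDefs
import Cfsg.Agent.H26.SLBasic

/-!
Project CKS (statement S2193), pieces POL, HM1, HM2: flag-transitive subgroups of `GL₃`.
-/

set_option autoImplicit false

namespace Cfsg.Agent.H40.CksHm

open Matrix Cfsg.Agent.H74.Cks

variable {F : Type} [Field F]

theorem card_two_zero [Fintype F] [DecidableEq F] (a b : Fin 3 → F) :
    ((Finset.univ.filter fun y : Fin 3 → F => a ⬝ᵥ y = 0 ∧ b ⬝ᵥ y = 0).card : F) = 0 := by
  let f : (Fin 3 → F) →ₗ[F] (Fin 2 → F) := (Matrix.of ![a, b]).mulVecLin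
  have hf : ∀ y, y ∈ LinearMap.ker f ↔ a ⬝ᵥ y = 0 ∧ b ⬝ᵥ y = 0 := by
    intro y
    rw [LinearMap.mem_ker, funext_iff, Fin.forall_fin_two]
    rfl
  have h1 := LinearMap.finrank_range_add_finrank_ker f
  have h2 := Submodule.finrank_le (LinearMap.range f)
  simp only [Module.finrank_fintype_fun_eq_card, Fintype.card_fin] at h1 h2
  have h3 : (Finset.univ.filter fun y : Fin 3 → F => a ⬝ᵥ y = 0 ∧ b ⬝ᵥ y = 0).card =
      Nat.card (LinearMap.ker f) := by
    rw [← Fintype.card_subtype, Fintype.card_eq_nat_card]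
    exact Nat.card_congr (Equiv.subtypeEquivRight fun y => (hf y).symm)
  rw [h3, Module.natCard_eq_pow_finrank (K := F), Nat.cast_pow, Nat.card_eq_fintype_card,
    FiniteField.cast_card_eq_zero, zero_pow (by omega)]

theorem pol' [Fintype F] (L : (Fin 3 → F) → (Fin 3 → F)) (h1 : ∀ x, x ≠ 0 → L x ⬝ᵥ x ≠ 0)
    (h2 : ∀ x y, x ≠ 0 → y ≠ 0 → L x ⬝ᵥ y = 0 → L y ⬝ᵥ x = 0) : False := by
  classical
  obtain ⟨A, hA⟩ : ∃ A : Matrix (Fin 3 → F) (Fin 3 → F) F, ∀ x y, A x y =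
      if x ≠ 0 ∧ y ≠ 0 ∧ L x ⬝ᵥ y = 0 then 1 else 0 := ⟨Matrix.of _, fun _ _ => rfl⟩
  obtain ⟨J, hJ'⟩ : ∃ J : Matrix (Fin 3 → F) (Fin 3 → F) F, ∀ x y, J x y =
      if x ≠ 0 ∧ y ≠ 0 then 1 else 0 := ⟨Matrix.of _, fun _ _ => rfl⟩
  have key : ∀ a b : Fin 3 → F,
      (∑ y : Fin 3 → F, if y ≠ 0 ∧ a ⬝ᵥ y = 0 ∧ b ⬝ᵥ y = 0 then (1 : F) else 0) = -1 := by
    intro a b
    have h := card_two_zero a b
    rw [Finset.card_filter, Nat.cast_sum, ← Finset.add_sum_erase _ _ (Finset.mem_univ 0)] at h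
    rw [← Finset.add_sum_erase _ _ (Finset.mem_univ 0)]
    simp only [dotProduct_zero, and_self, if_true, Nat.cast_one, ne_eq, not_true, false_and,
      if_false, zero_add] at h ⊢
    rw [eq_neg_iff_add_eq_zero, add_comm]
    refine Eq.trans ?_ h
    congr 1
    refine Finset.sum_congr rfl fun y hy => ?_
    have : y ≠ 0 := (Finset.mem_erase.1 hy).1
    simp [this]
  have hAA : A * A = -J := by
    ext x z
    simp only [Matrix.mul_apply, Matrix.neg_apply, hA, hJ']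
    by_cases hx : x = 0
    · simp [hx]
    by_cases hz : z = 0
    · simp [hz]
    rw [if_pos ⟨hx, hz⟩, ← key (L x) (L z)]
    refine Finset.sum_congr rfl fun y _ => ?_
    by_cases hy : y = 0
    · simp [hy]
    have : L y ⬝ᵥ z = 0 ↔ L z ⬝ᵥ y = 0 := ⟨h2 _ _ hy hz, h2 _ _ hz hy⟩
    simp only [ne_eq, hx, hy, hz, not_false_eq_true, true_and, this]
    split_ifs <;> simp_all
  have hAJ : A * J = -J := by
    ext x z
    simp only [Matrix.mul_apply, Matrix.neg_apply, hA, hJ']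
    by_cases hx : x = 0
    · simp [hx]
    by_cases hz : z = 0
    · simp [hz]
    rw [if_pos ⟨hx, hz⟩, ← key (L x) (L x)]
    refine Finset.sum_congr rfl fun y _ => ?_
    by_cases hy : y = 0
    · simp [hy]
    simp [hx, hy, hz]
  have hp : ∀ n, A ^ (n + 2) = (-1 : F) ^ (n + 1) • J := by
    intro n
    induction n with
    | zero => simp [pow_two, hAA]
    | succ n ih => rw [pow_succ', ih, Matrix.mul_smul, hAJ, pow_succ (-1 : F) (n + 1)]; simp
  have ht : trace A = 0 := by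
    refine Finset.sum_eq_zero fun x _ => ?_
    simp only [diag_apply, hA]
    rw [if_neg fun h => h1 x h.1 h.2.2]
  have hJ : trace J = -1 := by
    rw [← key 0 0]
    refine Finset.sum_congr rfl fun y _ => ?_
    simp [hJ']
  have h := FiniteField.trace_pow_card A
  obtain ⟨n, hn⟩ : ∃ n, Fintype.card F = n + 2 := ⟨_, (Nat.sub_add_cancel Fintype.one_lt_card).symm⟩
  rw [hn, hp, ht, trace_smul, hJ] at h
  simp at h

theorem exists_vv {M : Matrix (Fin 3) (Fin 3) F} (h : M.rank ≤ 1) :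
    ∃ v φ : Fin 3 → F, M = vecMulVec v φ := by
  obtain ⟨v, hv⟩ := finrank_le_one_iff.1 h
  choose c hc using fun j => hv ⟨M *ᵥ Pi.single j 1, LinearMap.mem_range_self M.mulVecLin _⟩
  refine ⟨v, c, ?_⟩
  ext i j
  have := congrFun (congrArg Subtype.val (hc j)) i
  simp at this
  rw [vecMulVec_apply, ← this, mul_comm]

theorem exists_vv_of_mul {M N : Matrix (Fin 3) (Fin 3) F} (h : M * N = 0) :
    (∃ v φ : Fin 3 → F, M = vecMulVec v φ) ∨ ∃ v φ : Fin 3 → F, N = vecMulVec v φ := by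
  have := rank_add_rank_le_card_of_mul_eq_zero h
  rw [Fintype.card_fin] at this
  by_cases h1 : M.rank ≤ 1
  · exact Or.inl (exists_vv h1)
  · exact Or.inr (exists_vv (by omega))

theorem exists_dot {v : Fin 3 → F} (hv : v ≠ 0) : ∃ z : Fin 3 → F, z ⬝ᵥ v = 1 := by
  obtain ⟨i, hi⟩ := Function.ne_iff.1 hv
  exact ⟨Pi.single i (v i)⁻¹, by rw [single_dotProduct, inv_mul_cancel₀ hi]⟩

theorem pol : PolStmt := fun _ _ _ L h1 h2 _ => pol' L h1 h2

/-- The matrix belongs to the subgroup. -/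
def In (K : Subgroup (GL (Fin 3) F)) (M : Matrix (Fin 3) (Fin 3) F) : Prop :=
  ∃ k ∈ K, (k : Matrix (Fin 3) (Fin 3) F) = M

variable {K : Subgroup (GL (Fin 3) F)}

theorem In.one : In K 1 := ⟨1, K.one_mem, rfl⟩

theorem In.mul {M N : Matrix (Fin 3) (Fin 3) F} (h : In K M) (h' : In K N) : In K (M * N) := by
  obtain ⟨k, hk, rfl⟩ := h
  obtain ⟨l, hl, rfl⟩ := h'
  exact ⟨k * l, K.mul_mem hk hl, rfl⟩

theorem In.inv {M N : Matrix (Fin 3) (Fin 3) F} (h : In K M) (e : M * N = 1) : In K N := by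
  obtain ⟨k, hk, rfl⟩ := h
  exact ⟨k⁻¹, K.inv_mem hk, Units.inv_eq_of_mul_eq_one_right e⟩

theorem In.smul (hK : FlagT K) {M : Matrix (Fin 3) (Fin 3) F} (h : In K M) {c : F} (hc : c ≠ 0) :
    In K (c • M) := by
  have : In K (c • 1) := ⟨GeneralLinearGroup.mkOfDetNeZero (c • 1) (by simp [hc]),
    hK.1 _ ⟨c, rfl⟩, rfl⟩
  simpa using this.mul h

theorem conj_iff {k : Matrix (Fin 3) (Fin 3) F} (hk : In K k) {v v' φ φ' : Fin 3 → F}
    (h1 : k *ᵥ v' = v) (h2 : φ ᵥ* k = φ') :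
    In K (1 + vecMulVec v φ) ↔ In K (1 + vecMulVec v' φ') := by
  obtain ⟨k, hk, rfl⟩ := hk
  have e : (1 + vecMulVec v φ) * k.val = k.val * (1 + vecMulVec v' φ') := by
    rw [add_mul, mul_add, one_mul, mul_one, vecMulVec_mul, mul_vecMulVec, h1, h2]
  have i1 : In K k.val := ⟨k, hk, rfl⟩
  have i2 : In K (k⁻¹).val := ⟨k⁻¹, K.inv_mem hk, rfl⟩
  constructor
  · intro h
    have := i2.mul (h.mul i1)
    rwa [e, ← mul_assoc, Units.inv_mul, one_mul] at this
  · intro h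
    have := (i1.mul h).mul i2
    rwa [← e, mul_assoc, Units.mul_inv, mul_one] at this

theorem flag (hK : FlagT K) {v φ : Fin 3 → F} (hv : v ≠ 0) (hφ : φ ≠ 0) (h : φ ⬝ᵥ v = 0) :
    ∃ k, In K k ∧ ∃ b : F, b ≠ 0 ∧ k *ᵥ ![1, 0, 0] = v ∧ φ ᵥ* k = b • ![0, 0, 1] := by
  obtain ⟨z, hz⟩ := exists_dot hv
  obtain ⟨u, hu⟩ := exists_dot hφ
  simp only [dotProduct, Fin.sum_univ_three] at hz hu h
  let A : Matrix (Fin 3) (Fin 3) F :=
    !![v 0, φ 1 * z 2 - φ 2 * z 1, u 0; v 1, φ 2 * z 0 - φ 0 * z 2, u 1;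
      v 2, φ 0 * z 1 - φ 1 * z 0, u 2]
  have hA : A.det = 1 := by
    simp only [A, det_fin_three]
    simp
    linear_combination (u 0 * φ 0 + u 1 * φ 1 + u 2 * φ 2) * hz + hu -
      (z 0 * u 0 + z 1 * u 1 + z 2 * u 2) * h
  obtain ⟨k, hk, hB⟩ := hK.2 (GeneralLinearGroup.mkOfDetNeZero A (by rw [hA]; exact one_ne_zero))
  obtain ⟨B, hBe⟩ : ∃ B : Matrix (Fin 3) (Fin 3) F, B = (k⁻¹).val * A := ⟨_, rfl⟩
  have hB' : B.BlockTriangular id := hBe ▸ hB
  have e : k.val * B = A := by rw [hBe, ← mul_assoc, Units.mul_inv, one_mul]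
  have b10 : B 1 0 = 0 := hB' (by decide)
  have b20 : B 2 0 = 0 := hB' (by decide)
  have b21 : B 2 1 = 0 := hB' (by decide)
  have hd : B 0 0 * B 1 1 * B 2 2 ≠ 0 := by
    have : k.val.det * B.det = 1 := by rw [← det_mul, e, hA]
    have h2 := right_ne_zero_of_mul_eq_one this
    rw [det_fin_three, b10, b20, b21] at h2
    simpa using h2
  have b0 : B 0 0 ≠ 0 := fun h => hd (by simp [h])
  have b1 : B 1 1 ≠ 0 := fun h => hd (by simp [h])
  have e1 : B *ᵥ ![1, 0, 0] = B 0 0 • ![1, 0, 0] := by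
    ext i; fin_cases i <;> simp [mulVec, dotProduct, Fin.sum_univ_three, b10, b20]
  have e2 : A *ᵥ ![1, 0, 0] = v := by
    ext i; fin_cases i <;> simp [A, mulVec, dotProduct, Fin.sum_univ_three]
  have e3 : φ ᵥ* A = ![0, 0, 1] := by
    ext i; fin_cases i <;> simp [A, vecMul, dotProduct, Fin.sum_univ_three]
    · linear_combination h
    · ring
    · linear_combination hu
  rw [← e, ← vecMul_vecMul] at e3
  obtain ⟨ψ, hψ⟩ : ∃ ψ, ψ = φ ᵥ* k.val := ⟨_, rfl⟩
  rw [← hψ] at e3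
  have p0 := congrFun e3 0
  have p1 := congrFun e3 1
  have p2 := congrFun e3 2
  simp [vecMul, dotProduct, Fin.sum_univ_three, b10, b20, b21, b0] at p0 p1 p2
  simp [p0, b1] at p1
  simp [p0, p1] at p2
  refine ⟨B 0 0 • k.val, In.smul hK ⟨k, hk, rfl⟩ b0, B 0 0 * ψ 2,
    mul_ne_zero b0 (left_ne_zero_of_mul_eq_one p2), ?_, ?_⟩
  · rw [← e2, ← e, ← mulVec_mulVec, e1, smul_mulVec, mulVec_smul]
  · rw [vecMul_smul, ← hψ]
    ext i; fin_cases i <;> simp [p0, p1]

/-- The parameters of the transvections with given centre and axis. -/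
def S (K : Subgroup (GL (Fin 3) F)) (v φ : Fin 3 → F) : Set F :=
  {t | In K (1 + vecMulVec (t • v) φ)}

theorem S_card (hK : FlagT K) {v φ : Fin 3 → F} (hv : v ≠ 0) (hφ : φ ≠ 0) (h : φ ⬝ᵥ v = 0) :
    (S K v φ).ncard = (S K ![1, 0, 0] ![0, 0, 1]).ncard := by
  obtain ⟨k, hk, b, hb, h1, h2⟩ := flag hK hv hφ h
  have key : ∀ t, t ∈ S K v φ ↔ t * b ∈ S K ![1, 0, 0] ![0, 0, 1] := by
    intro t
    have := conj_iff hk (v' := t • ![1, 0, 0]) (v := t • v) (by rw [mulVec_smul, h1]) h2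
    rw [vecMulVec_smul, ← smul_vecMulVec, smul_smul, mul_comm b] at this
    exact this
  refine Set.ncard_congr (fun t _ => t * b) (fun t ht => (key t).1 ht)
    (fun s t _ _ e => mul_right_cancel₀ hb e) fun s hs => ⟨s * b⁻¹, ?_, ?_⟩
  · rw [key]; rwa [inv_mul_cancel_right₀ hb]
  · exact inv_mul_cancel_right₀ hb s

/-- The transvections with the standard axis. -/
def E (K : Subgroup (GL (Fin 3) F)) : AddSubgroup (F × F) where
  carrier := {w | In K (1 + vecMulVec ![w.1, w.2, 0] ![0, 0, 1])}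
  zero_mem' := by
    have : (![0, 0, 0] : Fin 3 → F) = 0 := by ext i; fin_cases i <;> rfl
    change In K (1 + vecMulVec ![0, 0, 0] ![0, 0, 1])
    rw [this, zero_vecMulVec, add_zero]
    exact In.one
  add_mem' := by
    intro a b ha hb
    have := In.mul ha hb
    change In K _
    convert this using 1
    ext i j
    fin_cases i <;> fin_cases j <;>
      simp [Matrix.mul_apply, Fin.sum_univ_three, vecMulVec_apply, add_comm]
  neg_mem' := by
    intro a ha
    refine In.inv ha ?_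
    ext i j
    fin_cases i <;> fin_cases j <;> simp [Matrix.mul_apply, Fin.sum_univ_three]

theorem mem_E {a b t : F} : (t * a, t * b) ∈ E K ↔ t ∈ S K ![a, b, 0] ![0, 0, 1] := by
  have : t • (![a, b, 0] : Fin 3 → F) = ![t * a, t * b, 0] := by
    ext i; fin_cases i <;> simp
  simp only [S, Set.mem_ofPred_eq, this]
  rfl

theorem card_E [Fintype F] (hK : FlagT K) :
    Nat.card (E K) = (S K ![1, 0, 0] ![0, 0, 1]).ncard +
      Fintype.card F * ((S K ![1, 0, 0] ![0, 0, 1]).ncard - 1) := by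
  classical
  have n1 : ∀ s : F, (![s, 1, 0] : Fin 3 → F) ≠ 0 := fun s h => by simpa using congrFun h 1
  have n2 : (![0, 0, 1] : Fin 3 → F) ≠ 0 := fun h => by simpa using congrFun h 2
  have z : ∀ a b : F, (0 : F) ∈ S K ![a, b, 0] ![0, 0, 1] := fun a b => by
    rw [← mem_E, zero_mul, zero_mul]; exact (E K).zero_mem
  let f : (S K ![1, 0, 0] ![0, 0, 1]) ⊕ (Σ s : F, ↥(S K ![s, 1, 0] ![0, 0, 1] \ {0})) → E K :=
    Sum.elim (fun t => ⟨(t.1 * 1, t.1 * 0), mem_E.2 t.2⟩)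
      fun x => ⟨(x.2.1 * x.1, x.2.1 * 1), mem_E.2 x.2.2.1⟩
  have hf : Function.Bijective f := by
    constructor
    · rintro (a | ⟨s, a⟩) (b | ⟨t, b⟩) e <;> simp only [f, Sum.elim_inl, Sum.elim_inr,
        Subtype.mk.injEq, Prod.mk.injEq, mul_one, mul_zero] at e
      · rw [Subtype.ext e.1]
      · exact absurd e.2.symm b.2.2
      · exact absurd e.2 a.2.2
      · have h1 := e.1
        rw [e.2] at h1
        obtain rfl := mul_left_cancel₀ b.2.2 h1
        rw [Subtype.ext e.2]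
    · rintro ⟨⟨a, b⟩, h⟩
      by_cases hb : b = 0
      · subst hb
        exact ⟨Sum.inl ⟨a, mem_E.1 (by simpa using h)⟩, by simp [f]⟩
      · refine ⟨Sum.inr ⟨a / b, b, mem_E.1 ?_, hb⟩, by simp [f, mul_div_cancel₀ _ hb]⟩
        rwa [mul_div_cancel₀ _ hb, mul_one]
  rw [← Nat.card_eq_of_bijective f hf, Nat.card_sum, Nat.card_sigma, Nat.card_coe_set_eq]
  congr 1
  rw [← Finset.card_univ, ← smul_eq_mul, ← Finset.sum_const]
  refine Finset.sum_congr rfl fun s _ => ?_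
  rw [Nat.card_coe_set_eq, Set.ncard_sdiff_singleton_of_mem (z s 1), S_card hK (n1 s) n2 (by simp)]

theorem arith {p f m : ℕ} (hp : p.Prime) (h1 : m ∣ p ^ f) (h2 : m + p ^ f * (m - 1) ∣ p ^ f * p ^ f)
    (h3 : 2 ≤ m) : m = p ^ f := by
  obtain ⟨r, hr⟩ := h1
  by_cases h : r = 1
  · rw [hr, h, mul_one]
  have hpr : p ∣ r := by
    obtain ⟨i, -, rfl⟩ := (Nat.dvd_prime_pow hp).1 (Dvd.intro_left _ hr.symm)
    exact dvd_pow_self p fun hi => h (by rw [hi, pow_zero])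
  have h4 : 1 + r * (m - 1) ∣ p ^ (f + f) := by
    rw [pow_add]
    refine Dvd.dvd.trans ⟨m, ?_⟩ h2
    rw [hr]; ring
  obtain ⟨i, -, hi⟩ := (Nat.dvd_prime_pow hp).1 h4
  have r0 : 0 < r := Nat.pos_of_ne_zero fun h0 => by
    rw [h0, mul_zero] at hr
    exact (pow_pos hp.pos f).ne' hr
  have : 0 < r * (m - 1) := Nat.mul_pos r0 (by omega)
  have hi0 : i ≠ 0 := fun h0 => by rw [h0, pow_zero] at hi; omega
  have h5 : p ∣ 1 + r * (m - 1) := hi ▸ dvd_pow_self p hi0
  exact absurd ((Nat.dvd_add_left (hpr.mul_right _)).1 h5) hp.not_dvd_one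

theorem hm1 : Hm1Stmt := by
  intro F _ _ K hK
  classical
  refine or_iff_not_imp_left.2 fun hN A hA => ?_
  simp only [NoTv, not_forall] at hN
  obtain ⟨k, hk, hsq, hk1⟩ := hN
  obtain ⟨v, φ, e⟩ : ∃ v φ, k.val - 1 = vecMulVec v φ := by
    rcases exists_vv_of_mul hsq with h | h <;> exact h
  have hne : vecMulVec v φ ≠ 0 := fun h => hk1 (Units.ext (sub_eq_zero.1 (e.trans h)))
  have hv : v ≠ 0 := fun h => hne (by simp [h])
  have hφ : φ ≠ 0 := fun h => hne (by simp [h])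
  have hd : φ ⬝ᵥ v = 0 := by
    rw [e, vecMulVec_mul_vecMulVec, vecMulVec_smul] at hsq
    exact (smul_eq_zero.1 hsq).resolve_right hne
  have h2 : 2 ≤ (S K ![1, 0, 0] ![0, 0, 1]).ncard := by
    rw [← S_card hK hv hφ hd]
    refine (Set.one_lt_ncard (Set.toFinite _)).2 ⟨0, ?_, 1, ⟨k, hk, ?_⟩, zero_ne_one⟩
    · simpa [S] using In.one
    · rw [one_smul, ← e]; abel
  obtain ⟨p, hc⟩ := CharP.exists F
  obtain ⟨f, hp, hf⟩ := FiniteField.card F p
  have d1 : (S K ![1, 0, 0] ![0, 0, 1]).ncard ∣ p ^ (f : ℕ) := by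
    have := ((E K).comap (AddMonoidHom.inl F F)).card_addSubgroup_dvd_card
    rw [Nat.card_eq_fintype_card (α := F), hf] at this
    convert this using 1
    rw [← Nat.card_coe_set_eq]
    refine Nat.card_congr (Equiv.subtypeEquivRight fun t => ?_)
    rw [← mem_E]; simp
  have d2 := (E K).card_addSubgroup_dvd_card
  rw [card_E hK, Nat.card_prod, Nat.card_eq_fintype_card, hf] at d2
  have h3 := arith hp d1 d2 h2
  have hall : ∀ v φ : Fin 3 → F, v ≠ 0 → φ ≠ 0 → φ ⬝ᵥ v = 0 → S K v φ = Set.univ := by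
    intro v φ hv hφ hd
    rw [Set.eq_univ_iff_ncard, S_card hK hv hφ hd, h3, Nat.card_eq_fintype_card, hf]
  have := H26.sl_eq_top_of_transvection_mem (K.comap (SpecialLinearGroup.toGL (n := Fin 3) (R := F)))
    (fun i j h c => by
      have hm : c ∈ S K (Pi.single i 1) (Pi.single j 1) := by
        rw [hall _ _ (by simp) (by simp) (by simp [h.symm])]; trivial
      obtain ⟨l, hl, e⟩ := hm
      rw [Subgroup.mem_comap]
      convert hl
      refine Units.ext ?_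
      rw [e, smul_vecMulVec, ← single_eq_single_vecMulVec_single, smul_single, smul_eq_mul, mul_one]
      rfl)
  obtain ⟨A', hA'⟩ : ∃ A' : SpecialLinearGroup (Fin 3) F, SpecialLinearGroup.toGL A' = A :=
    ⟨⟨A.val, hA⟩, Units.ext rfl⟩
  have h4 : A' ∈ K.comap (SpecialLinearGroup.toGL (n := Fin 3) (R := F)) :=
    this ▸ Subgroup.mem_top _
  rwa [Subgroup.mem_comap, hA'] at h4

/-- The stabiliser of the last coordinate. -/
def St (K : Subgroup (GL (Fin 3) F)) : Subgroup (GL (Fin 3) F) where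
  carrier := {k | k ∈ K ∧ ![0, 0, 1] ᵥ* k.val = ![0, 0, 1]}
  one_mem' := ⟨K.one_mem, vecMul_one _⟩
  mul_mem' := fun {a b} ha hb => ⟨K.mul_mem ha.1 hb.1, by
    rw [Units.val_mul, ← vecMul_vecMul, ha.2, hb.2]⟩
  inv_mem' := fun {a} ha => ⟨K.inv_mem ha.1, by
    conv_lhs => rw [← ha.2, vecMul_vecMul, Units.mul_inv, vecMul_one]⟩

theorem dvd_card_St [Fintype F] (hK : FlagT K) : Fintype.card F + 1 ∣ Nat.card (St K) := by
  classical
  let _ : MulAction (St K × Fˣ) (Fin 3 → F) :=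
    { smul := fun g v => (g.2 : F) • (g.1.1.val *ᵥ v)
      one_smul := fun v => by
        change ((1 : Fˣ) : F) • ((1 : GL (Fin 3) F).val *ᵥ v) = v
        simp
      mul_smul := fun a b v => by
        change ((a.2 * b.2 : Fˣ) : F) • ((a.1.1 * b.1.1).val *ᵥ v) =
          (a.2 : F) • (a.1.1.val *ᵥ ((b.2 : F) • (b.1.1.val *ᵥ v)))
        rw [mulVec_smul, mulVec_mulVec, smul_smul]; rfl }
  have hs : ∀ (g : St K × Fˣ) (v : Fin 3 → F), g • v = (g.2 : F) • (g.1.1.val *ᵥ v) :=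
    fun _ _ => rfl
  have n1 : (![1, 0, 0] : Fin 3 → F) ≠ 0 := fun h => by simpa using congrFun h 0
  have n2 : (![0, 0, 1] : Fin 3 → F) ≠ 0 := fun h => by simpa using congrFun h 2
  have ho : MulAction.orbit (St K × Fˣ) (![1, 0, 0] : Fin 3 → F) =
      (fun w : F × F => (![w.1, w.2, 0] : Fin 3 → F)) '' ({0}ᶜ) := by
    ext v
    constructor
    · rintro ⟨g, rfl⟩
      have h2 : (g • (![1, 0, 0] : Fin 3 → F)) 2 = 0 := by
        have : ![0, 0, 1] ⬝ᵥ (g.1.1.val *ᵥ (![1, 0, 0] : Fin 3 → F)) = 0 := by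
          rw [dotProduct_mulVec, g.1.2.2]; simp
        rw [hs, Pi.smul_apply]
        simp only [dotProduct, Fin.sum_univ_three] at this
        simp at this
        simp [this]
      have h0 : g • (![1, 0, 0] : Fin 3 → F) ≠ 0 := fun h => n1 (by
        have e : g • (0 : Fin 3 → F) = 0 := by rw [hs]; simp
        exact MulAction.injective g (h.trans e.symm))
      change g • _ ∈ _
      generalize g • (![1, 0, 0] : Fin 3 → F) = v at h2 h0
      refine ⟨(v 0, v 1), fun h => h0 ?_, ?_⟩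
      · have := Prod.ext_iff.1 (Set.mem_singleton_iff.1 h)
        ext i; fin_cases i
        exacts [this.1, this.2, h2]
      · ext i; fin_cases i <;> simp [h2]
    · rintro ⟨w, hw, rfl⟩
      have hv : (![w.1, w.2, 0] : Fin 3 → F) ≠ 0 := fun h =>
        hw (Prod.ext (congrFun h 0) (congrFun h 1))
      obtain ⟨k, hk, b, hb, h1, h2⟩ := flag hK hv n2 (by simp)
      obtain ⟨l, hl, e⟩ := In.smul hK hk (inv_ne_zero hb)
      refine ⟨(⟨l, hl, ?_⟩, Units.mk0 b hb), ?_⟩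
      · rw [e, vecMul_smul, h2, smul_smul, inv_mul_cancel₀ hb, one_smul]
      · change b • (l.val *ᵥ _) = _
        rw [e, smul_mulVec, smul_smul, mul_inv_cancel₀ hb, one_smul, h1]
  have h1 := (MulAction.stabilizer (St K × Fˣ) (![1, 0, 0] : Fin 3 → F)).index_dvd_card
  rw [MulAction.index_stabilizer, ho, Set.ncard_image_of_injective _
    (fun a b h => Prod.ext (congrFun h 0) (congrFun h 1)), Set.ncard_compl, Set.ncard_singleton,
    Nat.card_prod, Nat.card_prod, Nat.card_units, Nat.card_eq_fintype_card (α := F)] at h1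
  have h2 : 1 < Fintype.card F := Fintype.one_lt_card
  have h3 : Fintype.card F * Fintype.card F - 1 = (Fintype.card F + 1) * (Fintype.card F - 1) := by
    rw [← pow_two, ← Nat.pow_two_sub_pow_two, one_pow]
  rw [h3] at h1
  exact Nat.dvd_of_mul_dvd_mul_right (by omega) h1

theorem exists_refl [Fintype F] (ho : Odd (Fintype.card F)) (hK : FlagT K) :
    ∃ v φ : Fin 3 → F, φ ⬝ᵥ v = -2 ∧ In K (1 + vecMulVec v φ) := by
  have h2 : (2 : F) ≠ 0 := Ring.two_ne_zero fun h => by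
    rw [FiniteField.even_card_iff_char_two, Nat.odd_iff.1 ho] at h
    exact one_ne_zero h
  obtain ⟨k, hk⟩ := exists_prime_orderOf_dvd_card' (G := St K) 2
    (ho.add_one.two_dvd.trans (dvd_card_St hK))
  have hk2 : k.1.val * k.1.val = 1 := by
    have := pow_orderOf_eq_one k
    rw [hk, pow_two] at this
    exact congrArg (fun x : St K => x.1.val) this
  have hk1 : k.1.val ≠ 1 := fun h => by
    have : k = 1 := Subtype.ext (Units.ext h)
    simp [this] at hk
  have hk3 : -k.1.val ≠ 1 := fun h => by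
    have := k.2.2
    rw [neg_eq_iff_eq_neg.1 h, vecMul_neg, vecMul_one] at this
    have h3 := congrFun this 2
    simp at h3
    exact h2 (by linear_combination -h3)
  have key : ∀ M : Matrix (Fin 3) (Fin 3) F, In K M → M * M = 1 → M ≠ 1 →
      (∃ v φ, M - 1 = vecMulVec v φ) → ∃ v φ : Fin 3 → F, φ ⬝ᵥ v = -2 ∧
        In K (1 + vecMulVec v φ) := by
    rintro M hM hMM hM1 ⟨v, φ, e⟩
    have e' : M = 1 + vecMulVec v φ := by rw [← e]; abel
    refine ⟨v, φ, ?_, e' ▸ hM⟩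
    have hne : vecMulVec v φ ≠ 0 := fun h => hM1 (by rw [e', h, add_zero])
    have : (φ ⬝ᵥ v + 2) • vecMulVec v φ = 0 := by
      rw [e', add_mul, mul_add, mul_add, vecMulVec_mul_vecMulVec, vecMulVec_smul] at hMM
      simp only [one_mul, mul_one] at hMM
      rw [add_smul, two_smul, ← add_left_inj (1 : Matrix (Fin 3) (Fin 3) F), zero_add]
      refine Eq.trans ?_ hMM
      abel
    exact eq_neg_of_add_eq_zero_left ((smul_eq_zero.1 this).resolve_right hne)
  have hin : In K k.1.val := ⟨k.1, k.2.1, rfl⟩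
  have hm : (k.1.val - 1) * (-k.1.val - 1) = 0 := by
    have : (k.1.val - 1) * (-k.1.val - 1) = 1 - k.1.val * k.1.val := by noncomm_ring
    rw [this, hk2, sub_self]
  rcases exists_vv_of_mul hm with h | h
  · exact key _ hin hk2 hk1 h
  · refine key _ ?_ (by rw [neg_mul_neg, hk2]) hk3 h
    simpa using hin.smul hK (c := -1) (by simp)

theorem hm2 : Hm2Stmt := by
  intro F _ _ ho K hK hN
  classical
  have h2 : (-2 : F) ≠ 0 := neg_ne_zero.2 (Ring.two_ne_zero fun h => by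
    rw [FiniteField.even_card_iff_char_two, Nat.odd_iff.1 ho] at h
    exact one_ne_zero h)
  have tr : ∀ x : Fin 3 → F, x ≠ 0 → ∃ k, In K k ∧ k *ᵥ ![1, 0, 0] = x := by
    intro x hx
    obtain ⟨φ, hφ, hd⟩ : ∃ φ : Fin 3 → F, φ ≠ 0 ∧ φ ⬝ᵥ x = 0 := by
      by_cases h : x 0 = 0
      · exact ⟨![1, 0, 0], fun h => by simpa using congrFun h 0,
          by simp [dotProduct, Fin.sum_univ_three, h]⟩
      · refine ⟨![x 1, -x 0, 0], fun h' => h (by simpa using congrFun h' 1), ?_⟩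
        simp [dotProduct, Fin.sum_univ_three, mul_comm]
    obtain ⟨k, hk, -, -, h1, -⟩ := flag hK hx hφ hd
    exact ⟨k, hk, h1⟩
  have ex : ∀ x : Fin 3 → F, ∃ φ, x ≠ 0 → φ ⬝ᵥ x = -2 ∧ In K (1 + vecMulVec x φ) := by
    intro x
    by_cases hx : x = 0
    · exact ⟨0, fun h => absurd hx h⟩
    obtain ⟨v, φ, hd, hr⟩ := exists_refl ho hK
    have hv : v ≠ 0 := fun h => h2 (by rw [← hd, h, dotProduct_zero])
    obtain ⟨k, hk, h1⟩ := tr v hv
    obtain ⟨_, ⟨l, hl, rfl⟩, h3⟩ := tr x hx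
    have h4 : (k * (l⁻¹).val) *ᵥ x = v := by
      rw [← h3, mulVec_mulVec, mul_assoc, Units.inv_mul, mul_one, h1]
    refine ⟨φ ᵥ* (k * (l⁻¹).val), fun _ => ⟨by rw [← dotProduct_mulVec, h4, hd], ?_⟩⟩
    exact (conj_iff (hk.mul ⟨l⁻¹, K.inv_mem hl, rfl⟩) h4 rfl).1 hr
  have uniq : ∀ x φ ψ : Fin 3 → F, x ≠ 0 → φ ⬝ᵥ x = -2 → In K (1 + vecMulVec x φ) →
      ψ ⬝ᵥ x = -2 → In K (1 + vecMulVec x ψ) → φ = ψ := by
    intro x φ ψ hx h1 h1' h3 h3'
    obtain ⟨k, hk, e⟩ := h1'.mul h3'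
    have e2 : k.val - 1 = vecMulVec x (φ - ψ) := by
      rw [e, add_mul, mul_add, mul_add, vecMulVec_mul_vecMulVec, vecMulVec_smul, h1, vecMulVec_sub]
      simp only [one_mul, mul_one, neg_smul, two_smul]
      abel
    have := hN k hk (by
      rw [e2, vecMulVec_mul_vecMulVec, sub_dotProduct, h1, h3, sub_self, zero_smul,
        vecMulVec_zero])
    rw [this, Units.val_one, sub_self, eq_comm, vecMulVec_eq_zero] at e2
    exact sub_eq_zero.1 (e2.resolve_left hx)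
  choose L hL using ex
  refine pol' L (fun x hx => by rw [(hL x hx).1]; exact h2) fun x y hx hy h => ?_
  have h3 : (1 + vecMulVec x (L x)) *ᵥ y = y := by
    rw [add_mulVec, one_mulVec, vecMulVec_mulVec, h]; simp
  have h4 := (conj_iff (hL x hx).2 h3 rfl).1 (hL y hy).2
  have h5 := uniq y _ _ hy (by rw [← dotProduct_mulVec, h3, (hL y hy).1]) h4 (hL y hy).1 (hL y hy).2
  rw [vecMul_add, vecMul_one, vecMul_vecMulVec, add_eq_left, smul_eq_zero] at h5
  exact h5.resolve_right fun h0 => h2 (by rw [← (hL x hx).1, h0, zero_dotProduct])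

end Cfsg.Agent.H40.CksHm
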