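import Cfsg.Agent.H40.HexFor
import Cfsg.Agent.H94.RkBru

/-!
# Hexagons in arbitrary characteristic
-/

set_option autoImplicit false

namespace Cfsg.Agent.H40.Eg

open Cfsg.Agent.H15.FW Cfsg.Agent.H94.Rk Hx
open scoped MatrixGroups

variable {G : Type*} [Group G] {J F : Type*} [Field J] [Field F]

/-- the data of a polygon without the relations between positive roots -/
structure Pr (N : ℕ) (φ : SL(2, J) →* G) (ψ : SL(2, F) →* G) (R : ℤ → Subgroup G)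
    (T : Subgroup G) : Prop where
  ev : Even N
  ge : 4 ≤ N
  injφ : ∀ a, φ (xu a) = 1 → a = 0
  injψ : ∀ a, ψ (xu a) = 1 → a = 0
  per : ∀ m, R (m + 2 * N) = R m
  R0 : ∀ g, g ∈ R 0 ↔ ∃ a, g = φ (xu a)
  R1 : ∀ g, g ∈ R (N - 1) ↔ ∃ t, g = ψ (xu t)
  n0 : Ref R (φ nn) N
  n1 : Ref R (ψ nn) (N - 2)
  Tcomm : ∀ s ∈ T, ∀ t ∈ T, s * t = t * s
  hφ : ∀ a, φ (hh a) ∈ T
  hψ : ∀ a, ψ (hh a) ∈ T
  Tn0 : ∀ t ∈ T, φ nn * t * (φ nn)⁻¹ ∈ T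
  Tn1 : ∀ t ∈ T, ψ nn * t * (ψ nn)⁻¹ ∈ T
  T0 : ∀ t ∈ T, ∃ c : J, Sc φ t c
  T1 : ∀ t ∈ T, ∃ c : F, Sc ψ t c
  faith : ∀ t ∈ T, (∀ g ∈ R 0, t * g = g * t) → (∀ g ∈ R (N - 1), t * g = g * t) → t = 1
  braid : (φ nn * ψ nn) ^ N = 1

/-- a polygon -/
structure Pl (N : ℕ) (φ : SL(2, J) →* G) (ψ : SL(2, F) →* G) (R : ℤ → Subgroup G)
    (T : Subgroup G) : Prop extends Pr N φ ψ R T where
  comm : Comm N R
  uniq0 : ∀ g ∈ R 0, g ∈ W R 1 N → g = 1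
  uniq1 : ∀ g ∈ R (N - 1), g ∈ W R 0 (N - 1) → g = 1

/-- Root groups of a hexagon, any characteristic. -/
structure HexG (φ : SL(2, J) →* G) (ψ : SL(2, F) →* G) (R : ZMod 12 → Subgroup G)
    (T : Subgroup G) : Prop where
  injφ : ∀ a, φ (xu a) = 1 → a = 0
  injψ : ∀ a, ψ (xu a) = 1 → a = 0
  R0 : ∀ g, g ∈ R 0 ↔ ∃ a, g = φ (xu a)
  R5 : ∀ g, g ∈ R 5 ↔ ∃ t, g = ψ (xu t)
  n0 : ∀ m, ∀ g ∈ R m, φ nn * g * (φ nn)⁻¹ ∈ R (6 - m)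
  n5 : ∀ m, ∀ g ∈ R m, ψ nn * g * (ψ nn)⁻¹ ∈ R (4 - m)
  Tcomm : ∀ s ∈ T, ∀ t ∈ T, s * t = t * s
  hφ : ∀ a, φ (hh a) ∈ T
  hψ : ∀ a, ψ (hh a) ∈ T
  Tn0 : ∀ t ∈ T, φ nn * t * (φ nn)⁻¹ ∈ T
  Tn5 : ∀ t ∈ T, ψ nn * t * (ψ nn)⁻¹ ∈ T
  T0 : ∀ t ∈ T, ∃ c : J, ∀ a, t * φ (xu a) * t⁻¹ = φ (xu (c * a))
  T5 : ∀ t ∈ T, ∃ c : F, ∀ a, t * ψ (xu a) * t⁻¹ = ψ (xu (c * a))
  faith : ∀ t ∈ T, (∀ g ∈ R 0, t * g = g * t) → (∀ g ∈ R 5, t * g = g * t) → t = 1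
  braid : (φ nn * ψ nn) ^ 6 = 1
  c1 : ∀ m, ∀ g ∈ R m, ∀ h ∈ R (m + 1), g * h = h * g
  c3 : ∀ m, ∀ g ∈ R m, ∀ h ∈ R (m + 3), g * h = h * g
  c13 : ∀ g ∈ R 1, ∀ h ∈ R 3, g * h = h * g
  c15 : ∀ g ∈ R 1, ∀ h ∈ R 5, g * h * g⁻¹ * h⁻¹ ∈ R 3
  c02 : ∀ g ∈ R 0, ∀ h ∈ R 2, g * h * g⁻¹ * h⁻¹ ∈ R 1
  c04 : ∀ g ∈ R 0, ∀ h ∈ R 4, ∃ a ∈ R 1, ∃ b ∈ R 2, ∃ c ∈ R 3, g * h * g⁻¹ * h⁻¹ = a * b * c
  c05 : ∀ g ∈ R 0, ∀ h ∈ R 5, ∃ a ∈ R 1, ∃ b ∈ R 2, ∃ c ∈ R 3, ∃ d ∈ R 4,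
    g * h * g⁻¹ * h⁻¹ = a * b * c * d
  uniq : ∀ x₀ ∈ R 0, ∀ x₁ ∈ R 1, ∀ x₂ ∈ R 2, ∀ x₃ ∈ R 3, ∀ x₄ ∈ R 4, ∀ x₅ ∈ R 5,
    x₀ * x₁ * x₂ * x₃ * x₄ * x₅ = 1 → x₀ = 1 ∧ x₁ = 1 ∧ x₂ = 1 ∧ x₃ = 1 ∧ x₄ = 1 ∧ x₅ = 1

section pol
variable {N : ℕ} {φ : SL(2, J) →* G} {ψ : SL(2, F) →* G} {R : ℤ → Subgroup G} {T : Subgroup G}

namespace Pr

theorem mirror (P : Pr N φ ψ R T) : Pr N ψ φ (fun m => R (N - 1 - m)) T where
  ev := P.ev
  ge := P.ge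
  injφ := P.injψ
  injψ := P.injφ
  per m := by rw [← P.per]; congr 1; ring
  R0 g := by rw [sub_zero]; exact P.R1 g
  R1 g := by rw [sub_self]; exact P.R0 g
  n0 m g hg := P.n1.mem hg
  n1 m g hg := P.n0.mem hg
  Tcomm := P.Tcomm
  hφ := P.hψ
  hψ := P.hφ
  Tn0 := P.Tn1
  Tn1 := P.Tn0
  T0 := P.T1
  T1 := P.T0
  faith t ht h1 h2 := P.faith t ht (by simpa using h2) (by simpa using h1)
  braid := by
    have := P.braid
    rw [← mul_left_cancel_iff (a := φ nn), mul_pow_mul' , this]; simp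
where
  mul_pow_mul' {a b : G} {n : ℕ} : a * (b * a) ^ n = (a * b) ^ n * a := by
    induction n with
    | zero => simp
    | succ n ih => rw [pow_succ, ← mul_assoc, ih, pow_succ]; group

variable (P : Pr N φ ψ R T)
include P

theorem n0' : Ref R (φ nn)⁻¹ N := P.n0.inv (map_four φ)
theorem n1' : Ref R (ψ nn)⁻¹ (N - 2) := P.n1.inv (map_four ψ)

theorem Tn0' {t : G} (ht : t ∈ T) : (φ nn)⁻¹ * t * φ nn ∈ T := conj_inv_mem P.Tn0 (map_four φ) ht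
theorem Tn1' {t : G} (ht : t ∈ T) : (ψ nn)⁻¹ * t * ψ nn ∈ T := conj_inv_mem P.Tn1 (map_four ψ) ht

theorem sq0 : φ nn * φ nn ∈ T := by rw [← map_mul, nn_sq]; exact P.hφ _
theorem sq1 : ψ nn * ψ nn ∈ T := by rw [← map_mul, nn_sq]; exact P.hψ _

theorem ind {Q : ℤ → Prop} (h0 : Q 0) (h1 : Q (N - 1)) (ha : ∀ m, Q m → Q (N - m))
    (hb : ∀ m, Q m → Q (N - 2 - m)) (m : ℤ) : Q m := by
  have key : ∀ (c : ℤ), Q c → ∀ k : ℤ, Q (c + 2 * k) := fun c hc k => by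
    induction k using Int.induction_on with
    | zero => simpa using hc
    | succ k ih => convert ha _ (hb _ ih) using 1; ring
    | pred k ih => convert hb _ (ha _ ih) using 1; ring
  obtain ⟨M, hM⟩ := P.ev
  rcases Int.even_or_odd' m with ⟨k, rfl | rfl⟩
  · simpa using key 0 h0 k
  · convert key _ h1 (k + 1 - M) using 1
    rw [hM]; push_cast; ring

theorem x0_mem (a : J) : φ (xu a) ∈ R 0 := (P.R0 _).2 ⟨a, rfl⟩
theorem xN_mem (a : F) : ψ (xu a) ∈ R (N - 1) := (P.R1 _).2 ⟨a, rfl⟩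

theorem xl_mem (a : J) : φ (xl a) ∈ R N := by
  have : _ ∈ R N := P.n0.mem (P.x0_mem (-a))
  rwa [← map_inv, ← map_mul, ← map_mul, nn_xu, neg_neg] at this

theorem Tact' (m : ℤ) : ∀ t ∈ T, ∀ g ∈ R m, t * g * t⁻¹ ∈ R m := by
  induction m using P.ind with
  | h0 =>
    intro t ht g hg
    obtain ⟨a, rfl⟩ := (P.R0 g).1 hg
    obtain ⟨c, hc⟩ := P.T0 t ht
    rw [hc]; exact P.x0_mem _
  | h1 =>
    intro t ht g hg
    obtain ⟨a, rfl⟩ := (P.R1 g).1 hg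
    obtain ⟨c, hc⟩ := P.T1 t ht
    rw [hc]; exact P.xN_mem _
  | ha m ih =>
    intro t ht g hg
    convert P.n0 _ _ (ih _ (P.Tn0' ht) _ (P.n0'.mem hg)) using 1
    group
  | hb m ih =>
    intro t ht g hg
    convert P.n1 _ _ (ih _ (P.Tn1' ht) _ (P.n1'.mem hg)) using 1
    group

theorem Tact {t : G} (ht : t ∈ T) : Rot R t 0 := fun m g hg => by
  rw [add_zero]; exact P.Tact' m t ht g hg

theorem rot (k : ℤ) : Rot R ((φ nn * ψ nn) ^ k) (2 * k) := by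
  induction k using Int.induction_on with
  | zero => intro m g hg; simpa using hg
  | succ k ih => rw [zpow_add_one]; exact ih.mul (P.n0.mul P.n1 rfl)
  | pred k ih => rw [zpow_sub_one, mul_inv_rev]; exact ih.mul (P.n1'.mul P.n0' rfl)

theorem ref (k : ℤ) : Ref R ((φ nn * ψ nn) ^ k * φ nn) (2 * k + N) := (P.rot k).mul_ref P.n0

theorem ref' (k : ℤ) : Ref R ((φ nn * ψ nn) ^ k * φ nn)⁻¹ (2 * k + N) := by
  rw [mul_inv_rev, ← zpow_neg]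
  exact P.n0'.mul_rot (P.rot _)

theorem exists_rot {c : ℤ} (hc : Even c) : ∃ n, Rot R n c ∧ Rot R n⁻¹ (-c) := by
  obtain ⟨k, rfl⟩ := hc
  refine ⟨(φ nn * ψ nn) ^ k, by simpa [two_mul] using P.rot k, ?_⟩
  rw [← zpow_neg]
  convert P.rot (-k) using 1
  ring

theorem exists_ref {c : ℤ} (hc : Even c) : ∃ n, Ref R n c ∧ Ref R n⁻¹ c := by
  obtain ⟨M, hM⟩ := P.ev
  obtain ⟨k, rfl⟩ := hc
  have e : k + k = 2 * (k - M) + N := by rw [hM]; push_cast; ring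
  rw [e]
  exact ⟨_, P.ref _, P.ref' _⟩

theorem evZ : Even (N : ℤ) := by exact_mod_cast P.ev

/-- it suffices to know the commutator relations for the roots `0` and `1` -/
theorem comm_of (c0 : ∀ j : ℤ, 0 < j → j < N → ∀ g ∈ R 0, ∀ h ∈ R j, cm g h ∈ W R 1 j)
    (c1 : ∀ j : ℤ, Odd j → 1 < j → j < N → ∀ g ∈ R 1, ∀ h ∈ R j, cm g h ∈ W R 2 j) :
    Comm N R := by
  have rot : ∀ i j c : ℤ, Even c → (∀ g ∈ R (i + c), ∀ h ∈ R (j + c),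
      cm g h ∈ W R (i + c + 1) (j + c)) → ∀ g ∈ R i, ∀ h ∈ R j, cm g h ∈ W R (i + 1) j :=
    fun i j c hc H g hg h hh => by
      obtain ⟨n, a, a'⟩ := P.exists_rot hc
      have : _ ∈ W R (i + 1) j := a'.W (H _ (a _ g hg) _ (a _ h hh))
      rw [← cm_conj] at this
      convert this using 1
      group
  have ev : ∀ i j : ℤ, Even i → i < j → j < i + N → ∀ g ∈ R i, ∀ h ∈ R j,
      cm g h ∈ W R (i + 1) j := fun i j hi a b => rot i j (-i) hi.neg (by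
    rw [add_neg_cancel, zero_add]; exact c0 _ (by omega) (by omega))
  intro i j a b
  rcases Int.even_or_odd i with hi | hi
  · exact ev i j hi a b
  rcases Int.even_or_odd j with hj | hj
  · intro g hg h hh
    have : _ ∈ W R (i + 1) j :=
      P.n0'.W (ev _ _ (P.evZ.sub hj) (by omega) (by omega) _ (P.n0 _ h hh) _ (P.n0 _ g hg))
    rw [← cm_conj] at this
    rw [← cm_inv]
    refine inv_mem ?_
    convert this using 1
    group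
  · have := P.evZ
    refine rot i j (1 - i) (by grind) ?_
    rw [show i + (1 - i) = 1 by ring]
    exact c1 _ (by grind) (by omega) (by grind)

theorem per_mul (m k : ℤ) : R (m + 2 * N * k) = R m := by
  induction k using Int.induction_on with
  | zero => simp
  | succ k ih => rw [← ih, ← P.per (m + 2 * N * k)]; congr 1; ring
  | pred k ih => rw [← ih, ← P.per]; congr 1; ring

theorem mem_R1 (g : G) : g ∈ R 1 ↔ ∃ t, g = x1 φ ψ t := by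
  constructor
  · intro hg
    obtain ⟨t, ht⟩ := (P.R1 _).1 (P.n0' _ g hg)
    exact ⟨t, by rw [x1, ← ht]; group⟩
  · rintro ⟨t, rfl⟩
    exact P.n0.mem (P.xN_mem t)

theorem mem_R4 (g : G) : g ∈ R (N - 2) ↔ ∃ t, g = x4 φ ψ t := by
  have := P.mirror.mem_R1 g
  rwa [show (N : ℤ) - 1 - 1 = N - 2 by ring] at this

theorem mem_R2 (g : G) : g ∈ R 2 ↔ ∃ t, g = x2 φ ψ t := by
  constructor
  · intro hg
    obtain ⟨t, ht⟩ := (P.mem_R4 _).1 (P.n0' _ g hg)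
    exact ⟨t, by rw [x2, ← ht]; group⟩
  · rintro ⟨t, rfl⟩
    exact P.n0.mem ((P.mem_R4 _).2 ⟨t, rfl⟩)

theorem mem_R3 (g : G) : g ∈ R (N - 3) ↔ ∃ t, g = x3 φ ψ t := by
  have := P.mirror.mem_R2 g
  rwa [show (N : ℤ) - 1 - 2 = N - 3 by ring] at this

end Pr

namespace Pl

theorem mirror (P : Pl N φ ψ R T) : Pl N ψ φ (fun m => R (N - 1 - m)) T where
  toPr := P.toPr.mirror
  comm := P.comm.mirror
  uniq0 g hg h := P.uniq1 g (by simpa using hg) (by simpa [W_mirror] using h)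
  uniq1 g hg h := P.uniq0 g (by simpa using hg) (by simpa [W_mirror] using h)

variable (P : Pl N φ ψ R T)
include P

theorem uniqL (i : ℤ) {g : G} (hg : g ∈ R i) (h : g ∈ W R (i + 1) (i + N)) : g = 1 := by
  rcases Int.even_or_odd i with hi | hi
  · obtain ⟨n, a, -⟩ := P.exists_rot hi.neg
    have := P.uniq0 _ (a.mem hg) (a.W h)
    simpa using this
  · have := P.evZ
    obtain ⟨n, a, -⟩ := P.exists_ref (c := N - 1 + i) (by grind)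
    have := P.uniq1 _ (a.mem hg) (a.W h)
    simpa using this

theorem uniqR (i : ℤ) {g : G} (hg : g ∈ R i) (h : g ∈ W R (i - N + 1) i) : g = 1 :=
  P.mirror.uniqL (N - 1 - i) (by simpa using hg) (by
    rw [W_mirror]; exact W_mono (by omega) (by omega) h)

theorem eqL {i : ℤ} {x y v w : G} (hx : x ∈ R i) (hy : y ∈ R i) (hv : v ∈ W R (i + 1) (i + N))
    (hw : w ∈ W R (i + 1) (i + N)) (e : x * v = y * w) : x = y := by
  have := P.uniqL i (mul_mem (inv_mem hy) hx) (by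
    rw [show y⁻¹ * x = w * v⁻¹ by rw [inv_mul_eq_iff_eq_mul, ← mul_assoc, ← e]; group]
    exact mul_mem hw (inv_mem hv))
  exact (inv_mul_eq_one.1 this).symm

theorem eqR {i : ℤ} {x y v w : G} (hx : x ∈ R i) (hy : y ∈ R i) (hv : v ∈ W R (i - N + 1) i)
    (hw : w ∈ W R (i - N + 1) i) (e : v * x = w * y) : x = y := by
  have := P.uniqR i (mul_mem hx (inv_mem hy)) (by
    rw [show x * y⁻¹ = v⁻¹ * w by rw [mul_inv_eq_iff_eq_mul, mul_assoc, ← e]; group]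
    exact mul_mem (inv_mem hv) hw)
  exact mul_inv_eq_one.1 this

theorem comm_succ (m : ℤ) {g h : G} (hg : g ∈ R m) (hh : h ∈ R (m + 1)) : g * h = h * g := by
  have := P.ge
  have := W_empty le_rfl (P.comm m (m + 1) (by omega) (by omega) g hg h hh)
  rwa [cm, mul_inv_eq_one, mul_inv_eq_iff_eq_mul] at this

end Pl

namespace Pr
variable (P : Pr N φ ψ R T)
include P

theorem dih : Dih T (φ nn) (ψ nn) :=
  ⟨P.Tn0, fun _ => P.Tn0', P.Tn1, fun _ => P.Tn1', P.sq0, P.sq1⟩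

theorem nf_act {n : G} (h : NF T (φ nn) (ψ nn) n) : ∃ c, Rot R n⁻¹ c ∨ Ref R n⁻¹ c := by
  obtain ⟨k, t, ht, rfl | rfl⟩ := h
  · rw [mul_inv_rev, ← zpow_neg]
    exact ⟨_, Or.inl ((P.Tact (inv_mem ht)).mul (P.rot _) rfl)⟩
  · rw [mul_inv_rev]
    exact ⟨_, Or.inr ((P.Tact (inv_mem ht)).mul_ref (P.ref' _) rfl)⟩

theorem exists_mod (c : ℤ) : ∃ q r : ℤ, c = r + 2 * N * q ∧ 0 ≤ r ∧ r < 2 * N := by
  have := P.ge
  exact ⟨c / (2 * N), c % (2 * N), (Int.emod_add_mul_ediv _ _).symm,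
    Int.emod_nonneg _ (by omega), Int.emod_lt_of_pos _ (by omega)⟩

theorem pos_or (m : ℤ) : (∀ g ∈ R m, g ∈ W R 0 N) ∨
    ((∀ g ∈ R (m + N), g ∈ W R 0 N) ∧ ∀ g ∈ R (m - N), g ∈ W R 0 N) := by
  obtain ⟨q, r, rfl, h1, h2⟩ := P.exists_mod m
  by_cases h : r < N
  · exact Or.inl fun g hg => mem_W h1 h (by rwa [P.per_mul] at hg)
  · refine Or.inr ⟨fun g hg => mem_W (k := r - N) (by omega) (by omega) ?_,
      fun g hg => mem_W (k := r - N) (by omega) (by omega) ?_⟩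
    · rw [← P.per_mul _ (q + 1)]; convert hg using 2; ring
    · rw [← P.per_mul _ q]; convert hg using 2; ring

theorem x0_cases {x : G} (hx : x ∈ R 0) :
    x = 1 ∨ ∃ y ∈ R N, ∃ t ∈ T, x = y * (t * φ nn) * y := by
  obtain ⟨s, rfl⟩ := (P.R0 x).1 hx
  by_cases hs : s = 0
  · exact Or.inl (by rw [hs, xu_zero, map_one])
  · refine Or.inr ⟨_, P.xl_mem (((Units.mk0 s hs)⁻¹ : Jˣ) : J), _, P.hφ (Units.mk0 s hs), ?_⟩
    rw [← map_mul, ← map_mul, ← map_mul, ← xu_eq']; rfl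

end Pr

/-- closure of a union of double cosets under the first simple reflection -/
theorem bru_step (P : Pr N φ ψ R T) (c : Comm N R) {𝒩 : G → Prop}
    (hT : ∀ t ∈ T, ∀ n, 𝒩 n → 𝒩 (t * n)) (ha : ∀ n, 𝒩 n → 𝒩 (φ nn * n))
    (hact : ∀ n, 𝒩 n → (∀ x ∈ R 0, n⁻¹ * x * n⁻¹⁻¹ ∈ W R 0 N) ∨
      ∀ y ∈ R N, n⁻¹ * y * n⁻¹⁻¹ ∈ W R 0 N) {u n u' : G} (hu : u ∈ W R 0 N) (hn : 𝒩 n)
    (hu' : u' ∈ W R 0 N) : ∃ v ∈ W R 0 N, ∃ m, 𝒩 m ∧ ∃ v' ∈ W R 0 N,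
      φ nn * (u * n * u') = v * m * v' := by
  have := P.ge
  obtain ⟨v, hv, x, hx, rfl⟩ := c.decL' (by omega) hu
  have hv' : _ ∈ W R 0 N := P.n0.W hv
  rcases hact n hn with h | h
  · exact ⟨_, hv', _, ha n hn, _, mul_mem (h x hx) hu', by group⟩
  rcases P.x0_cases hx with rfl | ⟨y, hy, t, ht, rfl⟩
  · exact ⟨_, hv', _, ha n hn, _, hu', by group⟩
  · exact ⟨_, mul_mem hv' (mem_W (k := 0) (by omega) (by omega) (P.n0.mem hy)), _,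
      ha _ (hT t ht _ (ha n hn)), _, mul_mem (h y hy) hu', by group⟩

theorem bruhat (P : Pr N φ ψ R T) (c : Comm N R) {g : G} (hg : g ∈ φ.range ⊔ ψ.range) :
    ∃ u ∈ W R 0 N, ∃ n, NF T (φ nn) (ψ nn) n ∧ ∃ u' ∈ W R 0 N, g = u * n * u' := by
  have := P.ge
  let S : G → Prop := fun g =>
    ∃ u ∈ W R 0 N, ∃ n, NF T (φ nn) (ψ nn) n ∧ ∃ u' ∈ W R 0 N, g = u * n * u'
  have hU : ∀ u ∈ W R 0 N, ∀ g, S g → S (u * g) := by
    rintro u hu _ ⟨v, hv, n, hn, v', hv', rfl⟩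
    exact ⟨_, mul_mem hu hv, n, hn, v', hv', by group⟩
  have hT : ∀ t ∈ T, ∀ g, S g → S (t * g) := by
    rintro t ht _ ⟨v, hv, n, hn, v', hv', rfl⟩
    exact ⟨_, (P.Tact ht).W hv, _, hn.mulT P.dih ht, v', hv', by group⟩
  have key : ∀ (i : ℤ) n, NF T (φ nn) (ψ nn) n → (∀ x ∈ R i, n⁻¹ * x * n⁻¹⁻¹ ∈ W R 0 N) ∨
      ∀ y ∈ R (i + N), n⁻¹ * y * n⁻¹⁻¹ ∈ W R 0 N := fun i n hn => by
    obtain ⟨e, h | h⟩ := P.nf_act hn
    · exact (P.pos_or (i + e)).imp (fun k x hx => k _ (h.mem hx)) fun k x hx => k.1 _ (h.mem hx)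
    · exact (P.pos_or (e - i)).imp (fun k x hx => k _ (h.mem hx)) fun k x hx => k.2 _ (h.mem hx)
  have ha : ∀ g, S g → S (φ nn * g) := by
    rintro _ ⟨v, hv, n, hn, v', hv', rfl⟩
    exact bru_step P c (fun t ht n hn => hn.mulT P.dih ht) (fun n hn => hn.mula P.dih)
      (fun n hn => by simpa only [zero_add] using key 0 n hn) hv hn hv'
  have hb : ∀ g, S g → S (ψ nn * g) := by
    rintro _ ⟨v, hv, n, hn, v', hv', rfl⟩
    have e : W (fun m => R (N - 1 - m)) 0 N = W R 0 N := by rw [W_mirror, sub_self, sub_zero]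
    have := bru_step P.mirror c.mirror (𝒩 := NF T (φ nn) (ψ nn))
      (fun t ht n hn => hn.mulT P.dih ht) (fun n hn => hn.mulb P.dih) (fun n hn => by
        rw [e, sub_zero, show (N : ℤ) - 1 - N = -1 by ring]
        have := (key (-1) n hn).symm
        rwa [show (-1 : ℤ) + N = N - 1 by ring] at this) (e ▸ hv) hn (e ▸ hv')
    rwa [e] at this
  let H : Subgroup G :=
    { carrier := {g | (∀ s, S s → S (g * s)) ∧ ∀ s, S s → S (g⁻¹ * s)}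
      one_mem' := ⟨fun s hs => by rwa [one_mul], fun s hs => by rwa [inv_one, one_mul]⟩
      mul_mem' := fun h h' => ⟨fun s hs => by rw [mul_assoc]; exact h.1 _ (h'.1 s hs),
        fun s hs => by rw [mul_inv_rev, mul_assoc]; exact h'.2 _ (h.2 s hs)⟩
      inv_mem' := fun h => ⟨h.2, fun s hs => by rw [inv_inv]; exact h.1 s hs⟩ }
  have k1 : ∀ (s : SL(2, J)) g, S g → S (φ s * g) := fun s g hg => by
    have x0 := fun a => hU _ (mem_W (k := 0) le_rfl (by omega) (P.x0_mem a))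
    rcases sl_cases s with ⟨a, b, rfl⟩ | ⟨a, b, c, rfl⟩ <;> simp only [map_mul, mul_assoc]
    · exact hT _ (P.hφ _) _ (x0 _ _ hg)
    · exact x0 _ _ (hT _ (P.hφ _) _ (ha _ (x0 _ _ hg)))
  have k2 : ∀ (s : SL(2, F)) g, S g → S (ψ s * g) := fun s g hg => by
    have x0 := fun a => hU _ (mem_W (k := N - 1) (by omega) (by omega) (P.xN_mem a))
    rcases sl_cases s with ⟨a, b, rfl⟩ | ⟨a, b, c, rfl⟩ <;> simp only [map_mul, mul_assoc]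
    · exact hT _ (P.hψ _) _ (x0 _ _ hg)
    · exact x0 _ _ (hT _ (P.hψ _) _ (hb _ (x0 _ _ hg)))
  have hle : φ.range ⊔ ψ.range ≤ H := sup_le
    (by rintro _ ⟨s, rfl⟩; exact ⟨k1 s, by rw [← map_inv]; exact k1 _⟩)
    (by rintro _ ⟨s, rfl⟩; exact ⟨k2 s, by rw [← map_inv]; exact k2 _⟩)
  have := (hle hg).1 1 ⟨1, one_mem _, 1, NF.one, 1, one_mem _, by simp⟩
  rwa [mul_one] at this

end pol

theorem hex_pre {φ : SL(2, J) →* G} {ψ : SL(2, F) →* G} {R : ZMod 12 → Subgroup G}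
    {T : Subgroup G} (h : HexG φ ψ R T) : Pr 6 φ ψ (fun m : ℤ => R m) T where
  ev := by decide
  ge := by decide
  injφ := h.injφ
  injψ := h.injψ
  per m := by
    congr 1
    push_cast
    rw [show (12 : ZMod 12) = 0 by decide, add_zero]
  R0 := h.R0
  R1 := h.R5
  n0 m g hg := by have := h.n0 _ g hg; push_cast; exact this
  n1 m g hg := by
    have := h.n5 _ g hg
    push_cast
    exact this
  Tcomm := h.Tcomm
  hφ := h.hφ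
  hψ := h.hψ
  Tn0 := h.Tn0
  Tn1 := h.Tn5
  T0 := h.T0
  T1 := h.T5
  faith := h.faith
  braid := h.braid

theorem hex_comm {φ : SL(2, J) →* G} {ψ : SL(2, F) →* G} {R : ZMod 12 → Subgroup G}
    {T : Subgroup G} (h : HexG φ ψ R T) : Comm 6 (fun m : ℤ => R m) := by
  refine (hex_pre h).comm_of (fun j a b g hg k hk => ?_) fun j o a b g hg k hk => ?_
  · have : j = 1 ∨ j = 2 ∨ j = 3 ∨ j = 4 ∨ j = 5 := by omega
    rcases this with rfl | rfl | rfl | rfl | rfl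
    · rw [cm_of_comm (h.c1 0 g hg k hk)]; exact one_mem _
    · exact mem_W (k := 1) (by omega) (by omega) (h.c02 g hg k hk)
    · rw [cm_of_comm (h.c3 0 g hg k hk)]; exact one_mem _
    · obtain ⟨x, hx, y, hy, z, hz, e⟩ := h.c04 g hg k hk
      rw [cm, e]
      exact mul_mem (mul_mem (mem_W (k := 1) (by omega) (by omega) hx)
        (mem_W (k := 2) (by omega) (by omega) hy)) (mem_W (k := 3) (by omega) (by omega) hz)
    · obtain ⟨x, hx, y, hy, z, hz, w, hw, e⟩ := h.c05 g hg k hk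
      rw [cm, e]
      exact mul_mem (mul_mem (mul_mem (mem_W (k := 1) (by omega) (by omega) hx)
        (mem_W (k := 2) (by omega) (by omega) hy)) (mem_W (k := 3) (by omega) (by omega) hz))
        (mem_W (k := 4) (by omega) (by omega) hw)
  · have : j = 3 ∨ j = 5 := by grind
    rcases this with rfl | rfl
    · rw [cm_of_comm (h.c13 g hg k hk)]; exact one_mem _
    · exact mem_W (k := 3) (by omega) (by omega) (h.c15 g hg k hk)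

theorem hex_pol {φ : SL(2, J) →* G} {ψ : SL(2, F) →* G} {R : ZMod 12 → Subgroup G}
    {T : Subgroup G} (h : HexG φ ψ R T) : Pl 6 φ ψ (fun m : ℤ => R m) T where
  toPr := hex_pre h
  comm := hex_comm h
  uniq0 g hg hw := by
    have c := hex_comm h
    obtain ⟨a1, h1, v1, w1, e1⟩ := c.decL (by omega) hw
    obtain ⟨a2, h2, v2, w2, rfl⟩ := c.decL (by omega) w1
    obtain ⟨a3, h3, v3, w3, rfl⟩ := c.decL (by omega) w2
    obtain ⟨a4, h4, v4, w4, rfl⟩ := c.decL (by omega) w3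
    obtain ⟨a5, h5, v5, w5, rfl⟩ := c.decL (by omega) w4
    rw [W_empty (by omega) w5] at e1
    exact inv_eq_one.1 (h.uniq _ (inv_mem hg) _ h1 _ h2 _ h3 _ h4 _ h5 (by rw [e1]; group)).1
  uniq1 g hg hw := by
    have c := hex_comm h
    obtain ⟨a0, h0, v1, w1, e1⟩ := c.decL (by omega) hw
    obtain ⟨a1, h1, v2, w2, rfl⟩ := c.decL (by omega) w1
    obtain ⟨a2, h2, v3, w3, rfl⟩ := c.decL (by omega) w2
    obtain ⟨a3, h3, v4, w4, rfl⟩ := c.decL (by omega) w3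
    obtain ⟨a4, h4, v5, w5, rfl⟩ := c.decL (by omega) w4
    rw [W_empty (by omega) w5] at e1
    exact inv_eq_one.1
      (h.uniq _ h0 _ h1 _ h2 _ h3 _ h4 _ (inv_mem hg) (by rw [e1]; group)).2.2.2.2.2

variable {φ : SL(2, J) →* G} {ψ : SL(2, F) →* G} {R : ZMod 12 → Subgroup G} {T : Subgroup G}
  {f : Fn J F}

section hex
variable (H : HexG φ ψ R T)
include H

theorem m0 (a : J) : x0 φ a ∈ R 0 := (H.R0 _).2 ⟨a, rfl⟩
theorem m5 (a : F) : x0 ψ a ∈ R 5 := (H.R5 _).2 ⟨a, rfl⟩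
theorem i1 (g : G) : g ∈ R 1 ↔ ∃ t, g = x1 φ ψ t := (hex_pre H).mem_R1 g
theorem i2 (g : G) : g ∈ R 2 ↔ ∃ t, g = x2 φ ψ t := (hex_pre H).mem_R2 g
theorem i3 (g : G) : g ∈ R 3 ↔ ∃ t, g = x3 φ ψ t := (hex_pre H).mem_R3 g
theorem i4 (g : G) : g ∈ R 4 ↔ ∃ t, g = x4 φ ψ t := (hex_pre H).mem_R4 g
theorem m1 (a : F) : x1 φ ψ a ∈ R 1 := (i1 H _).2 ⟨a, rfl⟩
theorem m2 (a : J) : x2 φ ψ a ∈ R 2 := (i2 H _).2 ⟨a, rfl⟩
theorem m3 (a : F) : x3 φ ψ a ∈ R 3 := (i3 H _).2 ⟨a, rfl⟩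
theorem m4 (a : J) : x4 φ ψ a ∈ R 4 := (i4 H _).2 ⟨a, rfl⟩

theorem exists_rel : ∃ f : Fn J F, Rel φ ψ f := by
  have h02 : ∀ a b, ∃ u, cm (x0 φ a) (x2 φ ψ b) = x1 φ ψ u := fun a b =>
    (i1 H _).1 (H.c02 _ (m0 H a) _ (m2 H b))
  have h04 : ∀ a b, ∃ u v w, cm (x0 φ a) (x4 φ ψ b) = x1 φ ψ u * x2 φ ψ v * x3 φ ψ w := by
    intro a b
    obtain ⟨_, h1, _, h2, _, h3, e⟩ := H.c04 _ (m0 H a) _ (m4 H b)
    obtain ⟨u, rfl⟩ := (i1 H _).1 h1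
    obtain ⟨v, rfl⟩ := (i2 H _).1 h2
    obtain ⟨w, rfl⟩ := (i3 H _).1 h3
    exact ⟨u, v, w, e⟩
  have h05 : ∀ a t, ∃ u v w y, cm (x0 φ a) (x0 ψ t) =
      x1 φ ψ u * x2 φ ψ v * x3 φ ψ w * x4 φ ψ y := by
    intro a b
    obtain ⟨_, h1, _, h2, _, h3, _, h4, e⟩ := H.c05 _ (m0 H a) _ (m5 H b)
    obtain ⟨u, rfl⟩ := (i1 H _).1 h1
    obtain ⟨v, rfl⟩ := (i2 H _).1 h2
    obtain ⟨w, rfl⟩ := (i3 H _).1 h3
    obtain ⟨y, rfl⟩ := (i4 H _).1 h4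
    exact ⟨u, v, w, y, e⟩
  have h15 : ∀ s t, ∃ u, cm (x1 φ ψ s) (x0 ψ t) = x3 φ ψ u := fun a b =>
    (i3 H _).1 (H.c15 _ (m1 H a) _ (m5 H b))
  have h24 : ∀ a b, ∃ u, cm (x2 φ ψ a) (x4 φ ψ b) = x3 φ ψ u := fun a b => by
    obtain ⟨x, hx, v, hv, e⟩ := (hex_comm H).decL (i := 3) (j := 4) (by omega)
      (hex_comm H 2 4 (by omega) (by omega) _ (m2 H a) _ (m4 H b))
    rw [e, W_empty (by omega) hv, mul_one]
    exact (i3 H _).1 hx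
  choose T hT using h02
  choose G E Hh h04 using h04
  choose C B D A h05 using h05
  choose S hS using h15
  choose U hU using h24
  exact ⟨⟨T, G, E, Hh, C, B, D, A, S, U⟩, hT, h04, h05, hS, hU⟩

theorem c35 (a b : F) : x3 φ ψ a * x0 ψ b = x0 ψ b * x3 φ ψ a := by
  have h3 := (hex_pre H).n0'.mem (m := 3) (m' := 3) (m3 H a)
  have h1 := (hex_pre H).n0'.mem (m := 5) (m' := 1) (m5 H b)
  have := H.c13 _ h1 _ h3
  exact mul_right_cancel (b := φ nn) (by simpa [mul_assoc] using this.symm)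

/-- the rewriting rules of the collection process -/
theorem col (h : Rel φ ψ f) :
    ((∀ a b z, x0 φ a * (x0 φ b * z) = x0 φ (a + b) * z) ∧
    (∀ a b z, x1 φ ψ a * (x1 φ ψ b * z) = x1 φ ψ (a + b) * z) ∧
    (∀ a b z, x2 φ ψ a * (x2 φ ψ b * z) = x2 φ ψ (a + b) * z) ∧
    (∀ a b z, x3 φ ψ a * (x3 φ ψ b * z) = x3 φ ψ (a + b) * z) ∧
    (∀ a b z, x4 φ ψ a * (x4 φ ψ b * z) = x4 φ ψ (a + b) * z) ∧
    (∀ a b z, x0 ψ a * (x0 ψ b * z) = x0 ψ (a + b) * z)) ∧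
    ((∀ a b z, x0 φ a * (x1 φ ψ b * z) = x1 φ ψ b * (x0 φ a * z)) ∧
    (∀ a b z, x1 φ ψ a * (x2 φ ψ b * z) = x2 φ ψ b * (x1 φ ψ a * z)) ∧
    (∀ a b z, x2 φ ψ a * (x3 φ ψ b * z) = x3 φ ψ b * (x2 φ ψ a * z)) ∧
    (∀ a b z, x3 φ ψ a * (x4 φ ψ b * z) = x4 φ ψ b * (x3 φ ψ a * z)) ∧
    (∀ a b z, x4 φ ψ a * (x0 ψ b * z) = x0 ψ b * (x4 φ ψ a * z)) ∧
    (∀ a b z, x0 φ a * (x3 φ ψ b * z) = x3 φ ψ b * (x0 φ a * z)) ∧
    (∀ a b z, x1 φ ψ a * (x4 φ ψ b * z) = x4 φ ψ b * (x1 φ ψ a * z)) ∧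
    (∀ a b z, x2 φ ψ a * (x0 ψ b * z) = x0 ψ b * (x2 φ ψ a * z)) ∧
    (∀ a b z, x1 φ ψ a * (x3 φ ψ b * z) = x3 φ ψ b * (x1 φ ψ a * z)) ∧
    (∀ a b z, x3 φ ψ a * (x0 ψ b * z) = x0 ψ b * (x3 φ ψ a * z))) ∧
    ((∀ a b z, x0 φ a * (x2 φ ψ b * z) = x1 φ ψ (f.T a b) * (x2 φ ψ b * (x0 φ a * z))) ∧
    (∀ a b z, x0 φ a * (x4 φ ψ b * z) =
      x1 φ ψ (f.G a b) * (x2 φ ψ (f.E a b) * (x3 φ ψ (f.H a b) * (x4 φ ψ b * (x0 φ a * z))))) ∧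
    (∀ a t z, x0 φ a * (x0 ψ t * z) = x1 φ ψ (f.C a t) * (x2 φ ψ (f.B a t) *
      (x3 φ ψ (f.D a t) * (x4 φ ψ (f.A a t) * (x0 ψ t * (x0 φ a * z)))))) ∧
    (∀ s t z, x1 φ ψ s * (x0 ψ t * z) = x3 φ ψ (f.S s t) * (x0 ψ t * (x1 φ ψ s * z))) ∧
    (∀ a b z, x2 φ ψ a * (x4 φ ψ b * z) = x3 φ ψ (f.U a b) * (x4 φ ψ b * (x2 φ ψ a * z)))) := by
  refine ⟨⟨?_, ?_, ?_, ?_, ?_, ?_⟩, ⟨?_, ?_, ?_, ?_, ?_, ?_, ?_, ?_, ?_, ?_⟩, ?_, ?_, ?_, ?_, ?_⟩ <;>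
    intro a b z
  · rw [x0_add, mul_assoc]
  · rw [x1_add, mul_assoc]
  · rw [x2_add, mul_assoc]
  · rw [x3_add, mul_assoc]
  · rw [x4_add, mul_assoc]
  · rw [x0_add, mul_assoc]
  · exact sw_of_comm (H.c1 0 _ (m0 H a) _ (m1 H b)) z
  · exact sw_of_comm (H.c1 1 _ (m1 H a) _ (m2 H b)) z
  · exact sw_of_comm (H.c1 2 _ (m2 H a) _ (m3 H b)) z
  · exact sw_of_comm (H.c1 3 _ (m3 H a) _ (m4 H b)) z
  · exact sw_of_comm (H.c1 4 _ (m4 H a) _ (m5 H b)) z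
  · exact sw_of_comm (H.c3 0 _ (m0 H a) _ (m3 H b)) z
  · exact sw_of_comm (H.c3 1 _ (m1 H a) _ (m4 H b)) z
  · exact sw_of_comm (H.c3 2 _ (m2 H a) _ (m5 H b)) z
  · exact sw_of_comm (H.c13 _ (m1 H a) _ (m3 H b)) z
  · exact sw_of_comm (c35 H a b) z
  · exact sw_of_cm (h.r02 a b) z
  · rw [sw_of_cm (h.r04 a b) z]; simp only [mul_assoc]
  · rw [sw_of_cm (h.r05 a b) z]; simp only [mul_assoc]
  · exact sw_of_cm (h.r15 a b) z
  · exact sw_of_cm (h.r24 a b) z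

theorem x0_inj {a b : J} (e : x0 φ a = x0 φ b) : a = b :=
  sub_eq_zero.1 ((hex_pre H).injφ _ (by
    change x0 φ _ = 1
    rw [sub_eq_add_neg, x0_add, e, ← x0_add, add_neg_cancel, x0_zero]))
theorem x5_inj {a b : F} (e : x0 ψ a = x0 ψ b) : a = b :=
  sub_eq_zero.1 ((hex_pre H).injψ _ (by
    change x0 ψ _ = 1
    rw [sub_eq_add_neg, x0_add, e, ← x0_add, add_neg_cancel, x0_zero]))
theorem x1_inj {a b : F} (e : x1 φ ψ a = x1 φ ψ b) : a = b :=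
  x5_inj H (mul_left_cancel (mul_right_cancel e))
theorem x4_inj {a b : J} (e : x4 φ ψ a = x4 φ ψ b) : a = b :=
  x0_inj H (mul_left_cancel (mul_right_cancel e))
theorem x2_inj {a b : J} (e : x2 φ ψ a = x2 φ ψ b) : a = b :=
  x4_inj H (mul_left_cancel (mul_right_cancel e))
theorem x3_inj {a b : F} (e : x3 φ ψ a = x3 φ ψ b) : a = b :=
  x1_inj H (mul_left_cancel (mul_right_cancel e))

theorem eqD {i : ℤ} (h5 : i ≤ 5) {x y v w : G} (hx : x ∈ R i) (hy : y ∈ R i)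
    (hv : v ∈ W (fun m : ℤ => R m) 0 i) (hw : w ∈ W (fun m : ℤ => R m) 0 i)
    (e : x * v = y * w) : x = y :=
  inv_injective ((hex_pol H).eqR (i := i) (inv_mem hx) (inv_mem hy)
    (W_mono (by omega) le_rfl (inv_mem hv)) (W_mono (by omega) le_rfl (inv_mem hw))
    (by rw [← mul_inv_rev, e, mul_inv_rev]))

theorem u6 {a0 a2 a4 b0 b2 b4 : J} {a1 a3 a5 b1 b3 b5 : F} {z : G}
    (e : x0 ψ a5 * (x4 φ ψ a4 * (x3 φ ψ a3 * (x2 φ ψ a2 * (x1 φ ψ a1 * (x0 φ a0 * z))))) =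
      x0 ψ b5 * (x4 φ ψ b4 * (x3 φ ψ b3 * (x2 φ ψ b2 * (x1 φ ψ b1 * (x0 φ b0 * z)))))) :
    a5 = b5 ∧ a4 = b4 ∧ a3 = b3 ∧ a2 = b2 ∧ a1 = b1 ∧ a0 = b0 := by
  have w1 : ∀ c0, x0 φ c0 ∈ W (fun m : ℤ => R m) 0 1 := fun _ =>
    mem_W (k := 0) (by omega) (by omega) (m0 H _)
  have w2 : ∀ c1 c0, x1 φ ψ c1 * x0 φ c0 ∈ W (fun m : ℤ => R m) 0 2 := fun _ _ =>
    mul_mem (mem_W (k := 1) (by omega) (by omega) (m1 H _)) (W_mono le_rfl (by omega) (w1 _))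
  have w3 : ∀ c2 c1 c0, x2 φ ψ c2 * (x1 φ ψ c1 * x0 φ c0) ∈ W (fun m : ℤ => R m) 0 3 :=
    fun _ _ _ =>
    mul_mem (mem_W (k := 2) (by omega) (by omega) (m2 H _)) (W_mono le_rfl (by omega) (w2 _ _))
  have w4 : ∀ c3 c2 c1 c0, x3 φ ψ c3 * (x2 φ ψ c2 * (x1 φ ψ c1 * x0 φ c0)) ∈
      W (fun m : ℤ => R m) 0 4 := fun _ _ _ _ =>
    mul_mem (mem_W (k := 3) (by omega) (by omega) (m3 H _)) (W_mono le_rfl (by omega) (w3 _ _ _))
  have w5 : ∀ c4 c3 c2 c1 c0, x4 φ ψ c4 * (x3 φ ψ c3 * (x2 φ ψ c2 * (x1 φ ψ c1 * x0 φ c0))) ∈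
      W (fun m : ℤ => R m) 0 5 := fun _ _ _ _ _ =>
    mul_mem (mem_W (k := 4) (by omega) (by omega) (m4 H _)) (W_mono le_rfl (by omega) (w4 _ _ _ _))
  have e' : x0 ψ a5 * (x4 φ ψ a4 * (x3 φ ψ a3 * (x2 φ ψ a2 * (x1 φ ψ a1 * x0 φ a0)))) =
      x0 ψ b5 * (x4 φ ψ b4 * (x3 φ ψ b3 * (x2 φ ψ b2 * (x1 φ ψ b1 * x0 φ b0)))) :=
    mul_right_cancel (b := z) (by simpa only [mul_assoc] using e)
  obtain rfl := x5_inj H (eqD H (i := 5) (by omega) (m5 H _) (m5 H _) (w5 _ _ _ _ _) (w5 _ _ _ _ _) e')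
  replace e' := mul_left_cancel e'
  obtain rfl := x4_inj H (eqD H (i := 4) (by omega) (m4 H _) (m4 H _) (w4 _ _ _ _) (w4 _ _ _ _) e')
  replace e' := mul_left_cancel e'
  obtain rfl := x3_inj H (eqD H (i := 3) (by omega) (m3 H _) (m3 H _) (w3 _ _ _) (w3 _ _ _) e')
  replace e' := mul_left_cancel e'
  obtain rfl := x2_inj H (eqD H (i := 2) (by omega) (m2 H _) (m2 H _) (w2 _ _) (w2 _ _) e')
  replace e' := mul_left_cancel e'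
  obtain rfl := x1_inj H (eqD H (i := 1) (by omega) (m1 H _) (m1 H _) (w1 _) (w1 _) e')
  exact ⟨rfl, rfl, rfl, rfl, rfl, x0_inj H (mul_left_cancel e')⟩

theorem u40 {a0 a2 a4 b0 b2 b4 : J} {a1 a3 b1 b3 : F} {z : G}
    (e : x4 φ ψ a4 * (x3 φ ψ a3 * (x2 φ ψ a2 * (x1 φ ψ a1 * (x0 φ a0 * z)))) =
      x4 φ ψ b4 * (x3 φ ψ b3 * (x2 φ ψ b2 * (x1 φ ψ b1 * (x0 φ b0 * z))))) :
    a4 = b4 ∧ a3 = b3 ∧ a2 = b2 ∧ a1 = b1 ∧ a0 = b0 :=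
  (u6 H (congrArg (x0 ψ 0 * ·) e)).2

theorem u51 {a2 a4 b2 b4 : J} {a1 a3 a5 b1 b3 b5 : F} {z : G}
    (e : x0 ψ a5 * (x4 φ ψ a4 * (x3 φ ψ a3 * (x2 φ ψ a2 * (x1 φ ψ a1 * z)))) =
      x0 ψ b5 * (x4 φ ψ b4 * (x3 φ ψ b3 * (x2 φ ψ b2 * (x1 φ ψ b1 * z))))) :
    a5 = b5 ∧ a4 = b4 ∧ a3 = b3 ∧ a2 = b2 ∧ a1 = b1 := by
  rw [← one_mul z, ← x0_zero φ] at e
  have := u6 H e
  tauto

theorem u41 {a2 a4 b2 b4 : J} {a1 a3 b1 b3 : F} {z : G}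
    (e : x4 φ ψ a4 * (x3 φ ψ a3 * (x2 φ ψ a2 * (x1 φ ψ a1 * z))) =
      x4 φ ψ b4 * (x3 φ ψ b3 * (x2 φ ψ b2 * (x1 φ ψ b1 * z)))) :
    a4 = b4 ∧ a3 = b3 ∧ a2 = b2 ∧ a1 = b1 :=
  (u51 H (congrArg (x0 ψ 0 * ·) e)).2

theorem u31 {a2 b2 : J} {a1 a3 b1 b3 : F} {z : G}
    (e : x3 φ ψ a3 * (x2 φ ψ a2 * (x1 φ ψ a1 * z)) = x3 φ ψ b3 * (x2 φ ψ b2 * (x1 φ ψ b1 * z))) :
    a3 = b3 ∧ a2 = b2 ∧ a1 = b1 :=
  (u41 H (congrArg (x4 φ ψ 0 * ·) e)).2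

theorem u13 {a1 a3 b1 b3 : F} {z : G}
    (e : x3 φ ψ a3 * (x1 φ ψ a1 * z) = x3 φ ψ b3 * (x1 φ ψ b1 * z)) : a3 = b3 ∧ a1 = b1 := by
  rw [← one_mul (x1 φ ψ a1 * z), ← one_mul (x1 φ ψ b1 * z), ← x2_zero (φ := φ) (ψ := ψ)] at e
  have := u31 H e
  tauto

end hex

section hex2
variable (H : HexG φ ψ R T)
include H

theorem exists_s6 {τ : G} (hτ : τ ∈ T) : ∃ k0 k1 k2 k3 k4 k5, S6 φ ψ τ k0 k1 k2 k3 k4 k5 := by
  have P := hex_pre H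
  obtain ⟨k0, h0⟩ := H.T0 _ hτ
  obtain ⟨k5, h5⟩ := H.T5 _ hτ
  obtain ⟨k1, h1⟩ := H.T5 _ (P.Tn0' hτ)
  obtain ⟨k4, h4⟩ := H.T0 _ (P.Tn1' hτ)
  obtain ⟨k2, h2⟩ := H.T0 _ (P.Tn1' (P.Tn0' hτ))
  obtain ⟨k3, h3⟩ := H.T5 _ (P.Tn0' (P.Tn1' hτ))
  refine ⟨k0, k1, k2, k3, k4, k5, h0, fun a => ?_, fun a => ?_, fun a => ?_, fun a => ?_, h5⟩
  · rw [← n05, cj_cj]; exact congrArg _ (h1 a)
  · rw [← n04, ← n50, cj_cj, cj_cj (ψ nn)]; exact congrArg _ (congrArg _ (h2 a))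
  · rw [← n51, ← n05, cj_cj, cj_cj (φ nn)]; exact congrArg _ (congrArg _ (h3 a))
  · rw [← n50, cj_cj]; exact congrArg _ (h4 a)

theorem s6_uniq {τ : G} {k0 k2 k4 l0 l2 l4 : J} {k1 k3 k5 l1 l3 l5 : F}
    (h : S6 φ ψ τ k0 k1 k2 k3 k4 k5) (h' : S6 φ ψ τ l0 l1 l2 l3 l4 l5) :
    k0 = l0 ∧ k1 = l1 ∧ k2 = l2 ∧ k3 = l3 ∧ k4 = l4 ∧ k5 = l5 := by
  have a0 := x0_inj H ((h.s0 1).symm.trans (h'.s0 1))
  have a1 := x1_inj H ((h.s1 1).symm.trans (h'.s1 1))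
  have a2 := x2_inj H ((h.s2 1).symm.trans (h'.s2 1))
  have a3 := x3_inj H ((h.s3 1).symm.trans (h'.s3 1))
  have a4 := x4_inj H ((h.s4 1).symm.trans (h'.s4 1))
  have a5 := x5_inj H ((h.s5 1).symm.trans (h'.s5 1))
  simp only [mul_one] at a0 a1 a2 a3 a4 a5
  exact ⟨a0, a1, a2, a3, a4, a5⟩

theorem m6 (a : J) : φ (xl a) ∈ R 6 := (hex_pre H).xl_mem a
theorem m11 (a : F) : ψ (xl a) ∈ R 11 := (hex_pre H).mirror.xl_mem a

theorem n03 (t : F) : cj (φ nn) (x3 φ ψ t) = x3 φ ψ t := by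
  have h0 := fun a => cj_of_comm (H.c3 0 _ (m0 H a) _ (m3 H t))
  have h6 := fun a => cj_of_comm (H.c3 3 _ (m3 H t) _ (m6 H a)).symm
  rw [nn_eq, map_mul, map_mul, cj_mul, cj_mul]
  exact (congrArg _ ((congrArg _ (h0 1)).trans (h6 _))).trans (h0 1)

theorem n52 (a : J) : cj (ψ nn) (x2 φ ψ a) = x2 φ ψ a := by
  have h5 := fun t => cj_of_comm (H.c3 2 _ (m2 H a) _ (m5 H t)).symm
  have h11 := fun t => cj_of_comm (H.c3 11 _ (m11 H t) _ (m2 H a))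
  rw [nn_eq, map_mul, map_mul, cj_mul, cj_mul]
  exact (congrArg _ ((congrArg _ (h5 1)).trans (h11 _))).trans (h5 1)

theorem c111 (s u : F) : ψ (xl s) * x1 φ ψ u = x1 φ ψ u * ψ (xl s) := by
  obtain ⟨t, ht⟩ := (H.R5 _).1 (H.n5 11 _ (m11 H s))
  apply (MulAut.conj (ψ nn)).injective
  rw [map_mul, map_mul, MulAut.conj_apply, ht]
  exact (c35 H u t).symm

variable (h : Rel φ ψ f)
include h

theorem A_add (a : J) (s t : F) : f.A a (s + t) = f.A a s + f.A a t := by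
  have e : x0 φ a * (x0 ψ (s + t) * 1) = x0 φ a * (x0 ψ s * (x0 ψ t * 1)) := by
    rw [x0_add, mul_assoc]
  rw [(col H h).2.2.2.2.1 a s] at e
  simp only [col H h] at e
  exact (u6 H e).2.1

theorem S_add (u s t : F) : f.S u (s + t) = f.S u s + f.S u t := by
  have e : x1 φ ψ u * (x0 ψ (s + t) * 1) = x1 φ ψ u * (x0 ψ s * (x0 ψ t * 1)) := by
    rw [x0_add, mul_assoc]
  rw [(col H h).2.2.2.2.2.1 u s] at e
  simp only [col H h] at e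
  exact (u13 H (mul_left_cancel e)).1

theorem T_add (a b c : J) : f.T a (b + c) = f.T a b + f.T a c := by
  have e : x0 φ a * (x2 φ ψ (b + c) * 1) = x0 φ a * (x2 φ ψ b * (x2 φ ψ c * 1)) := by
    rw [x2_add, mul_assoc]
  rw [(col H h).2.2.1 a b] at e
  simp only [col H h] at e
  exact x1_inj H (mul_right_cancel (mul_left_cancel e))

theorem EG_add (a b c : J) :
    f.E a (b + c) = f.E a b + f.E a c ∧ f.G a (b + c) = f.G a b + f.G a c := by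
  have e : x0 φ a * (x4 φ ψ (b + c) * 1) = x0 φ a * (x4 φ ψ b * (x4 φ ψ c * 1)) := by
    rw [x4_add, mul_assoc]
  rw [(col H h).2.2.2.1 a b] at e
  simp only [col H h] at e
  exact ⟨(u40 H e).2.2.1, (u40 H e).2.2.2.1⟩

theorem zero05 (a : J) (t : F) (e0 : a = 0 ∨ t = 0) :
    f.A a t = 0 ∧ f.D a t = 0 ∧ f.B a t = 0 ∧ f.C a t = 0 := by
  have e : x1 φ ψ (f.C a t) * x2 φ ψ (f.B a t) * x3 φ ψ (f.D a t) * x4 φ ψ (f.A a t) = 1 := by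
    rw [← h.r05]; rcases e0 with rfl | rfl <;> simp [x0_zero, cm]
  exact ⟨x4_inj H ((H.uniq 1 (one_mem _) _ (m1 H _) _ (m2 H _) _ (m3 H _) _ (m4 H _) 1 (one_mem _)
      (by rw [one_mul, mul_one, e])).2.2.2.2.1.trans x4_zero.symm),
    x3_inj H ((H.uniq 1 (one_mem _) _ (m1 H _) _ (m2 H _) _ (m3 H _) _ (m4 H _) 1 (one_mem _)
      (by rw [one_mul, mul_one, e])).2.2.2.1.trans x3_zero.symm),
    x2_inj H ((H.uniq 1 (one_mem _) _ (m1 H _) _ (m2 H _) _ (m3 H _) _ (m4 H _) 1 (one_mem _)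
      (by rw [one_mul, mul_one, e])).2.2.1.trans x2_zero.symm),
    x1_inj H ((H.uniq 1 (one_mem _) _ (m1 H _) _ (m2 H _) _ (m3 H _) _ (m4 H _) 1 (one_mem _)
      (by rw [one_mul, mul_one, e])).2.1.trans x1_zero.symm)⟩

theorem step2 (t : Fˣ) (u : F) {k0 k2 k4 l0 l2 l4 : J} {k1 k3 k5 l1 l3 l5 : F}
    (hk : S6 φ ψ (ψ (hh t)) k0 k1 k2 k3 k4 k5) (hl : S6 φ ψ (ψ (hh (-1))) l0 l1 l2 l3 l4 l5) :
    f.S u (-t) = k3 * u ∧ u = k1 * (l1 * f.S u t) := by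
  have e := qm ψ t (v := x1 φ ψ u) fun s => c111 H s u
  simp only [col H h, add_neg_cancel, neg_add_cancel, x0_zero, one_mul] at e
  simp only [map_mul, map_one, n53, hl.s1, n51, hk.s1, hk.s3, col H h] at e
  exact u13 H e

theorem S_eq (s t : F) : f.S s t = -(s * t) := by
  obtain ⟨l0, l1, l2, l3, l4, l5, hl⟩ := exists_s6 H (H.hψ (-1))
  obtain ⟨e0, e1, e2, e3, e4, ε, hε⟩ := exists_s6 H (H.hφ (-1))
  have h1 : ∀ u t, f.S u t = u * f.S 1 t := fun u t => by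
    by_cases ht : t = 0
    · have z : ∀ u, f.S u 0 = 0 := fun u => by simpa using S_add H h u 0 0
      rw [ht, z, z, mul_zero]
    · obtain ⟨k0, k1, k2, k3, k4, k5, hk⟩ := exists_s6 H (H.hψ (-Units.mk0 t ht))
      have a1 := (step2 H h _ u hk hl).1
      have a2 := (step2 H h _ 1 hk hl).1
      simp only [Units.val_neg, Units.val_mk0, neg_neg] at a1 a2
      rw [a1, a2]; ring
  have h2 : f.S 1 (-1) = 1 := by
    have := (step2 H h 1 1 (by rw [hh_one, map_one]; exact S6.one) hl).1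
    simpa using this
  have h3 : f.S 1 1 = -1 := by
    have := S_add H h 1 1 (-1)
    have z : f.S 1 0 = 0 := by simpa using S_add H h 1 0 0
    rw [add_neg_cancel, z, h2] at this
    linear_combination -this
  have h4 : ∀ s t, f.S t (ε * s) = -f.S s t := fun s t => by
    have e := congrArg (cj (φ nn)) (h.r15 s t)
    rw [cj_cm, n01, hε.s5, n05, n03 H, ← cm_inv, h.r15, x3_inv] at e
    rw [← x3_inj H e, neg_neg]
  have h5 := h4 1 1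
  have h6 := h4 1 t
  rw [h1, h5, h3] at h6
  rw [h1]; linear_combination s * h6

theorem sc_h5 (t : Fˣ) {k0 k2 k4 : J} {k1 k3 k5 : F} (hk : S6 φ ψ (ψ (hh t)) k0 k1 k2 k3 k4 k5) :
    k1 = (t : F)⁻¹ ∧ k3 = t ∧ k5 = (t : F) ^ 2 ∧ k2 = 1 := by
  obtain ⟨l0, l1, l2, l3, l4, l5, hl⟩ := exists_s6 H (H.hψ (-1))
  have a1 := (step2 H h 1 1 (by rw [hh_one, map_one]; exact S6.one) hl).2
  obtain ⟨a2, a3⟩ := step2 H h t 1 hk hl
  simp only [S_eq H h, Units.val_one, mul_one, one_mul, neg_neg] at a1 a2 a3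
  have a4 := x5_inj H ((hk.s5 1).symm.trans (hh_x0 ψ t 1))
  have a5 : cj (ψ (hh t)) (x2 φ ψ 1) = x2 φ ψ 1 := by
    have h5 := fun t => cj_of_comm (H.c3 2 _ (m2 H 1) _ (m5 H t)).symm
    have h11 := fun t => cj_of_comm (H.c3 11 _ (m11 H t) _ (m2 H 1))
    have := h5 t
    rwa [x0, xu_eq, map_mul, map_mul, map_mul, cj_mul, cj_mul, cj_mul, h11,
      show cj (ψ (xu (-t : F))) _ = _ from h5 _, n52 H] at this
  have a6 := x2_inj H ((hk.s2 1).symm.trans a5)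
  refine ⟨?_, a2.symm, by simpa using a4, by simpa using a6⟩
  refine eq_inv_of_mul_eq_one_left ?_
  have : l1 = -1 := by linear_combination a1
  rw [this] at a3
  linear_combination -a3

theorem step1 (t : Fˣ) (a : J) {k0 k2 k4 l0 l2 l4 : J} {k1 k3 k5 l1 l3 l5 : F}
    (hk : S6 φ ψ (ψ (hh t)) k0 k1 k2 k3 k4 k5) (hl : S6 φ ψ (ψ (hh (-1))) l0 l1 l2 l3 l4 l5) :
    f.A a (-t) = k4 * a ∧ f.S (f.C a (-t)) (-t) + (f.U (f.B a (-t)) (f.A a (-t)) + f.D a (-t)) =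
      k3 * (f.U (f.E (l0 * f.A a t) a) a +
        (f.H (l0 * f.A a t) a + (f.U (f.B a t) a + f.C a t))) := by
  have e := qm ψ t (v := x0 φ a) fun s => H.c1 11 _ (m11 H s) _ (m0 H a)
  simp only [col H h, add_neg_cancel, neg_add_cancel, x0_zero, one_mul] at e
  simp only [map_mul, map_one, n54, n53, hl.s0, hl.s1, n50, n51, n52 H, hk.s0, hk.s1, hk.s2, hk.s3,
    hk.s4, col H h] at e
  exact ⟨(u40 H e).1, (u40 H e).2.1⟩

theorem step3 (a : Jˣ) (t : F) {k0 k2 k4 : J} {k1 k3 k5 : F}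
    (hk : S6 φ ψ (φ (hh a)) k0 k1 k2 k3 k4 k5) :
    f.B a t = k2 * f.A (-a) t ∧ f.C a t = k1 * t := by
  obtain ⟨l0, l1, l2, l3, l4, l5, hl⟩ := exists_s6 H (H.hφ (-1))
  have e := qm φ a (v := x0 ψ t) fun s => (H.c1 5 _ (m5 H t) _ (m6 H s)).symm
  rw [(col H h).2.2.2.2.1, (col H h).2.2.2.2.1 (-a)] at e
  simp only [(col H h).1.1, add_neg_cancel, neg_add_cancel, x0_zero, one_mul] at e
  simp only [map_mul, map_one, n01, n02, hl.s5, hl.s4, n04, n05, n03 H, hk.s5, hk.s1, hk.s2, hk.s3,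
    hk.s4, col H h] at e
  exact (u51 H e).2.2.2

theorem equiv {τ : G} {k0 k2 k4 : J} {k1 k3 k5 : F} (hk : S6 φ ψ τ k0 k1 k2 k3 k4 k5) (a : J)
    (t : F) : k2 * f.B a t = f.B (k0 * a) (k5 * t) ∧ k1 * f.C a t = f.C (k0 * a) (k5 * t) := by
  have e := congrArg (cj τ) (h.r05 a t)
  rw [cj_cm, hk.s0, hk.s5, h.r05] at e
  replace e := congrArg (· * 1) e.symm
  simp only [map_mul, hk.s1, hk.s2, hk.s3, hk.s4, mul_assoc, col H h] at e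
  exact (u41 H e).2.2

theorem step4 (a b : J) (t : F) :
    f.B (a + b) t = f.B a t + f.E a (f.A b t) + f.B b t ∧
    f.C (a + b) t = f.C a t + f.G a (f.A b t) + f.T a (f.B b t) + f.C b t := by
  have e : x0 φ (a + b) * (x0 ψ t * 1) = x0 φ a * (x0 φ b * (x0 ψ t * 1)) := by
    rw [x0_add φ, mul_assoc]
  rw [(col H h).2.2.2.2.1 b t] at e
  simp only [col H h] at e
  obtain ⟨-, -, -, e2, e1, -⟩ := u6 H e
  exact ⟨by rw [e2]; ring, by rw [e1]; ring⟩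

theorem U_eq (a b : J) : f.U a b = -f.T b a := by
  have e := congrArg (cj (ψ nn)) (h.r02 b a)
  rw [cj_cm, n50, n52 H, n51, ← cm_inv, h.r24, x3_inv] at e
  rw [← x3_inj H e, neg_neg]

theorem H_eq (a b : J) {l0 l2 l4 : J} {l1 l3 l5 : F}
    (hl : S6 φ ψ (ψ (hh (-1))) l0 l1 l2 l3 l4 l5) : l1 * f.H a b = -f.G (l0 * b) a := by
  have e := congrArg (cj (ψ nn)) (h.r04 a b)
  rw [cj_cm, n50, n54, hl.s0, ← cm_inv, h.r04] at e
  replace e := congrArg (· * 1) e.symm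
  simp only [map_mul, n51, n52 H, n53, hl.s1, mul_inv_rev, x1_inv, x2_inv, x3_inv, mul_assoc,
    col H h] at e
  exact (u31 H e).2.2

omit h in
theorem k4_h5 (t : Fˣ) {k0 k2 k4 c : J} {k1 k3 k5 : F} (hk : S6 φ ψ (ψ (hh t)) k0 k1 k2 k3 k4 k5)
    (hc : ∀ a, cj (ψ (hh t⁻¹)) (x0 φ a) = x0 φ (c * a)) : k4 = c := by
  have := hk.s4 1
  rw [← n50, cj_cj, nn_inv_hh, hc, n50] at this
  simpa using (x4_inj H this).symm

omit h in
theorem exists_pi : ∃ ι : F →+* J, Pi φ ψ ι := by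
  obtain ⟨f, h⟩ := exists_rel H
  obtain ⟨l0, l1, l2, l3, l4, l5, hl⟩ := exists_s6 H (H.hψ (-1))
  have h1 : ∀ (t : Fˣ) a, cj (ψ (hh t⁻¹)) (x0 φ a) = x0 φ (f.A 1 (-t) * a) := fun t => by
    obtain ⟨k0, k1, k2, k3, k4, k5, hk⟩ := exists_s6 H (H.hψ t)
    obtain ⟨c, hc⟩ := H.T0 _ (H.hψ t⁻¹)
    rw [(step1 H h t 1 hk hl).1, k4_h5 H t hk hc, mul_one]
    exact hc
  have h0 : f.A 1 (-0) = 0 := (zero05 H h _ _ (Or.inr neg_zero)).1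
  let ι : F →+* J :=
    { toFun := fun t => f.A 1 (-t)
      map_one' := by
        have := h1 1 1
        rw [inv_one, hh_one, map_one, cj_of_comm (by simp)] at this
        simpa using (x0_inj H this).symm
      map_mul' := fun s t => by
        by_cases hs : s = 0
        · rw [hs, zero_mul, h0, zero_mul]
        by_cases ht : t = 0
        · rw [ht, mul_zero, h0, mul_zero]
        have := h1 (Units.mk0 s hs * Units.mk0 t ht) 1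
        rw [mul_inv, hh_mul, map_mul, cj_mul, h1, h1] at this
        simpa using (x0_inj H this).symm
      map_zero' := h0
      map_add' := fun s t => by rw [neg_add, A_add H h] }
  exact ⟨ι, h1⟩

theorem A_eq {ι : F →+* J} (hι : Pi φ ψ ι) (a : J) (t : F) : f.A a t = -(ι t * a) := by
  by_cases ht : t = 0
  · rw [(zero05 H h _ _ (Or.inr ht)).1, ht]; simp
  obtain ⟨l0, l1, l2, l3, l4, l5, hl⟩ := exists_s6 H (H.hψ (-1))
  obtain ⟨k0, k1, k2, k3, k4, k5, hk⟩ := exists_s6 H (H.hψ (-Units.mk0 t ht))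
  have := (step1 H h _ a hk hl).1
  rw [k4_h5 H _ hk (hι _)] at this
  simpa using this

theorem sc_h0 {ι : F →+* J} (hι : Pi φ ψ ι) (a : Jˣ) {k0 k2 k4 : J} {k1 k3 k5 : F}
    (hk : S6 φ ψ (φ (hh a)) k0 k1 k2 k3 k4 k5) :
    k0 = (a : J) ^ 2 ∧ f.C a 1 = k1 ∧ f.B a 1 = k2 * a := by
  obtain ⟨e1, e2⟩ := step3 H h a 1 hk
  rw [A_eq H h hι] at e1
  exact ⟨by simpa using x0_inj H ((hk.s0 1).symm.trans (hh_x0 φ a 1)), by simpa using e2,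
    by simpa using e1⟩

theorem BC_eq {ι : F →+* J} (hι : Pi φ ψ ι) (a : J) (t : F) :
    f.B a t = ι t * f.B a 1 ∧ f.C a t = f.C a 1 * t := by
  by_cases ha : a = 0
  · simp [zero05 H h _ _ (Or.inl ha)]
  obtain ⟨k0, k1, k2, k3, k4, k5, hk⟩ := exists_s6 H (H.hφ (Units.mk0 a ha))
  obtain ⟨e1, e2⟩ := step3 H h _ t hk
  obtain ⟨-, e3, e4⟩ := sc_h0 H h hι _ hk
  rw [A_eq H h hι] at e1
  simp only [Units.val_mk0] at e1 e2 e3 e4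
  rw [e1, e2, e3, e4]
  exact ⟨by ring, rfl⟩

theorem BC_mul {ι : F →+* J} (hι : Pi φ ψ ι) (a b : J) :
    f.B (a * b) 1 = f.B a 1 * f.B b 1 ∧ f.C (a * b) 1 = f.C a 1 * f.C b 1 := by
  by_cases ha : a = 0
  · simp [ha, zero05 H h 0 _ (Or.inl rfl)]
  by_cases hb : b = 0
  · simp [hb, zero05 H h 0 _ (Or.inl rfl)]
  obtain ⟨k0, k1, k2, k3, k4, k5, hk⟩ := exists_s6 H (H.hφ (Units.mk0 a ha))
  obtain ⟨l0, l1, l2, l3, l4, l5, hl⟩ := exists_s6 H (H.hφ (Units.mk0 b hb))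
  have hm := hk.mul hl
  rw [← map_mul, ← hh_mul] at hm
  obtain ⟨-, e1, e2⟩ := sc_h0 H h hι _ hk
  obtain ⟨-, e3, e4⟩ := sc_h0 H h hι _ hl
  obtain ⟨-, e5, e6⟩ := sc_h0 H h hι _ hm
  simp only [Units.val_mk0, Units.val_mul] at e1 e2 e3 e4 e5 e6
  rw [e1, e2, e3, e4, e5, e6]
  exact ⟨by ring, rfl⟩

theorem BC_one {ι : F →+* J} (hι : Pi φ ψ ι) : f.B 1 1 = 1 ∧ f.C 1 1 = 1 := by
  obtain ⟨-, e1, e2⟩ := sc_h0 H h hι 1 (by rw [hh_one, map_one]; exact S6.one)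
  exact ⟨by simpa using e2, by simpa using e1⟩

theorem mul_B {ι : F →+* J} (hι : Pi φ ψ ι) (a : J) : a * f.B a 1 = ι (f.C a 1) := by
  by_cases ha : a = 0
  · simp [ha, zero05 H h 0 _ (Or.inl rfl)]
  obtain ⟨k0, k1, k2, k3, k4, k5, hk⟩ := exists_s6 H (H.hφ (Units.mk0 a ha))
  obtain ⟨e0, e1, e2⟩ := sc_h0 H h hι _ hk
  obtain ⟨e3, e4⟩ := equiv H h hk 1 1
  simp only [Units.val_mk0] at e0 e1 e2
  rw [(BC_one H h hι).1, e0, mul_one, mul_one, mul_one, (BC_eq H h hι _ k5).1, sq,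
    (BC_mul H h hι _ _).1] at e3
  rw [(BC_one H h hι).2, e0, mul_one, mul_one, mul_one, (BC_eq H h hι _ k5).2, sq,
    (BC_mul H h hι _ _).2, e1] at e4
  have hi := BC_mul H h hι a a⁻¹
  rw [mul_inv_cancel₀ ha, (BC_one H h hι).1, (BC_one H h hι).2] at hi
  have h1 : k1 ≠ 0 := by rintro rfl; simp [e1] at hi
  have h2 : f.B a 1 ≠ 0 := fun e => by simp [e] at hi
  have e5 : ι k1 * ι k5 = 1 := by
    rw [← map_mul, ← map_one ι]; congr 1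
    exact mul_left_cancel₀ h1 (by linear_combination -e4)
  rw [e1]
  refine mul_left_cancel₀ h2 ?_
  linear_combination ι k1 * a * (-e3) - f.B a 1 * f.B a 1 * a * e5 - ι k1 * e2

theorem BC_ι {ι : F →+* J} (hι : Pi φ ψ ι) (u : F) :
    f.B (ι u) 1 = ι u ^ 2 ∧ f.C (ι u) 1 = u ^ 3 := by
  by_cases hu : u = 0
  · simp [hu, zero05 H h 0 _ (Or.inl rfl)]
  obtain ⟨k0, k1, k2, k3, k4, k5, hk⟩ := exists_s6 H (H.hψ (Units.mk0 u hu)⁻¹)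
  obtain ⟨e1, -, e5, -⟩ := sc_h5 H h _ hk
  have e0 := x0_inj H ((hk.s0 1).symm.trans (hι _ 1))
  have e4 := (equiv H h hk 1 1).2
  simp only [Units.val_mk0, mul_one, Units.val_inv_eq_inv_val, inv_inv] at e0 e1 e5 e4
  rw [(BC_eq H h hι _ k5).2, (BC_one H h hι).2, e0, e1, e5] at e4
  have e6 : f.C (ι u) 1 = u ^ 3 := by field_simp at e4; linear_combination -e4
  have e7 := mul_B H h hι (ι u)
  rw [e6, map_pow] at e7
  exact ⟨mul_left_cancel₀ ((map_ne_zero ι).2 hu) (by linear_combination e7), e6⟩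

end hex2

end Cfsg.Agent.H40.Eg
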