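import Cfsg.Agent.H40.F23a
import Cfsg.Agent.H40.F23b

/-! `Fi₂₃` fusion, part c: a conjugate of `z` in `C(z)` outside `Q`. -/

set_option autoImplicit false
set_option linter.style.haveILetI false

namespace Cfsg.Agent.H40.F23

open Subgroup H95.L3 H23 LinearMap

variable {G : Type*} [Group G] {z y t : G} {Q P : Subgroup G} {a b : Fin 3 → G}
  {V : Type} [AddCommGroup V] [Module (ZMod 3) V]

theorem zt_conj (h : ZT z y) {y' : G} (e : IsConj y y') : ZT z y' :=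
  h.imp (·.trans e) (·.trans e)

theorem zt_cj (h : ZT z y) (g : G) : ZT z (g * y * g⁻¹) := zt_conj h (isConj_iff.2 ⟨g, rfl⟩)

theorem zp_gen (hz : orderOf z = 3) {c c₀ : G} (h0 : c₀ ∈ zpowers z) (h1 : c₀ ≠ 1)
    (hc : c ∈ zpowers z) : ∃ n : ℕ, c = c₀ ^ n := by
  have h3 : z * z * z = 1 := by rw [← pow_three', ← hz, pow_orderOf_eq_one]
  rcases (mem_zp3 hz).1 h0 with rfl | rfl | rfl
  · exact absurd rfl h1
  · rcases (mem_zp3 hz).1 hc with rfl | rfl | rfl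
    · exact ⟨0, by simp⟩
    · exact ⟨1, by simp⟩
    · exact ⟨2, by rw [pow_two, inv_eq_iff_mul_eq_one, ← mul_assoc, h3]⟩
  · rcases (mem_zp3 hz).1 hc with rfl | rfl | rfl
    · exact ⟨0, by simp⟩
    · exact ⟨2, by rw [inv_pow, eq_inv_iff_mul_eq_one, pow_two, ← mul_assoc, h3]⟩
    · exact ⟨1, by simp⟩

theorem cop2 (tt : t * t = 1) : (orderOf t).Coprime 3 :=
  Nat.Coprime.coprime_dvd_left (orderOf_dvd_of_pow_eq_one (n := 2) (by rwa [pow_two])) (by norm_num)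

theorem perp1 (D : V3 Q z V) (h : X3 Q z) (g : NC Q z) (x k : V) (hk : (D.ρ g - 1) k = 0) :
    D.β ((D.ρ g - 1) x) k = 0 := by
  have e : D.ρ g k = k := sub_eq_zero.1 hk
  have := D.β_ρ h g x k
  rw [e] at this
  simp [this]

theorem perp2 [Finite G] (D : V3 Q z V) (h : X3 Q z) (g : NC Q z) {v : V}
    (hv : ∀ k, (D.ρ g - 1) k = 0 → D.β v k = 0) : v ∈ range (D.ρ g - 1) := by
  haveI : Fact (Nat.Prime 3) := ⟨by norm_num⟩
  have h1 : D.β v ∈ range (D.ρ g - 1).dualMap := by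
    rw [LinearMap.range_dualMap_eq_dualAnnihilator_ker, Submodule.mem_dualAnnihilator]
    exact hv
  obtain ⟨f, hf⟩ := h1
  obtain ⟨w, rfl⟩ := D.exists_β_eq h f
  have e1 : D.ρ g (D.ρ g⁻¹ w) = w := by
    rw [← Module.End.mul_apply, ← map_mul, mul_inv_cancel, map_one]; rfl
  refine ⟨-D.ρ g⁻¹ w, sub_eq_zero.1 (D.β_nd h fun x => ?_)⟩
  have e2 := D.β_ρ h g (D.ρ g⁻¹ w) x
  rw [e1] at e2
  have e3 : D.β v x = D.β w (D.ρ g x) - D.β w x := by rw [← hf]; simp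
  simp [e1, e2, e3]; ring

theorem p_cm (D : V3 Q z V) (hy : y ∈ NC Q z) {q : G} (hq : q ∈ Q) :
    q * y * q⁻¹ * y⁻¹ ∈ Q ∧ D.p (q * y * q⁻¹ * y⁻¹) = -(D.ρ ⟨y, hy⟩ - 1) (D.p q) := by
  have e : q * y * q⁻¹ * y⁻¹ = q * (y * q⁻¹ * y⁻¹) := by group
  have m := NC.cj_mem hy (inv_mem hq)
  rw [e, D.add _ hq _ m, D.act y hy _ (inv_mem hq), D.p_inv hq]
  exact ⟨mul_mem hq m, by simp; abel⟩

/-- the commutator map on elements fixed modulo the centre -/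
def cmh (h : X3 Q z) {H : Subgroup G} (hH : H ≤ Q) (hc : ∀ k ∈ H, k * y * k⁻¹ * y⁻¹ ∈ zpowers z) :
    H →* G := MonoidHom.mk' (fun k => k * y * (k : G)⁻¹ * y⁻¹) fun k l => by
  have e1 := (h.commute_zp (hH k.2) (hc l l.2)).eq
  have e2 := (h.commute_zp (h.zp_le (hc k k.2)) (hc l l.2)).eq
  rw [e2]
  calc ((k * l : H) : G) * y * ((k * l : H) : G)⁻¹ * y⁻¹
      = k * (l * y * (l : G)⁻¹ * y⁻¹) * y * (k : G)⁻¹ * y⁻¹ := by simp only [coe_mul]; group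
    _ = _ := by rw [e1]; group

theorem card_le3 [Finite G] (h : X3 Q z) {H : Subgroup G} (hH : H ≤ Q)
    (hc : ∀ k ∈ H, k * y * k⁻¹ * y⁻¹ ∈ zpowers z) :
    Nat.card H ≤ 3 * Nat.card ↥(H ⊓ centralizer {y}) := by
  have e1 : (cmh h hH hc).ker = (H ⊓ centralizer {y}).subgroupOf H := by
    ext k
    rw [MonoidHom.mem_ker, mem_subgroupOf, mem_inf, and_iff_right k.2,
      mem_centralizer_singleton_iff]
    exact commutatorElement_eq_one_iff_commute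
  have e2 : (cmh h hH hc).range ≤ zpowers z := by rintro _ ⟨k, rfl⟩; exact hc k k.2
  rw [← (cmh h hH hc).ker.card_mul_index, index_ker, e1,
    Nat.card_congr (subgroupOfEquivOfLe inf_le_left).toEquiv, mul_comm, ← h.card_zp]
  exact Nat.mul_le_mul_right _ (card_le_of_le e2)

theorem eq_one_of_hit (hS : X3 P y) (noz : ∀ u ∈ P, ZT z u → u ∈ zpowers y) (yQ : y ∉ Q) {u : G}
    (hu : u ∈ Q) (hP : u ∈ P) (hz : ZT z (u * y)) : u = 1 := by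
  have h1 : u ∈ zpowers y := by
    simpa using mul_mem (noz _ (mul_mem hP hS.mem) hz) (inv_mem (mem_zpowers y))
  rcases (mem_zp3 hS.ord).1 h1 with e | e | e
  · exact e
  · exact absurd (e ▸ hu) yQ
  · exact absurd (by simpa [e] using hu) yQ

theorem move_t [Finite G] (D : V3 Q z V) (h : X3 Q z) (hy : y ∈ NC Q z) (ht : t ∈ NC Q z)
    (tt : t * t = 1) (ti : ∀ q ∈ Q, D.p (t * q * t⁻¹) = -D.p q) (tc : t * y * t⁻¹ * y⁻¹ ∈ Q)
    (hB : ∀ k ∈ Q, (D.ρ ⟨y, hy⟩ - 1) (D.p k) = 0 → Commute k y) :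
    ∃ s ∈ NC Q z, s * s = 1 ∧ (∀ q ∈ Q, D.p (s * q * s⁻¹) = -D.p q) ∧ Commute s y := by
  have t1 : t⁻¹ = t := inv_eq_of_mul_eq_one_right tt
  obtain ⟨w, hw⟩ := perp2 D h ⟨y, hy⟩ (v := D.p (t * y * t⁻¹ * y⁻¹)) fun k hk => by
    obtain ⟨k, hk', rfl⟩ := D.onto k
    rw [← D.commute_iff h tc hk']
    have c1 := hB k hk' hk
    have c2 := hB _ (NC.cj_mem ht hk') (by rw [ti k hk', map_neg, hk, neg_zero])
    have c3 : Commute k (t * y * t⁻¹) := by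
      have := c2.map (MulAut.conj t⁻¹)
      simp only [MulAut.conj_apply] at this
      convert this using 1
      · group
      · rw [inv_inv, t1]
    exact (c3.mul_right c1.inv_right).symm
  obtain ⟨q, hq, e⟩ := D.onto (-w)
  have hq' := h.le_NC hq
  have hs := mul_mem (mul_mem hq' ht) (inv_mem hq')
  have ss : q * t * q⁻¹ * (q * t * q⁻¹) = 1 := by
    calc _ = q * (t * t) * q⁻¹ := by group
      _ = 1 := by rw [tt]; group
  refine ⟨q * t * q⁻¹, hs, ss, fun x hx => ?_,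
    commute_of_coprime h.ord (mem_NC.1 hs).2 (cop2 ss) ?_⟩
  · have m1 := mul_mem (mul_mem (inv_mem hq) hx) hq
    have m2 := NC.cj_mem ht m1
    rw [show q * t * q⁻¹ * x * (q * t * q⁻¹)⁻¹ = q * (t * (q⁻¹ * x * q) * t⁻¹) * q⁻¹ by group,
      D.add _ (mul_mem hq m2) _ (inv_mem hq), D.add _ hq _ m2, ti _ m1,
      D.add _ (mul_mem (inv_mem hq) hx) _ hq, D.add _ (inv_mem hq) _ hx, D.p_inv hq]
    abel
  · obtain ⟨m1, e1⟩ := p_cm D hy (inv_mem hq)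
    have m2 := NC.cj_mem ht m1
    have m3 := NC.cj_mem hy (inv_mem hq)
    have m4 := mul_mem (mul_mem hq m2) tc
    rw [show q * t * q⁻¹ * y * (q * t * q⁻¹)⁻¹ * y⁻¹ = q * (t * (q⁻¹ * y * q⁻¹⁻¹ * y⁻¹) * t⁻¹) *
      (t * y * t⁻¹ * y⁻¹) * (y * q⁻¹ * y⁻¹) by group, ← D.zero _ (mul_mem m4 m3), D.add _ m4 _ m3,
      D.add _ (mul_mem hq m2) _ tc, D.add _ hq _ m2, ti _ m1, e1, ← hw,
      D.act y hy _ (inv_mem hq), D.p_inv hq, e]
    simp only [neg_neg, LinearMap.sub_apply, Module.End.one_apply]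
    linear_combination (norm := module) three (D.ρ ⟨y, hy⟩ w) - three w

theorem caseB [Finite G] (D : V3 Q z V) (h : X3 Q z) (h3 : ∀ q ∈ Q, q ^ 3 = 1) (hy : y ∈ NC Q z)
    (yQ : y ∉ Q) (zy : ZT z y) (hS : Loc y P b) (noz : ∀ u ∈ P, ZT z u → u ∈ zpowers y)
    (ht : t ∈ NC Q z) (tt : t * t = 1) (ti : ∀ q ∈ Q, D.p (t * q * t⁻¹) = -D.p q)
    (tc : t * y * t⁻¹ * y⁻¹ ∈ Q) (hg : Good D.β (D.ρ ⟨y, hy⟩ - 1))
    (hB : ∀ k ∈ Q, (D.ρ ⟨y, hy⟩ - 1) (D.p k) = 0 → Commute k y) : False := by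
  obtain ⟨s, hs, ss, si, sy⟩ := move_t D h hy ht tt ti tc hB
  obtain ⟨W, hW, w₁, m₁, w₂, m₂, ind⟩ := hg.iso
  have po := perp1 D h ⟨y, hy⟩
  have pc := fun q => p_cm D hy (q := q)
  have pa := D.act y hy
  have hN : ∀ x, D.ρ ⟨y, hy⟩ x = x + (D.ρ ⟨y, hy⟩ - 1) x := fun x => by simp
  generalize D.ρ ⟨y, hy⟩ - 1 = N at *
  have lift : ∀ w, ∃ q ∈ Q, D.p q = w ∧ s * q * s⁻¹ = q⁻¹ := fun w => by
    obtain ⟨q, hq, rfl⟩ := D.onto w
    have hc : s * q * s⁻¹ * q ∈ zpowers z := (D.p_eq_neg_iff (NC.cj_mem hs hq) hq).1 (si q hq)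
    obtain ⟨c, e⟩ : ∃ c, c = s * q * s⁻¹ * q := ⟨_, rfl⟩
    rw [← e] at hc
    have c3 : c * c * c = 1 := by rw [← pow_three']; exact h3 c (h.zp_le hc)
    refine ⟨q * c, mul_mem hq (h.zp_le hc), by
      rw [D.add _ hq _ (h.zp_le hc), (D.zero _ (h.zp_le hc)).2 hc, add_zero], ?_⟩
    have e1 := (h.commute_zp (inv_mem hq) hc).eq
    calc s * (q * c) * s⁻¹ = (s * q * s⁻¹ * q) * q⁻¹ * (s * c * s⁻¹) := by group
      _ = c * (q⁻¹ * c) := by rw [← e, NC.cj_zp hs hc, mul_assoc]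
      _ = c⁻¹ * (c * c * c) * q⁻¹ := by rw [e1]; group
      _ = _ := by rw [c3]; group
  have uniq : ∀ u ∈ Q, ∀ v ∈ Q, s * u * s⁻¹ = u⁻¹ → s * v * s⁻¹ = v⁻¹ → D.p u = D.p v → u = v :=
      fun u hu v hv su sv e => by
    have hc := (D.p_eq_iff hu hv).1 e
    have c3 := h3 _ (h.zp_le hc)
    have e1 := NC.cj_zp hs hc
    have e2 := (h.commute_zp hv hc).eq
    obtain ⟨c, rfl⟩ : ∃ c, u = c * v := ⟨u * v⁻¹, by group⟩
    rw [mul_inv_cancel_right] at c3 e1 e2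
    have e3 : c * c = 1 := by
      calc c * c = c * (s * c * s⁻¹) * (s * v * s⁻¹) * v := by rw [e1, sv]; group
        _ = c * (s * (c * v) * s⁻¹) * v := by group
        _ = c * ((v * c)⁻¹ * v) := by rw [su, e2]; group
        _ = 1 := by group
    rw [pow_three', e3, one_mul] at c3
    rw [c3, one_mul]
  have hit : ∀ u ∈ Q, s * u * s⁻¹ = u⁻¹ → ∀ w ∈ W, D.p u = N w → u ∈ P → N w = 0 :=
      fun u hu su w hw e hP => by
    obtain ⟨q, hq, e1, sq⟩ := lift (-w)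
    have c1 : Commute q (y * q * y⁻¹) := by
      rw [D.commute_iff h hq (NC.cj_mem hy hq), pa q hq, hN, map_add, D.β_self h, zero_add, e1]
      exact (hW _ (W.neg_mem hw)).1
    have e2 : u = q * y * q⁻¹ * y⁻¹ := uniq u hu _ (pc q hq).1 su (by
      have e3 : s * y * s⁻¹ = y := by rw [sy.eq]; group
      calc s * (q * y * q⁻¹ * y⁻¹) * s⁻¹
          = (s * q * s⁻¹) * (s * y * s⁻¹) * (s * q * s⁻¹)⁻¹ * (s * y * s⁻¹)⁻¹ := by group
        _ = q⁻¹ * (y * q * y⁻¹) := by rw [sq, e3]; group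
        _ = _ := by rw [c1.inv_left.eq]; group) (by rw [(pc q hq).2, e1, e, map_neg, neg_neg])
    have := eq_one_of_hit hS.x3 noz yQ hu hP (by
      rw [e2, inv_mul_cancel_right]; exact zt_cj zy q)
    rw [← e, this, D.p_one]
  obtain ⟨u₁, q₁, p₁, s₁⟩ := lift (N w₁)
  obtain ⟨u₂, q₂, p₂, s₂⟩ := lift (N w₂)
  have c12 : Commute u₁ u₂ := by
    rw [D.commute_iff h q₁ q₂, p₁, p₂]; exact po _ _ (hW _ m₂).2
  rcases hS.l4 s u₁ u₂ sy (hB _ q₁ (p₁ ▸ (hW _ m₁).2)) (hB _ q₂ (p₂ ▸ (hW _ m₂).2)) ss (h3 _ q₁)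
    (h3 _ q₂) s₁ s₂ c12 with e | e | e | e
  · exact absurd (ind 1 0 (by simpa using hit _ q₁ s₁ _ m₁ p₁ e)).1 (by decide)
  · exact absurd (ind 0 1 (by simpa using hit _ q₂ s₂ _ m₂ p₂ e)).2 (by decide)
  · have := hit _ (mul_mem q₁ q₂) (by
      calc s * (u₁ * u₂) * s⁻¹ = (s * u₁ * s⁻¹) * (s * u₂ * s⁻¹) := by group
        _ = _ := by rw [s₁, s₂, c12.eq]; group) _ (W.add_mem m₁ m₂)
      (by rw [D.add _ q₁ _ q₂, p₁, p₂, map_add]) e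
    exact absurd (ind 1 1 (by simpa using this)).1 (by decide)
  · have := hit _ (mul_mem q₁ (inv_mem q₂)) (by
      calc s * (u₁ * u₂⁻¹) * s⁻¹ = (s * u₁ * s⁻¹) * (s * u₂ * s⁻¹)⁻¹ := by group
        _ = _ := by rw [s₁, s₂, c12.inv_right.eq, inv_inv]; group) _ (W.add_mem m₁ (W.neg_mem m₂))
      (by rw [D.add _ q₁ _ (inv_mem q₂), D.p_inv q₂, p₁, p₂, map_add, map_neg]) e
    exact absurd (ind 1 (-1) (by simpa using this)).1 (by decide)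

theorem caseA [Finite G] (D : V3 Q z V) (h : X3 Q z) (h3 : ∀ q ∈ Q, q ^ 3 = 1) (hy : y ∈ NC Q z)
    (yQ : y ∉ Q) (zy : ZT z y) (hS : Loc y P b) (noz : ∀ u ∈ P, ZT z u → u ∈ zpowers y)
    (hg : 81 ≤ Nat.card ↥(ker (D.ρ ⟨y, hy⟩ - 1) ⊓ range (D.ρ ⟨y, hy⟩ - 1)) ∨
      (Good D.β (D.ρ ⟨y, hy⟩ - 1) ∧ ∀ u, u * (b 0)⁻¹ ∈ P → ¬ ZT z u))
    {k₀ : G} (q₀ : k₀ ∈ Q) (n₀ : (D.ρ ⟨y, hy⟩ - 1) (D.p k₀) = 0) (c₀ : ¬ Commute k₀ y) : False := by
  have mc : ∀ {m}, m ∈ centralizer ({y} : Set G) ↔ Commute m y := mem_centralizer_singleton_iff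
  have po := perp1 D h ⟨y, hy⟩
  have po2 := fun v => perp2 D h ⟨y, hy⟩ (v := v)
  have pc := fun q => p_cm D hy (q := q)
  generalize D.ρ ⟨y, hy⟩ - 1 = N at *
  have hK : ∀ k ∈ D.pre h (ker N), k * y * k⁻¹ * y⁻¹ ∈ zpowers z := fun k hk =>
    (D.zero _ (pc k hk.1).1).1 (by rw [(pc k hk.1).2, show N (D.p k) = 0 from hk.2, neg_zero])
  have gen : ∀ k ∈ D.pre h (ker N), ¬ Commute k y → ∀ c ∈ zpowers z,
      ∃ n : ℕ, k ^ n * y * (k ^ n)⁻¹ * y⁻¹ = c := fun k hk hc c hz => by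
    obtain ⟨n, rfl⟩ := zp_gen h.ord (hK k hk)
      (fun e => hc (commutatorElement_eq_one_iff_commute.1 e)) hz
    exact ⟨n, map_pow (cmh h (D.pre_le h _) hK) ⟨k, hk⟩ n⟩
  have hit : ∀ u ∈ Q, D.p u ∈ range N → ZT z (u * y) := fun u hu ⟨w, e⟩ => by
    obtain ⟨q, hq, e1⟩ := D.onto (-w)
    have hc : u * (q * y * q⁻¹ * y⁻¹)⁻¹ ∈ zpowers z := (D.p_eq_iff hu (pc q hq).1).1 (by
      rw [(pc q hq).2, e1, map_neg, neg_neg, e])
    obtain ⟨n, e2⟩ := gen k₀ ⟨q₀, n₀⟩ c₀ _ hc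
    have e3 := (h.commute_zp hq hc).eq
    convert zt_cj zy (q * k₀ ^ n) using 1
    calc u * y = (u * (q * y * q⁻¹ * y⁻¹)⁻¹ * q) * y * q⁻¹ := by group
      _ = _ := by rw [← e3, ← e2]; group
  have hit1 : ∀ u ∈ Q, D.p u ∈ range N → u ∈ P → u = 1 := fun u hu hr hP =>
    eq_one_of_hit hS.x3 noz yQ hu hP (hit u hu hr)
  let U₀ := D.pre h (ker N ⊓ range N) ⊓ centralizer {y}
  have b₀ : U₀ ⊓ P = ⊥ := eq_bot_iff.2 fun u hu => hit1 u hu.1.1.1 hu.1.1.2.2 hu.2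
  have l₀ : Nat.card U₀ ≤ 27 := by
    simpa [b₀] using hS.l1 U₀ (fun u hu => mc.1 hu.2) fun u hu => h3 u hu.1.1
  have g₀ : Nat.card ↥(ker N ⊓ range N) ≤ Nat.card U₀ := by
    have := card_le3 h (D.pre_le h (ker N ⊓ range N)) fun k hk => hK k ⟨hk.1, hk.2.1⟩
    rw [D.card_pre] at this
    exact Nat.le_of_mul_le_mul_left this (by norm_num)
  rcases hg with hg | ⟨hg, hw⟩
  · omega
  have l₁ : Nat.card U₀ < 27 := by
    by_contra hc
    obtain ⟨m, hm, hb⟩ := hS.l2 U₀ (fun u hu => mc.1 hu.2) (fun u hu => h3 u hu.1.1)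
      (fun u hu v hv => by
        obtain ⟨x, e⟩ := hu.1.2.2
        have : Commute u v := by
          rw [D.commute_iff h hu.1.1 hv.1.1, ← e]; exact po _ _ hv.1.2.1
        rw [this.eq]; simp) (by simpa [b₀] using hc)
    obtain ⟨u, hu, e⟩ := hb 0
    refine hw _ ?_ (zt_cj (hit u hu.1.1 hu.1.2.2) m)
    convert mul_mem hS.x3.mem e using 1
    rw [(mc.1 hu.2).eq, ← mul_assoc, hm.eq]; group
  rcases hg.big with ⟨h9, h81⟩ | h27
  swap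
  · omega
  by_cases hD : D.pre h (ker N ⊓ range N) ≤ centralizer {y}
  · have : Nat.card U₀ = 3 * Nat.card ↥(ker N ⊓ range N) := by
      rw [← D.card_pre h]; exact congrArg (fun X : Subgroup G => Nat.card X) (inf_eq_left.2 hD)
    omega
  obtain ⟨d, hd, hd'⟩ := SetLike.not_le_iff_exists.1 hD
  let U := D.pre h (ker N) ⊓ centralizer {y}
  have b₁ : U ⊓ P = ⊥ := eq_bot_iff.2 fun u hu => hit1 u hu.1.1.1 (po2 _ fun k hk => by
    obtain ⟨k, hk', rfl⟩ := D.onto k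
    have hcen : ∀ x ∈ U, Commute x u := fun x hx => by
      have m1 := h.comm x hx.1.1 u hu.1.1.1
      exact commutatorElement_eq_one_iff_commute.1 (hit1 _ (h.zp_le m1)
        ((D.zero _ (h.zp_le m1)).2 m1 ▸ Submodule.zero_mem _)
        (mul_mem (hS.norm x (mc.1 hx.2) u hu.2) (inv_mem hu.2)))
    have hdK : d ∈ D.pre h (ker N) := ⟨hd.1, hd.2.1⟩
    obtain ⟨n, e⟩ := gen d hdK (fun e => hd' (mc.2 e)) _ (inv_mem (hK k ⟨hk', hk⟩))
    have c1 : Commute (k * d ^ n) u := hcen _ ⟨mul_mem ⟨hk', hk⟩ (pow_mem hdK n), mc.2 (by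
      have := map_mul (cmh h (D.pre_le h _) hK) ⟨k, hk', hk⟩ ⟨d ^ n, pow_mem hdK n⟩
      refine commutatorElement_eq_one_iff_commute.1 (this.trans ?_)
      change (k * y * k⁻¹ * y⁻¹) * (d ^ n * y * (d ^ n)⁻¹ * y⁻¹) = 1
      rw [e, mul_inv_cancel])⟩
    have c2 : Commute d u := by
      obtain ⟨x, e⟩ := hd.2.2
      rw [D.commute_iff h hd.1 hu.1.1.1, ← e]; exact po _ _ hu.1.1.2
    rw [← D.commute_iff h hu.1.1.1 hk']
    simpa using (c1.mul_left (c2.pow_left n).inv_left).symm) hu.2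
  have l₂ : Nat.card U ≤ 27 := by
    simpa [b₁] using hS.l1 U (fun u hu => mc.1 hu.2) fun u hu => h3 u hu.1.1
  have g₁ := card_le3 h (D.pre_le h (ker N)) hK
  rw [D.card_pre] at g₁
  change _ ≤ 3 * Nat.card U at g₁
  omega

end Cfsg.Agent.H40.F23
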