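import Cfsg.Agent.H40.F23c

/-! `Fi₂₃` fusion, part d: `⟨z⟩` is not weakly closed in `C(d)`. -/

set_option autoImplicit false
set_option linter.style.haveILetI false

universe u

namespace Cfsg.Agent.H40.F23

open Subgroup H95.L3 H23 LinearMap
open scoped commutatorElement

variable {G : Type*} [Group G] {z y t₀ d : G} {Q P : Subgroup G}
  {V : Type} [AddCommGroup V] [Module (ZMod 3) V]

theorem star {a : Fin 3 → G} (h : Loc z Q a) (zy : ZT z y) : ∃ P b, Loc y P b ∧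
    ((∀ u ∈ Q, ZT z u → u ∈ zpowers z) → ∀ u ∈ P, ZT z u → u ∈ zpowers y) ∧
    ((∀ u, u * (a 0)⁻¹ ∈ Q → ¬ ZT z u) → ∀ u, u * (b 0)⁻¹ ∈ P → ¬ ZT z u) := by
  have key : ∀ x g : G, zpowers x = zpowers z → Loc x Q a → ∃ P b, Loc (g * x * g⁻¹) P b ∧
      ((∀ u ∈ Q, ZT z u → u ∈ zpowers z) → ∀ u ∈ P, ZT z u → u ∈ zpowers (g * x * g⁻¹)) ∧
      ((∀ u, u * (a 0)⁻¹ ∈ Q → ¬ ZT z u) → ∀ u, u * (b 0)⁻¹ ∈ P → ¬ ZT z u) := fun x g e hx => by
    refine ⟨_, _, hx.map (MulAut.conj g), fun hn => ?_, fun hw u ⟨q, hq, e1⟩ hu => ?_⟩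
    · rintro _ ⟨q, hq, rfl⟩ hu
      obtain ⟨k, rfl⟩ := e.symm ▸ hn q hq (by simpa [mul_assoc] using zt_cj hu g⁻¹)
      exact ⟨k, by simp [conj_zpow]⟩
    · refine hw _ ?_ (zt_cj hu g⁻¹)
      have e2 : g * q * g⁻¹ = u * (g * a 0 * g⁻¹)⁻¹ := e1
      have e3 : g⁻¹ * u * g⁻¹⁻¹ * (a 0)⁻¹ = q :=
        calc g⁻¹ * u * g⁻¹⁻¹ * (a 0)⁻¹ = g⁻¹ * (u * (g * a 0 * g⁻¹)⁻¹) * g := by group
          _ = q := by rw [← e2]; group
      rw [e3]; exact hq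
  rcases zy with e | e <;> obtain ⟨g, rfl⟩ := isConj_iff.1 e
  · exact key z g rfl h
  · exact key z⁻¹ g zpowers_inv h.inv

theorem ρ_eq (D : V3 Q z V) (h : X3 Q z) (x w : NC Q z) (e : (x : G) * (w : G)⁻¹ ∈ Q) :
    D.ρ x = D.ρ w := by
  have e1 : x = ⟨_, h.le_NC e⟩ * w := Subtype.ext (by simp)
  rw [e1, map_mul, D.ρ_of_mem h e, one_mul]

theorem p_br (D : V3 Q z V) (x : NC Q z) {q : G} (hq : q ∈ Q) :
    ⁅(x : G), q⁆ ∈ Q ∧ D.p ⁅(x : G), q⁆ = (D.ρ x - 1) (D.p q) := by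
  have m := NC.cj_mem x.2 hq
  rw [commutatorElement_def, D.add _ m _ (inv_mem hq), D.act x x.2 q hq, D.p_inv hq]
  exact ⟨mul_mem m (inv_mem hq), by simp [sub_eq_add_neg]⟩

theorem z_mem [Finite G] (h : X3 Q z) (hc : Nat.card Q = 3 ^ 9) (h3 : ∀ q ∈ Q, q ^ 3 = 1)
    (hy : y ∈ Q) (hn : y ∉ zpowers z) {b : Fin 3 → G} (hS : Loc y P b) : z ∈ P := by
  have mc : ∀ {m}, m ∈ centralizer ({y} : Set G) ↔ Commute m y := mem_centralizer_singleton_iff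
  by_contra hz
  have e1 := h.card_cent_elt hy hn
  have e2 := h.card_cent_mul (A := Q ⊓ centralizer {y}) inf_le_left ⟨h.mem, mc.2 (h.cen y hy).symm⟩
  have e3 := hS.l1 (Q ⊓ centralizer {y}) (fun u hu => mc.1 hu.2) fun u hu => h3 u hu.1
  have e4 : (Q ⊓ centralizer {y}) ⊓ P ≤ Q ⊓ centralizer ((Q ⊓ centralizer {y} : Subgroup G) : Set G) :=
    fun u hu => ⟨hu.1.1, fun x hx => by
      by_contra hc
      obtain ⟨n, e⟩ := zp_gen h.ord (h.comm x hx.1 u hu.1.1)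
        (fun e => hc (commutatorElement_eq_one_iff_commute.1 e).eq) (mem_zpowers z)
      exact hz (e ▸ pow_mem (mul_mem (hS.norm x (mc.1 hx.2) u hu.2) (inv_mem hu.2)) n)⟩
  have e5 := card_le_of_le e4
  rw [hc] at e1 e2
  rw [show Nat.card ↥(Q ⊓ centralizer {y}) = 6561 by omega] at e2 e3
  omega

theorem not_zp (hy : orderOf y = 3) (hn : y ∉ zpowers z) {c : G}
    (h1 : c ∈ zpowers z) (h2 : c ∈ zpowers y) : c = 1 := by
  by_contra hc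
  obtain ⟨n, e⟩ := zp_gen hy h2 hc (mem_zpowers y)
  exact hn (e ▸ pow_mem h1 n)

variable [Finite G] {π : centralizer ({z} : Set G) →* C9} {a : Fin 3 → centralizer ({z} : Set G)}

omit [Finite G] in
theorem In23.nc (h : In23 z Q π a t₀ d) {m : G} (hm : Commute m z) : m ∈ NC Q z :=
  mem_NC.2 ⟨h.norm (mem_centralizer_singleton_iff.2 hm), hm⟩

/-- the generators as elements of `NC Q z` -/
def In23.al (h : In23 z Q π a t₀ d) (i : Fin 3) : NC Q z := ⟨a i, h.norm (a i).2, (a i).2⟩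

omit [Finite G] in
theorem In23.cube' (h : In23 z Q π a t₀ d) (D : V3 Q z V) :
    ∃ v, Cube D.β (D.ρ (h.al 0) - 1) (D.ρ (h.al 1) - 1) (D.ρ (h.al 2) - 1) v := by
  have hc : ∀ i j x, (D.ρ (h.al j) - 1) ((D.ρ (h.al i) - 1) x) =
      (D.ρ (h.al i) - 1) ((D.ρ (h.al j) - 1) x) := fun i j x => by
    have e := ρ_eq D h.x3 (h.al j * h.al i) (h.al i * h.al j) (by
      convert h.acomm j i using 1
      simp only [In23.al, coe_mul, commutatorElement_def]; group)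
    have e1 := congrArg (fun f : Module.End (ZMod 3) V => f x) e
    simp only [map_mul, Module.End.mul_apply] at e1
    simp only [LinearMap.sub_apply, map_sub, Module.End.one_apply, e1]; abel
  have hs : ∀ i x, (D.ρ (h.al i) - 1) ((D.ρ (h.al i) - 1) x) = 0 := fun i x => by
    obtain ⟨q, hq, rfl⟩ := D.onto x
    obtain ⟨m1, e1⟩ := p_br D (h.al i) hq
    obtain ⟨m2, e2⟩ := p_br D (h.al i) m1
    rw [← e1, ← e2]; exact (D.zero _ m2).2 (h.quad i q hq)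
  have hk : ∀ i x y, D.β ((D.ρ (h.al i) - 1) x) y = -D.β x ((D.ρ (h.al i) - 1) y) := fun i x y => by
    have e1 := perp1 D h.x3 (h.al i) x _ (hs i y)
    have e2 := D.β_ρ h.x3 (h.al i) x y
    simp only [LinearMap.sub_apply, map_sub, Module.End.one_apply] at e1 ⊢
    linear_combination e2 - e1
  obtain ⟨q, hq, hn⟩ := h.cube
  obtain ⟨m1, e1⟩ := p_br D (h.al 2) hq
  obtain ⟨m2, e2⟩ := p_br D (h.al 1) m1
  obtain ⟨m3, e3⟩ := p_br D (h.al 0) m2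
  exact ⟨D.p q, hc 0 1, hc 0 2, hc 1 2, hs 0, hs 1, hs 2, hk 0, hk 1, hk 2, by
    rw [← e1, ← e2, ← e3]; exact fun e => hn ((D.zero _ m3).1 e)⟩

/-- `⟨z⟩` is not weakly closed in `Q` -/
theorem In23.inQ (h : In23 z Q π a t₀ d) (zy : ZT z y) (hy : Commute y z) (hn : y ∉ zpowers z) :
    ∃ u ∈ Q, ZT z u ∧ u ∉ zpowers z := by
  by_contra hc
  push Not at hc
  obtain ⟨D⟩ := h.x3.exists_V3 (m := 8) h.card
  obtain ⟨v, hv⟩ := h.cube' D
  have key : ∀ u (hu : u ∈ NC Q z), u ∉ Q → ZT z u → Good D.β (D.ρ ⟨u, hu⟩ - 1) →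
      (81 ≤ Nat.card ↥(LinearMap.ker (D.ρ ⟨u, hu⟩ - 1) ⊓ range (D.ρ ⟨u, hu⟩ - 1)) ∨
        ∀ u, u * (a 0 : G)⁻¹ ∈ Q → ¬ ZT z u) → False := fun u hu uQ zu hg hw => by
    obtain ⟨P, b, hS, noz, w1⟩ := star h.loc zu
    by_cases hB : ∀ k ∈ Q, (D.ρ ⟨u, hu⟩ - 1) (D.p k) = 0 → Commute k u
    · refine caseB D h.x3 h.exp hu uQ zu hS (noz hc) (h.nc h.tz) h.tt
        (fun q hq => (D.p_eq_neg_iff (NC.cj_mem (h.nc h.tz) hq) hq).2 (h.tinv q hq)) ?_ hg hB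
      simpa [commutatorElement_def, mul_assoc] using inv_mem (h.tcen u (mem_NC.1 hu).2)
    · push Not at hB
      obtain ⟨k, q0, n0, c0⟩ := hB
      exact caseA D h.x3 h.exp hu uQ zu hS (noz hc) (hw.imp id fun hw => ⟨hg, w1 hw⟩) q0 n0 c0
  have W1 : ∀ u, u * (a 0 : G)⁻¹ ∈ Q → ¬ ZT z u := fun u e zu => by
    have hu : u ∈ NC Q z := by simpa [In23.al] using mul_mem (h.x3.le_NC e) (h.al 0).2
    have e1 := ρ_eq D h.x3 ⟨u, hu⟩ (h.al 0) e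
    refine key u hu (fun uQ => hv.ne ?_) zu (e1 ▸ hv.good₁) (Or.inl (e1 ▸ hv.big₁))
    rw [← e1, D.ρ_of_mem h.x3 uQ]; simp
  obtain ⟨P, b, hS, -⟩ := star h.loc zy
  obtain ⟨m, hm, i, j, k, e⟩ := h.loc.l3 y hy hS.x3.z3
  have hm' := h.nc hm
  have hu := mul_mem (mul_mem hm' (h.nc hy)) (inv_mem hm')
  have uQ : m * y * m⁻¹ ∉ Q := fun uQ => hn (hc y (by
    simpa [mul_assoc] using NC.cj_mem (inv_mem hm') uQ) zy)
  have e1 := ρ_eq D h.x3 ⟨_, hu⟩ (h.al 0 ^ i.1 * h.al 1 ^ j.1 * h.al 2 ^ k.1) e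
  refine key _ hu uQ (zt_cj zy m) (hv.good i j k ?_ (by rw [e1]; simp) (perp1 D h.x3 _)) (Or.inr W1)
  rintro ⟨rfl, rfl, rfl⟩
  exact uQ (by simpa using e)

/-- a conjugate of `z` in `Q` centralized by `d` -/
theorem In23.comm_d (h : In23 z Q π a t₀ d) (zy : ZT z y) (hy : y ∈ Q) (hn : y ∉ zpowers z) :
    ∃ u ∈ Q, ZT z u ∧ u ∉ zpowers z ∧ Commute d u := by
  have mc : ∀ {m}, m ∈ centralizer ({z} : Set G) ↔ Commute m z := mem_centralizer_singleton_iff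
  obtain ⟨D⟩ := h.x3.exists_V3 (m := 8) h.card
  obtain ⟨v, hv⟩ := h.cube' D
  obtain ⟨P, b, hS, -⟩ := star h.loc zy
  have zP := z_mem h.x3 h.card h.exp hy hn hS
  have nz := fun c => not_zp hS.x3.ord hn (c := c)
  have e1 := hS.x3.card_cent_elt zP fun e => h.x3.ne_one (nz z (mem_zpowers z) e)
  have e2 := h.x3.card_cent_mul (A := (P ⊓ centralizer {z}) ⊓ Q) inf_le_right
    ⟨⟨zP, mc.2 (Commute.refl z)⟩, h.x3.mem⟩
  have e3 : (P ⊓ centralizer {z}) ⊓ Q ≤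
      Q ⊓ centralizer (((P ⊓ centralizer {z}) ⊓ Q : Subgroup G) : Set G) := fun u hu =>
    ⟨hu.2, fun x hx => (commutatorElement_eq_one_iff_commute.1
      (nz _ (h.x3.comm x hx.2 u hu.2) (hS.x3.comm x hx.1.1 u hu.1.1))).eq⟩
  have e4 := card_le_of_le e3
  rw [hS.card] at e1
  rw [h.card] at e2
  obtain ⟨m, hm, hb⟩ := h.loc.l2 (P ⊓ centralizer {z}) (fun u hu => mc.1 hu.2)
    (fun u hu => hS.exp u hu.1)
    (fun u hu w hw => zpowers_le.2 hy (hS.x3.comm u hu.1 w hw.1)) (by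
      have : Nat.card ↥((P ⊓ centralizer {z}) ⊓ Q) ≤ 243 := by nlinarith
      omega)
  have hm' := h.nc hm
  have uQ := NC.cj_mem hm' hy
  have un : m * y * m⁻¹ ∉ zpowers z := fun e => hn (by
    have := NC.cj_zp (inv_mem hm') e
    rw [show m⁻¹ * (m * y * m⁻¹) * m⁻¹⁻¹ = y by group] at this
    rwa [← this] at e)
  have k0 : ∀ i, (D.ρ (h.al i) - 1) (D.p (m * y * m⁻¹)) = 0 := fun i => by
    obtain ⟨c, hc, e⟩ := hb i
    have hc' := mul_mem (mul_mem hm' (h.nc (mc.1 hc.2))) (inv_mem hm')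
    rw [← ρ_eq D h.x3 ⟨_, hc'⟩ (h.al i) e, LinearMap.sub_apply, ← D.act _ hc' _ uQ, sub_eq_zero]
    congr 1
    calc _ = m * (c * y * c⁻¹) * m⁻¹ := by group
      _ = _ := by rw [(hS.x3.cen c hc.1).eq]; group
  obtain ⟨c, ec⟩ := hv.line (k0 0) (k0 1) (k0 2)
  let δ : NC Q z := ⟨d, h.nc h.dz⟩
  have dd : ∀ x, D.ρ δ (D.ρ δ x) = x := fun x => by
    rw [← Module.End.mul_apply, ← map_mul, show δ * δ = 1 from Subtype.ext h.dd, map_one]; rfl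
  have dij : ∀ i j, d * a i * d⁻¹ * (a j : G)⁻¹ ∈ Q → ∀ x,
      D.ρ δ ((D.ρ (h.al i) - 1) x) = (D.ρ (h.al j) - 1) (D.ρ δ x) := fun i j e x => by
    have e1 := ρ_eq D h.x3 (δ * h.al i * δ⁻¹) (h.al j) e
    have e2 : D.ρ δ * D.ρ (h.al i) = D.ρ (h.al j) * D.ρ δ := by
      rw [← e1, ← map_mul, ← map_mul, inv_mul_cancel_right]
    have e3 := congrArg (fun f : Module.End (ZMod 3) _ => f x) e2
    simp only [Module.End.mul_apply] at e3
    simp [e3]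
  have da := dij 0 1 h.d01
  have dc := dij 2 2 h.d2
  have db : ∀ x, D.ρ δ ((D.ρ (h.al 1) - 1) x) = (D.ρ (h.al 0) - 1) (D.ρ δ x) := fun x => by
    conv_lhs => rw [← dd x, ← da, dd]
  obtain ⟨c', ec'⟩ := hv.line (x := D.ρ δ ((D.ρ (h.al 0) - 1) ((D.ρ (h.al 1) - 1)
    ((D.ρ (h.al 2) - 1) v)))) (by rw [← db, hv.ab, hv.bb, map_zero, map_zero])
    (by rw [← da, hv.aa, map_zero]) (by rw [← dc, hv.ac, hv.bc, hv.cc, map_zero, map_zero, map_zero])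
  have c1 := hv.fix dd da dc (by
    have := h.x3.card_split δ.2 (X3.sq_triv z h.dd)
    rw [h.x3.Fx_eq_of_coprime δ.2 (cop2 h.dd), h.dfix, D.Ng_eq h.x3 δ.2, D.card_pre, h.card] at this
    change _ = _ * (3 * Nat.card (LinearMap.ker (D.ρ δ + 1))) at this
    omega) ec'
  refine ⟨_, uQ, zt_cj zy m, un, commute_of_coprime h.x3.ord h.dz (cop2 h.dd)
    ((D.ρ_fix_iff δ.2 uQ).1 ?_)⟩
  change D.ρ δ _ = _
  rw [ec, map_smul, ec', c1, one_smul]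

theorem fus23 : Fus23Stmt.{u} := by
  rintro G _ _ z Q π a t₀ d h ⟨y, zy, hy, hn⟩
  obtain ⟨y, hy, zy, hn⟩ := h.inQ zy hy hn
  obtain ⟨y, hy, zy, hn, dy⟩ := h.comm_d zy hy hn
  obtain ⟨P, b, hS, -⟩ := star h.loc zy
  have zP := z_mem h.x3 h.card h.exp hy hn hS
  obtain ⟨q, hq, e⟩ := hS.x3.exists_cj_eq zP (fun e => h.x3.ne_one
    (not_zp hS.x3.ord hn (mem_zpowers z) e)) (mem_zpowers y)
  have hq' := hS.norm d dy q hq
  have d1 : d⁻¹ = d := inv_eq_of_mul_eq_one_right h.dd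
  have e1 : q * (d * q * d⁻¹) * z * (q * (d * q * d⁻¹))⁻¹ = z * y * y := by
    have e2 : d⁻¹ * z * d = z := by rw [mul_assoc, ← h.dz.eq]; group
    have e3 : d * (z * y) * d⁻¹ = z * y := by rw [(h.dz.mul_right dy).eq]; group
    have e4 : q * y * q⁻¹ = y := by rw [(hS.x3.cen q hq).eq]; group
    calc _ = q * (d * (q * (d⁻¹ * z * d) * q⁻¹) * d⁻¹) * q⁻¹ := by group
      _ = q * (z * y) * q⁻¹ := by rw [e2, e, e3]
      _ = (q * z * q⁻¹) * (q * y * q⁻¹) := by group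
      _ = _ := by rw [e, e4]
  refine ⟨q * (d * q * d⁻¹), (commute_of_coprime hS.x3.ord dy (cop2 h.dd) ?_).symm, ?_, ?_⟩
  · convert hS.x3.comm _ hq' _ hq using 1
    calc _ = d * q * (d * q * d⁻¹ * d⁻¹ * d * q⁻¹ * d⁻¹) * q⁻¹ := by group
      _ = d * q * (d⁻¹ * q * d * d⁻¹ * d * q⁻¹ * d⁻¹) * q⁻¹ := by simp only [d1]
      _ = _ := by group
  · rw [e1]
    exact ((Commute.refl z).mul_left (h.x3.cen y hy)).mul_left (h.x3.cen y hy)
  · rw [e1]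
    intro hm
    have h1 : y * y ∈ zpowers z := by
      simpa [mul_assoc] using mul_mem (inv_mem (mem_zpowers z)) hm
    refine hn ?_
    have : y = y * y * (y * y) := by
      rw [← mul_assoc, ← pow_three', hS.x3.z3, one_mul]
    rw [this]; exact mul_mem h1 h1

end Cfsg.Agent.H40.F23
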