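import Cfsg.Agent.H53.FMDefs
import Cfsg.Agent.H6.ZJe
import Cfsg.Agent.H6.Basic
import Cfsg.Agent.H51.QdInv
import Cfsg.Agent.S1969

/-! Project FPM, piece M9: odd automizers and control of fusion. -/

set_option autoImplicit false

namespace Cfsg.Agent.H40.FM

open Subgroup Cfsg Cfsg.Agent.H83

universe u

variable {Γ : Type u} [Group Γ] {p : ℕ} {G S E T X : Subgroup Γ}

local instance factTwo : Fact (Nat.Prime 2) := ⟨Nat.prime_two⟩

/-- The automizer of `X` in `G` has odd order. -/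
def Gd (G X : Subgroup Γ) : Prop :=
  ∀ g ∈ G ⊓ normalizer (X : Set Γ), ∃ k, Odd k ∧ g ^ k ∈ centralizer (X : Set Γ)

theorem gd_of [Finite Γ] (h : ∀ g ∈ G ⊓ normalizer (X : Set Γ), (∃ k : ℕ, g ^ 2 ^ k = 1) →
    g ∈ centralizer (X : Set Γ)) : Gd G X := fun g hg => by
  obtain ⟨m, k, hm, hk⟩ := exists_coprime_pow_pelt (p := 2) g
  exact ⟨m, Nat.coprime_two_right.1 hm, h _ (pow_mem hg m) ⟨k, hk⟩⟩

theorem Gd.out (h : Gd G X) : ∀ g ∈ G ⊓ normalizer (X : Set Γ), (∃ k : ℕ, g ^ 2 ^ k = 1) →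
    g ∈ centralizer (X : Set Γ) := fun g hg ⟨_, hk⟩ => by
  obtain ⟨m, hm, h1⟩ := h g hg
  exact mem_of_pelt_of_pow_mem hk h1 (Nat.coprime_two_right.2 hm)

theorem Gd.cj (h : Gd G X) {g : Γ} (hg : g ∈ normalizer (G : Set Γ)) : Gd G (cj g X) := by
  intro a ha
  obtain ⟨k, hk, h1⟩ := h (g⁻¹ * a * g) (by
    rw [← mem_cj, cj_inf, cj_eq_self hg, cj_normalizer]; exact ha)
  refine ⟨k, hk, ?_⟩
  have := conj_pow' g⁻¹ a k
  rw [inv_inv] at this
  rwa [← cj_centralizer, mem_cj, ← this]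

theorem odd_of_pow {P : Type*} [Group P] [Finite P] {K : Subgroup P}
    (h : ∀ x ∈ K, ∃ k, Odd k ∧ x ^ k = 1) : Odd (Nat.card K) :=
  Nat.coprime_two_right.1 (coprime_card_iff.2 fun x hx j hj => by
    obtain ⟨k, hk, h1⟩ := h x hx
    exact mem_bot.1 (mem_of_pelt_of_pow_mem hj (mem_bot.2 h1) (Nat.coprime_two_right.2 hk)))

theorem pow_of_odd {P : Type*} [Group P] {K : Subgroup P} (h : Odd (Nat.card K)) {x : P}
    (hx : x ∈ K) : ∃ k, Odd k ∧ x ^ k = 1 :=
  ⟨_, h, orderOf_dvd_iff_pow_eq_one.1 (orderOf_dvd_natCard K hx)⟩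

theorem map_top_comp {P : Type*} [Group P] (f : Γ →* P) (T : Subgroup Γ) :
    (⊤ : Subgroup T).map (f.comp T.subtype) = T.map f := by
  rw [← map_map, ← MonoidHom.range_eq_map, range_subtype]

theorem map_top_sub (T : Subgroup Γ) : (⊤ : Subgroup T).map T.subtype = T := by
  rw [← MonoidHom.range_eq_map, range_subtype]

theorem map_zj {P : Type*} [Group P] {f : Γ →* P} (h : Function.Injective (f.comp T.subtype)) :
    (centerThompsonOf p T).map f = centerThompsonOf p (T.map f) := by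
  rw [← map_top_comp f T, ← H51.map_centerThompsonOf p ⊤ h, ← map_map,
    H51.map_centerThompsonOf p ⊤ T.subtype_injective, map_top_sub]

theorem map_oz' {P Q : Type*} [Group P] [Group Q] {f : Q →* P} (h : Function.Injective f)
    (T : Subgroup Q) : (OZ p T).map f = OZ p (T.map f) := by
  rw [H51.map_omegaOne p _ h, H51.map_inf_centralizer h]

theorem map_oz {P : Type*} [Group P] {f : Γ →* P} (h : Function.Injective (f.comp T.subtype)) :
    (OZ p T).map f = OZ p (T.map f) := by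
  rw [← map_top_comp f T, ← map_oz' h, ← map_map, map_oz' T.subtype_injective, map_top_sub]

theorem oz_le_zj [Finite Γ] (T : Subgroup Γ) : OZ p T ≤ centerThompsonOf p T :=
  (H51.omegaOne_center_le_sInf p T).trans
    ((H51.sInf_maxEA_eq_omegaOne p T).le.trans (omegaOne_le _))

/-- `E` is not good, with `|N(E)|_p = |T|` maximal and then `|E|` maximal. -/
structure Bad (p : ℕ) (G E T : Subgroup Γ) : Prop where
  EG : E ≤ G
  pE : IsPGroup p E
  syl : IsSylowIn p T (G ⊓ normalizer (E : Set Γ))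
  bad : ¬ Gd G E
  big : ∀ X R : Subgroup Γ, X ≤ G → IsPGroup p X → R ≤ G ⊓ normalizer (X : Set Γ) → IsPGroup p R →
    Nat.card T < Nat.card R → Gd G X
  max : ∀ X R : Subgroup Γ, X ≤ G → IsPGroup p X → R ≤ G ⊓ normalizer (X : Set Γ) → IsPGroup p R →
    Nat.card T ≤ Nat.card R → Nat.card E < Nat.card X → Gd G X

theorem Bad.cj (h : Bad p G E T) {g : Γ} (hg : g ∈ G) : Bad p G (cj g E) (cj g T) := by
  have hn : g ∈ normalizer (G : Set Γ) := le_normalizer hg
  refine ⟨cj_le_of_mem h.EG hg, isPGroup_cj h.pE g, ?_, fun h1 => h.bad ?_, ?_, ?_⟩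
  · have := h.syl.cj g
    rwa [cj_inf, cj_eq_self hn, cj_normalizer] at this
  · simpa only [cj_inv_cj] using h1.cj (inv_mem hn)
  · simpa only [card_cj] using h.big
  · simpa only [card_cj] using h.max

theorem Bad.TG (h : Bad p G E T) : T ≤ G := h.syl.le.trans inf_le_left

theorem Bad.TN (h : Bad p G E T) : T ≤ normalizer (E : Set Γ) := h.syl.le.trans inf_le_right

variable [Finite Γ] [Fact p.Prime]

theorem Bad.ET (h : Bad p G E T) : E ≤ T :=
  h.syl.le_of_norm (le_inf h.EG le_normalizer) h.pE h.TN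

theorem exists_bad (hX : X ≤ G) (hp : IsPGroup p X) (hb : ¬ Gd G X) : ∃ E T, Bad p G E T := by
  let s : Set (Subgroup Γ × Subgroup Γ) := {y | y.1 ≤ G ∧ IsPGroup p y.1 ∧ ¬ Gd G y.1 ∧
    IsSylowIn p y.2 (G ⊓ normalizer (y.1 : Set Γ))}
  obtain ⟨R, hR⟩ := exists_isSylowIn p (G ⊓ normalizer (X : Set Γ))
  obtain ⟨y, hy, hm⟩ := Set.exists_max_image s
    (fun y => toLex (Nat.card y.2, Nat.card y.1)) (Set.toFinite s) ⟨(X, R), hX, hp, hb, hR⟩
  have key : ∀ X R : Subgroup Γ, X ≤ G → IsPGroup p X → R ≤ G ⊓ normalizer (X : Set Γ) →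
      IsPGroup p R → ¬ Gd G X → ∃ n, Nat.card R ≤ n ∧
        (n < Nat.card y.2 ∨ n = Nat.card y.2 ∧ Nat.card X ≤ Nat.card y.1) := by
    intro X R h1 h2 h3 h4 h5
    obtain ⟨R', hR', h6⟩ := exists_isSylowIn_ge h3 h4
    exact ⟨_, card_le_of_le h6, Prod.Lex.toLex_le_toLex.1 (hm (X, R') ⟨h1, h2, h5, hR'⟩)⟩
  refine ⟨y.1, y.2, hy.1, hy.2.1, hy.2.2.2, hy.2.2.1, fun X R h1 h2 h3 h4 h5 => ?_,
    fun X R h1 h2 h3 h4 h5 h6 => ?_⟩
  · by_contra hc
    obtain ⟨n, a, b⟩ := key X R h1 h2 h3 h4 hc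
    omega
  · by_contra hc
    obtain ⟨n, a, b⟩ := key X R h1 h2 h3 h4 hc
    omega

omit [Fact p.Prime] in
theorem card_lt_of_lt {A B : Subgroup Γ} (h : A < B) : Nat.card A < Nat.card B :=
  lt_of_le_of_ne (card_le_of_le h.le) fun h1 => h.ne (eq_of_le_of_card_ge h.le h1.ge)

/-- A subgroup with a central Sylow `p`-subgroup has a `p'` residual. -/
theorem coprime_res {Z K : Subgroup Γ} (hZ : IsSylowIn p Z K) (hc : K ≤ centralizer (Z : Set Γ)) :
    (Nat.card (resOf p K)).Coprime p := by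
  have hP : normalizer ((hZ.toSylow : Subgroup K) : Set K) ≤
      centralizer ((hZ.toSylow : Subgroup K) : Set K) := fun g _ z hz =>
    Subtype.ext (hc g.2 z hz)
  have h1 := MonoidHom.ker_transferSylow_isComplement' hZ.toSylow hP
  have h2 : resOf p K ≤ (MonoidHom.transferSylow hZ.toSylow hP).ker.map K.subtype :=
    resOf_le_iff.2 fun x hx hc => ⟨⟨x, hx⟩, by
      obtain ⟨k, hk⟩ := hZ.toSylow.isPGroup' (MonoidHom.transferSylow hZ.toSylow hP ⟨x, hx⟩)
      refine eq_one_of_ppow hk (Nat.Coprime.coprime_dvd_left ?_ hc)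
      rw [← Subgroup.orderOf_mk x hx]
      exact orderOf_map_dvd _ _, rfl⟩
  have h3 := card_dvd_of_le h2
  rw [card_map_subtype (MonoidHom.transferSylow hZ.toSylow hP).ker, ← h1.index_eq_card] at h3
  exact ((Nat.Prime.coprime_iff_not_dvd Fact.out).2 fun h4 =>
    hZ.toSylow.not_dvd_index (h4.trans h3)).symm

theorem Bad.cent_le (h : Bad p G E T) : T ⊓ centralizer (E : Set Γ) ≤ E := by
  by_contra hc
  have hp := h.syl.isPGroup
  set K := G ⊓ normalizer (E : Set Γ) ⊓ centralizer (E : Set Γ) with hK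
  set Z := T ⊓ K with hZ
  have hn : G ⊓ normalizer (E : Set Γ) ≤ normalizer (K : Set Γ) :=
    le_norm_inf le_normalizer (le_norm_cent inf_le_right)
  have h1 := h.syl.inf_normal inf_le_left hn
  have h2 : E ⊔ Z ≤ T := sup_le h.ET inf_le_left
  have h3 : T ≤ normalizer ((E ⊔ Z : Subgroup Γ) : Set Γ) :=
    le_norm_sup h.TN (le_norm_inf le_normalizer (h.syl.le.trans hn))
  have h4 := h.max (E ⊔ Z) T (h2.trans h.TG) (hp.to_le h2) (le_inf h.TG h3) hp le_rfl
    (card_lt_of_lt (lt_of_le_of_ne le_sup_left fun h5 => hc fun x hx =>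
      h5.ge (mem_sup_right ⟨hx.1, h.syl.le hx.1, hx.2⟩)))
  refine h.bad fun g hg => ?_
  obtain ⟨n, hn', a, ha, rfl⟩ := h1.frattini (hn hg)
  have haH : a ∈ G ⊓ normalizer (E : Set Γ) := by
    simpa only [inv_mul_cancel_left] using Subgroup.mul_mem _ (Subgroup.inv_mem _ hn'.1) hg
  have h5 : G ⊓ normalizer (E : Set Γ) ⊓ normalizer (Z : Set Γ) ≤
      G ⊓ normalizer ((E ⊔ Z : Subgroup Γ) : Set Γ) :=
    le_inf (inf_le_left.trans inf_le_left) (le_norm_sup (inf_le_left.trans inf_le_right) inf_le_right)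
  obtain ⟨k, hk, h6⟩ := h4 a (h5 ⟨haH, ha⟩)
  refine ⟨k, hk, fun e he => ?_⟩
  have h7 : ∀ j : ℕ, ∀ e ∈ E, (n * a) ^ j * e * ((n * a) ^ j)⁻¹ = a ^ j * e * (a ^ j)⁻¹ := by
    intro j
    induction j with
    | zero => intro e _; simp
    | succ j ih =>
      intro e he
      have h8 : a ^ j * e * (a ^ j)⁻¹ ∈ E := (mem_normalizer_iff.1 (pow_mem haH.2 j) e).1 he
      have h9 : a * (a ^ j * e * (a ^ j)⁻¹) * a⁻¹ ∈ E := (mem_normalizer_iff.1 haH.2 _).1 h8
      have h10 := hn'.2 _ h9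
      calc (n * a) ^ (j + 1) * e * ((n * a) ^ (j + 1))⁻¹
          = (n * a) * ((n * a) ^ j * e * ((n * a) ^ j)⁻¹) * (n * a)⁻¹ := by
            rw [pow_succ', mul_inv_rev (n * a) ((n * a) ^ j)]; simp only [mul_assoc]
        _ = n * (a * (a ^ j * e * (a ^ j)⁻¹) * a⁻¹) * n⁻¹ := by rw [ih e he]; group
        _ = a * (a ^ j * e * (a ^ j)⁻¹) * a⁻¹ := by rw [← h10]; group
        _ = _ := by rw [pow_succ']; group
  have h8 := h7 k e he
  rw [← h6 e (mem_sup_left he), mul_inv_cancel_right, mul_inv_eq_iff_eq_mul] at h8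
  exact h8.symm

theorem Bad.false (hL : H53.FM.OFLocStmt.{u}) (hp2 : p ≠ 2) (hS : IsSylowIn p S G)
    (h1 : Odd (Nat.card ↥(G ⊓ centralizer (OZ p S : Set Γ))))
    (h2 : Odd (Nat.card ↥(G ⊓ normalizer (centerThompsonOf p S : Set Γ))))
    (h : Bad p G E T) (hTS : T ≤ S) : False := by
  have hp := h.syl.isPGroup
  -- `OZ S ≤ OZ T`
  have hTe : S ⊓ normalizer (E : Set Γ) = T :=
    h.syl.max _ (inf_le_inf_right _ hS.le) (hS.isPGroup.to_le inf_le_left) (le_inf hTS h.TN)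
  have hz : OZ p S ≤ OZ p T :=
    le_OZ (hTe ▸ le_inf (OZ_le S) (le_norm_of_le_cent
      ((OZ_le_cent S).trans (cent_anti (h.ET.trans hTS)))))
      ((OZ_le_cent S).trans (cent_anti hTS)) (EA_OZ S).2
  have c1 : ∀ g ∈ G ⊓ centralizer (OZ p T : Set Γ), ∃ k, Odd k ∧ g ^ k = 1 :=
    fun g hg => pow_of_odd h1 ⟨hg.1, cent_anti hz hg.2⟩
  have c2 : ∀ g ∈ G ⊓ normalizer (centerThompsonOf p T : Set Γ), ∃ k, Odd k ∧ g ^ k = 1 := by
    intro g hg
    rcases hTS.eq_or_lt with rfl | hlt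
    · exact pow_of_odd h2 hg
    · have hY := H51.centerThompsonOf_le p T
      obtain ⟨k, hk, h3⟩ := h.big (centerThompsonOf p T) (S ⊓ normalizer (T : Set Γ))
        (hY.trans h.TG) (hp.to_le hY) (inf_le_inf hS.le
          (H51.normalizer_le_normalizer_centerThompsonOf p T)) (hS.isPGroup.to_le inf_le_left)
        (card_lt_of_lt (lt_inf_normalizer hS.isPGroup hlt)) g hg
      obtain ⟨j, hj, h4⟩ := c1 (g ^ k) ⟨pow_mem hg.1 k, cent_anti (oz_le_zj T) h3⟩
      exact ⟨k * j, hk.mul hj, by rw [pow_mul, h4]⟩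
  set H := G ⊓ normalizer (E : Set Γ) with hH
  set K := G ⊓ centralizer (E : Set Γ) with hK
  have hKH : K ≤ H := inf_le_inf_left _ (le_norm_of_le_cent le_rfl)
  have hn : H ≤ normalizer (K : Set Γ) :=
    le_norm_inf (inf_le_left.trans le_normalizer) (le_norm_cent inf_le_right)
  have k1 := h.syl.inf_normal hKH hn
  have k2 : T ⊓ K ≤ E := (inf_le_inf_left _ inf_le_right).trans h.cent_le
  have k3 : K ≤ resOf p K ⊔ E := k1.resOf_sup.ge.trans (sup_le_sup_left k2 _)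
  have k4 := coprime_res k1 (inf_le_right.trans (cent_anti k2))
  set O := resOf p K with hO
  have hOK : O ≤ K := resOf_le _
  have hOH : O ≤ H := hOK.trans hKH
  have hEH : E ≤ H := h.ET.trans h.syl.le
  have hN : (O.subgroupOf H).Normal := (normal_subgroupOf_iff_le_normalizer hOH).2 (norm_resOf hn)
  let f : H →* H ⧸ O.subgroupOf H := QuotientGroup.mk' _
  have hf : Function.Surjective f := QuotientGroup.mk'_surjective _
  have hker : f.ker = O.subgroupOf H := QuotientGroup.ker_mk' _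
  have hk : (Nat.card f.ker).Coprime p := by
    rw [hker, Nat.card_congr (subgroupOfEquivOfLe hOH).toEquiv]; exact k4
  have t0 : IsSylowIn p (T.subgroupOf H) ⊤ := isSylowIn_top h.syl.toSylow
  have t1 : IsSylowIn p ((T.subgroupOf H).map f) ⊤ := by
    have := t0.map f
    rwa [map_top_of_surjective f hf] at this
  have inj := H6.injOn_of_coprime_ker hk t0.isPGroup
  have mT : (T.subgroupOf H).map H.subtype = T := map_subgroupOf_eq_of_le h.syl.le
  have hodd := hL _ p _ Fact.out hp2 t1 ?_ ?_ ?_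
  · refine h.bad fun g hg => ⟨_, hodd, ?_⟩
    have : f (⟨g, hg⟩ ^ Nat.card (H ⧸ O.subgroupOf H)) = 1 := by rw [map_pow, pow_card_eq_one']
    rw [← MonoidHom.mem_ker, hker] at this
    exact (hOK this).2
  · have : (E.subgroupOf H).Normal := (normal_subgroupOf_iff_le_normalizer hEH).2 inf_le_right
    have pE : IsPGroup p (E.subgroupOf H) := h.pE.comap_subtype
    have e1 : (E.subgroupOf H).map f ≤ pCore p _ :=
      le_pCore (Subgroup.Normal.map inferInstance f hf) (pE.map f)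
    refine (cent_anti e1).trans (le_trans ?_ e1)
    rw [H6.centralizer_map_of_coprime_ker hf hk pE]
    rintro _ ⟨x, hx, rfl⟩
    have hxK : (x : Γ) ∈ K := ⟨x.2.1, fun e he => congrArg Subtype.val (hx ⟨e, hEH he⟩ he)⟩
    obtain ⟨o, ho, e, he, h3⟩ := (mem_sup_left_norm (hEH.trans (norm_resOf hn))).1 (k3 hxK)
    refine ⟨⟨e, hEH he⟩, he, ?_⟩
    have h4 : x = ⟨o, hOH ho⟩ * ⟨e, hEH he⟩ := Subtype.ext (by simp [h3])
    have h5 : f ⟨o, hOH ho⟩ = 1 := by rw [← MonoidHom.mem_ker, hker]; exact ho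
    rw [h4, map_mul, h5, one_mul]
  · rw [← map_oz inj, H6.centralizer_map_of_coprime_ker hf hk (t0.isPGroup.to_le (OZ_le _))]
    refine odd_of_pow ?_
    rintro _ ⟨x, hx, rfl⟩
    obtain ⟨k, hk, h3⟩ := c1 x ⟨x.2.1, by
      rw [← mT, ← OZ_map_subtype]
      rintro _ ⟨e, he, rfl⟩
      exact congrArg Subtype.val (hx e he)⟩
    exact ⟨k, hk, by rw [← map_pow, show x ^ k = 1 from Subtype.ext h3, map_one]⟩
  · rw [← map_zj inj, H6.normalizer_map_of_coprime_ker hf hk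
      (t0.isPGroup.to_le (H51.centerThompsonOf_le _ _))]
    refine odd_of_pow ?_
    rintro _ ⟨x, hx, rfl⟩
    obtain ⟨k, hk, h3⟩ := c2 x ⟨x.2.1, by
      rw [← mT, ← H51.map_centerThompsonOf p _ H.subtype_injective]
      exact le_normalizer_map _ ⟨x, hx, rfl⟩⟩
    exact ⟨k, hk, by rw [← map_pow, show x ^ k = 1 from Subtype.ext h3, map_one]⟩

omit [Finite Γ] [Fact p.Prime] in
theorem of (hL : H53.FM.OFLocStmt.{u}) : H53.FM.OFStmt.{u} := by
  intro Γ _ _ p G S hp hp2 hS h1 h2 X hX hpX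
  have := Fact.mk hp
  refine Gd.out ?_
  by_contra hb
  obtain ⟨E, T, h⟩ := exists_bad hX hpX hb
  obtain ⟨g, hg, h3⟩ := hS.exists_conj_le h.TG h.syl.isPGroup
  exact (h.cj hg).false hL hp2 hS h1 h2 h3

/-! ### Control of fusion -/

theorem odd_of_charP {K P : Type*} [Group K] [Finite K] [Group P] [Finite P] (hp2 : p ≠ 2)
    (f : K →* P) (hf : Function.Surjective f)
    (hg : ∀ X : Subgroup K, IsPGroup p X → ∀ g ∈ normalizer (X : Set K),
      ∃ k, Odd k ∧ g ^ k ∈ centralizer (X : Set K))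
    (hC : centralizer (pCore p P : Set P) ≤ pCore p P) : Odd (Nat.card P) := by
  rw [← card_top]
  refine odd_of_pow fun y _ => ?_
  obtain ⟨x, rfl⟩ := hf y
  have : (pCore p P).Normal := pCore_normal p P
  obtain ⟨Q, hQ⟩ := exists_isSylowIn p ((pCore p P).comap f)
  have h1 : Q.map f = pCore p P := by
    have := hQ.map f
    rw [map_comap_eq_self_of_surjective hf] at this
    exact this.eq_of_isPGroup pCore_isPGroup
  obtain ⟨n, hn, a, ha, rfl⟩ := hQ.frattini (g := x) (le_normalizer_of_normal (mem_top x))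
  obtain ⟨k, hk, h2⟩ := hg Q hQ.isPGroup a ha
  have h3 : f a ^ k ∈ pCore p P := hC (by
    rw [← h1]
    rintro _ ⟨e, he, rfl⟩
    rw [← map_pow, ← map_mul, ← map_mul, h2 e he])
  have h4 : f (n * a) ^ k ∈ pCore p P := by
    rw [← QuotientGroup.eq_one_iff] at h3 ⊢
    rw [QuotientGroup.mk_pow] at h3 ⊢
    rw [map_mul, QuotientGroup.mk_mul, (QuotientGroup.eq_one_iff (f n)).2 hn, one_mul, h3]
  obtain ⟨j, hj⟩ := isPGroup_iff.1 pCore_isPGroup _ h4
  exact ⟨k * p ^ j, hk.mul ((Nat.Prime.odd_of_ne_two Fact.out hp2).pow), by rw [pow_mul, hj]⟩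

theorem not_involves {P : Type*} [Group P] [Finite P] (hp2 : p ≠ 2) (h : Odd (Nat.card P)) :
    ¬ Involves (Matrix.SpecialLinearGroup (Fin 2) (ZMod p)) P := by
  rintro ⟨K, R, _, ⟨e⟩⟩
  have h1 : Nat.card (Matrix.SpecialLinearGroup (Fin 2) (ZMod p)) ∣ Nat.card P := by
    rw [← Nat.card_congr e.toEquiv]
    exact (card_quotient_dvd_card _).trans (card_subgroup_dvd_card K)
  have h2 : (-1 : Matrix.SpecialLinearGroup (Fin 2) (ZMod p)) ^ Nat.card P = 1 :=
    orderOf_dvd_iff_pow_eq_one.1 ((_root_.orderOf_dvd_natCard _).trans h1)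
  rw [h.neg_one_pow] at h2
  have h3 := congrArg (fun A : Matrix.SpecialLinearGroup (Fin 2) (ZMod p) => A.1 0 0) h2
  simp only [Matrix.SpecialLinearGroup.coe_neg, Matrix.SpecialLinearGroup.coe_one,
    Matrix.neg_apply, Matrix.one_apply_eq] at h3
  have : Fact (2 < p) := ⟨lt_of_le_of_ne (Nat.Prime.two_le Fact.out) hp2.symm⟩
  exact ZMod.neg_one_ne_one h3

theorem zj_normal {P : Type*} [Group P] [Finite P] (hp2 : p ≠ 2) (h : Odd (Nat.card P))
    (hC : centralizer (pCore p P : Set P) ≤ pCore p P) (T : Sylow p P) :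
    (centerThompsonOf p (T : Subgroup P)).Normal :=
  H6.zje_normal hp2 T hC fun _ _ hB => H51.stableOn_of_isNormalizerPStable
    (H51.isNormalizerPStable_of_SL2Free hp2 (not_involves hp2 h)) hB le_normalizer_of_normal

omit [Finite Γ] [Fact p.Prime] in
theorem ctl : H53.FM.CtlStmt.{u} := by
  intro Γ _ _ p G S hp hp2 hS hg y hy g hgG hgy
  have := Fact.mk hp
  have h := H6.controlsStrongFusion_of_top H6.isCharPFunctor_zjeFun
    (S1969.result (G := G) _ H6.isCharPFunctor_zjeFun (fun K R _ hC T => by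
      rw [H6.inducedFunctor_zjeFun]
      refine zj_normal hp2 (odd_of_charP hp2 (QuotientGroup.mk' _) (QuotientGroup.mk'_surjective _)
        (fun X hX a ha => ?_) hC) hC T
      let ι : K →* Γ := G.subtype.comp K.subtype
      obtain ⟨k, hk, h1⟩ := gd_of (hg (X.map ι) (by rintro _ ⟨x, -, rfl⟩; exact x.1.2) (hX.map ι))
        (ι a) ⟨a.1.2, le_normalizer_map _ ⟨a, ha, rfl⟩⟩
      refine ⟨k, hk, fun x hx => Subtype.ext (Subtype.ext ?_)⟩
      exact h1 (ι x) ⟨x, hx, rfl⟩) ⊤ ⊥) hS.toSylow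
  rw [H6.inducedFunctor_zjeFun] at h
  obtain ⟨n, hn, h2⟩ := H6.controls_of_controlsStrongFusion hS.toSylow
    (H51.centerThompsonOf_le _ _) h (A := {⟨y, hS.le hy⟩}) (by rintro _ rfl; exact hy)
    (g := ⟨g, hgG⟩) (by rintro _ ⟨_, rfl, rfl⟩; exact hgy)
  refine ⟨n, ⟨n.2, ?_⟩, (congrArg Subtype.val (h2 _ rfl)).symm⟩
  rw [← hS.map_toSylow, ← H51.map_centerThompsonOf p _ G.subtype_injective]
  exact le_normalizer_map _ ⟨n, hn, rfl⟩

end Cfsg.Agent.H40.FM
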