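import Cfsg.Agent.H56.HLDefs
import Cfsg.Agent.H61.L34Rec
import Cfsg.Agent.S0249

/-! Project HL (S3727): assembly of the model `L₃(q)`. -/

set_option autoImplicit false

namespace Cfsg.Agent.H40.HlMx

open Subgroup Matrix Cfsg.Agent.H56.HL Cfsg.Agent.H32

universe u

variable {K : Type} [Field K]

/-- the inverse transpose -/
def it : SpecialLinearGroup (Fin 3) K ≃* SpecialLinearGroup (Fin 3) K where
  toFun g := g⁻¹.transpose
  invFun g := g.transpose⁻¹
  left_inv g := by
    change g⁻¹.transpose.transpose⁻¹ = g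
    rw [show g⁻¹.transpose.transpose = g⁻¹ from Subtype.ext (transpose_transpose _), inv_inv]
  right_inv g := by
    change g.transpose⁻¹⁻¹.transpose = g
    rw [inv_inv]
    exact Subtype.ext (transpose_transpose _)
  map_mul' g h := Subtype.ext (by
    rw [_root_.mul_inv_rev]
    exact transpose_mul _ _)

theorem it_ts {v φ : Fin 3 → K} (h : φ ⬝ᵥ v = 0) : it (ts v φ) = ts (-φ) v := Subtype.ext (by
  change ((ts v φ)⁻¹ : SpecialLinearGroup (Fin 3) K).1ᵀ = _
  rw [ts_inv h, coe_ts (by rw [neg_dotProduct, h, neg_zero]),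
    coe_ts (by rw [dotProduct_neg, dotProduct_comm, h, neg_zero]), transpose_add, transpose_one,
    transpose_vecMulVec])

variable {G : Type u} [Group G] {π : SpecialLinearGroup (Fin 3) K →* G} {N : Subgroup G}

theorem md_it (h : Md π N) : Md (π.comp it.toMonoidHom) N where
  range := by
    rw [MonoidHom.range_comp, MonoidHom.range_eq_top.2 it.surjective, ← MonoidHom.range_eq_map, h.range]
  ker g := (h.ker _).trans (MulEquivClass.apply_mem_center_iff it)
  two := h.two

theorem EP_it (π : SpecialLinearGroup (Fin 3) K →* G) (φ : Fin 3 → K) :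
    EP (π.comp it.toMonoidHom) φ = FL π φ := by
  ext x
  constructor
  · rintro ⟨v, h, rfl⟩
    exact ⟨-v, by rw [dotProduct_neg, dotProduct_comm, h, neg_zero], congrArg π (it_ts h)⟩
  · rintro ⟨v, h, rfl⟩
    refine ⟨-v, by rw [neg_dotProduct, dotProduct_comm, h, neg_zero], congrArg π ?_⟩
    exact ((it_ts (by rw [neg_dotProduct, dotProduct_comm, h, neg_zero])).trans (by rw [neg_neg])).symm

theorem FL_it (π : SpecialLinearGroup (Fin 3) K →* G) (v : Fin 3 → K) :
    FL (π.comp it.toMonoidHom) v = EP π v := by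
  have e : ∀ φ : Fin 3 → K, φ ⬝ᵥ v = 0 → ts (-v) φ = ts v (-φ) := fun φ h => by
    rw [← neg_one_smul K v, ts_smul h, neg_one_smul]
  ext x
  constructor
  · rintro ⟨φ, h, rfl⟩
    exact ⟨-φ, by rw [neg_dotProduct, dotProduct_comm, h, neg_zero],
      congrArg π ((it_ts h).trans (e φ (by rw [dotProduct_comm, h])))⟩
  · rintro ⟨φ, h, rfl⟩
    refine ⟨-φ, by rw [dotProduct_neg, dotProduct_comm, h, neg_zero], congrArg π ?_⟩
    exact ((it_ts (by rw [dotProduct_neg, dotProduct_comm, h, neg_zero])).trans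
      (by rw [e _ (by rw [neg_dotProduct, h, neg_zero]), neg_neg])).symm

theorem of_mod [Finite G] [Fintype K] (h0 : M0Stmt.{u}) (h : Md π N)
    {P : ∀ {G : Type u} [Group G], Subgroup G → ℕ → Subgroup G → Subgroup G → Prop}
    (hP : ModFor.{u} P) {E F : Subgroup G} (hA : Adj N (Fintype.card K) E F) :
    P N (Fintype.card K) E F := by
  have k := h0 G K π N h
  rcases (k.vx E).1 hA.vl with ⟨v, hv, rfl⟩ | ⟨φ, hφ, rfl⟩
  · obtain ⟨φ, hφ, e, rfl⟩ := (k.adjE F v hv).1 hA
    exact hP G K π N k v φ hv hφ e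
  · obtain ⟨v, hv, e, rfl⟩ := (k.adjF F φ hφ).1 hA.symm
    rw [← EP_it, ← FL_it π v]
    exact hP G K _ N (h0 G K _ N (md_it h)) φ v hφ hv (by rw [dotProduct_comm, e])

theorem mx : MXStmt.{u} := by
  rintro h0 hA hB hC hD hE G _ _ N K _ _ n hK hn ⟨e⟩
  have md : Md (N.subtype.comp (e.symm.toMonoidHom.comp (QuotientGroup.mk' _))) N :=
    { range := by
        rw [MonoidHom.range_comp, MonoidHom.range_eq_top.2
          (e.symm.surjective.comp (QuotientGroup.mk'_surjective _)), ← MonoidHom.range_eq_map,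
          range_subtype]
      ker := fun g => by
        rw [← QuotientGroup.eq_one_iff, ← e.symm.map_eq_one_iff, ← OneMemClass.coe_eq_one]
        rfl
      two := by
        have := FiniteField.cast_card_eq_zero K
        rw [hK, Nat.cast_pow, pow_eq_zero_iff (by omega)] at this
        exact_mod_cast this }
  obtain ⟨E, F, ex⟩ : ∃ E F, Adj N (Fintype.card K) E F := ⟨_, _,
    ((h0 G K _ N md).adj (Pi.single 0 1) (Pi.single 1 1) (by simp) (by simp)).2 (by simp)⟩
  rw [← hK]
  refine ⟨?_, fun hc => ?_, ⟨n, hn, hK⟩, fun h4 => ?_, ⟨_, _, ex⟩, of_mod h0 md hA, of_mod h0 md hB,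
    of_mod h0 md hC, of_mod h0 md hD, of_mod h0 md hE⟩
  · haveI := Cfsg.Agent.S0249.result (F := K) 3 le_rfl
    exact e.isSimpleGroup
  · have h1 := (of_mod h0 md hA ex).cl
    have h2 : {X | Same N E X} ⊆ {E} := by
      rintro _ ⟨g, hg, rfl⟩
      refine Cfsg.Agent.H83.cj_eq_self (centralizer_le_normalizer _ (mem_centralizer_iff.2 fun x hx => ?_))
      exact congrArg Subtype.val (hc.1.1 ⟨x, ex.vl.le hx⟩ ⟨g, hg⟩)
    have h3 := Set.ncard_le_ncard h2
    have h4 := Fintype.one_lt_card (α := K)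
    rw [h1, Set.ncard_singleton] at h3
    omega
  · rw [Nat.card_congr e.toEquiv, Cfsg.Agent.H61.card_PSL34 h4]

end Cfsg.Agent.H40.HlMx
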