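import Cfsg.Agent.H40.L3K1

/-! Project L33: the two end games assembled from the pieces. -/

set_option autoImplicit false
set_option linter.unusedSectionVars false

noncomputable section

namespace Cfsg.Agent.H40.L3

open Subgroup Cfsg.Agent.H83

universe u

variable {G : Type u} [Group G] [Finite G]

theorem not_dvd_of_card {T : Subgroup G} (hT : IsSylowIn 2 T ⊤) {k : ℕ} (h : Nat.card T < 2 ^ k) :
    ¬ 2 ^ k ∣ Nat.card G := fun hd => by
  have e := T.card_mul_index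
  have c : (2 ^ k).Coprime T.index := by
    have := hT.coprime_relIndex
    rw [relIndex_top_right] at this
    exact Nat.Coprime.pow_left k this.symm
  have := Nat.le_of_dvd Nat.card_pos (c.dvd_of_dvd_mul_right (e ▸ hd))
  omega

theorem card_le_cov {S T : Subgroup G} {n : G} (h : ∀ x ∈ T, x ∈ S ∨ x * n⁻¹ ∈ S) :
    Nat.card T ≤ 2 * Nat.card S := by
  have := AA.card_le_two (A := T) (K := S) fun x hx y hy a b => by
    have := mul_mem ((h x hx).resolve_left a) (inv_mem ((h y hy).resolve_left b))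
    convert this using 1; group
  have := card_le_of_le (inf_le_right : T ⊓ S ≤ S)
  omega

theorem fin1 (pg : PG1S.{u}) (x1 : X1S.{u}) (a1 : A1S.{u}) (e1 : E1S.{u}) {e : Bool} (D : D1 G e) :
    Bd G := by
  obtain ⟨C⟩ := D.exists_Cx
  refine Or.inl (not_dvd_of_card C.sT ?_)
  by_cases h : C.Ts = C.T
  · have := C.card_Ts_le
    rw [h] at this
    omega
  · obtain ⟨n, h1, h2, h3, h4⟩ := C.exists_n h
    rcases pg G e D C _ (C.pr_n h1 h2 h3) with k | ⟨f, k, hk⟩
    · exact absurd k (a1 x1 G e D C n h1 h2 h4)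
    · have := e1 G e D C n f k h1 h2 h4 hk
      omega

theorem exists_Cy (x2 : X2S.{u}) (D : D2 G false) : Nonempty (Cy G) := by
  obtain ⟨X⟩ := x2 G D
  by_cases h : D.ct (.T * .Gm)
  · obtain ⟨r, hr⟩ := X.r8 h
    obtain ⟨k, hk⟩ := hr.two
    obtain ⟨Ts, h1, h2⟩ := exists_isSylowIn_ge (P := zpowers r ⊔ D.T1)
      (H := normalizer (D.F : Set G) ⊓ centralizer {D.ι .Z})
      (sup_le (zpowers_le.2 ⟨D.nF_of_nT1 hr.nm, mem_centralizer_singleton_iff.2 hr.rz⟩)
        (le_inf D.T1_le_nF fun x hx => mem_centralizer_singleton_iff.2 (D.zc' hx)))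
      (isPGroup_sup (isPGroup_zpowers hk) D.pT1 (zpowers_le.2 hr.nm))
    obtain ⟨T, h3, h4⟩ := exists_isSylowIn_ge (le_top (a := Ts)) h1.isPGroup
    exact ⟨⟨D, X, ⟨Ts, T, h3, h1, le_sup_right.trans h2, h4⟩,
      fun _ => ⟨r, h2 (mem_sup_left (mem_zpowers r)), hr⟩⟩⟩
  · obtain ⟨C⟩ := D.exists_Cx
    exact ⟨⟨D, X, C, fun k => absurd k h⟩⟩

theorem fin2 (pg : PG2S.{u}) (x2 : X2S.{u}) (f0 : F0S.{u}) (pl : PLS.{u}) (ee : EeS.{u}) (eh : EhS.{u})
    (tr : TrS.{u}) {o : Bool} (D : D2 G o) : Bd G := by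
  have small : ∀ {o : Bool} {D : D2 G o} (C : Cx2 D), C.Ts = C.T → Bd G := fun C h => by
    refine Or.inl (not_dvd_of_card C.sT ?_)
    have := C.card_Ts_le
    rw [h] at this
    omega
  cases o
  · obtain ⟨Y⟩ := exists_Cy x2 D
    by_cases h : Y.C.Ts = Y.C.T
    · exact small _ h
    obtain ⟨n, h1, h2, h3, h4⟩ := Y.C.exists_n h
    have hp := pl pg f0 G Y
    obtain ⟨f, k, hk⟩ := hp _ (Y.C.pr_n h1 h2 h3)
    cases k
    · have := ee G Y n f h1 h2 h4 hk
      exact Or.inl (not_dvd_of_card Y.C.sT (by omega))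
    · obtain ⟨a, b, ⟨s, s1, s2⟩, c⟩ := eh G Y n f hp h1 h2 h4 hk
      have := card_le_cov b
      by_cases d : Y.D.ct (.T * .Gm)
      · have := Y.C.card_Ts_le
        exact Or.inr ⟨tr G Y n f s a h1 h2 h4 (by rw [a] at hk; exact hk) b s1 s2 d, not_dvd_of_card Y.C.sT (by omega)⟩
      · have := c d
        exact Or.inl (not_dvd_of_card Y.C.sT (by omega))
  · obtain ⟨C⟩ := D.exists_Cx
    by_cases h : C.Ts = C.T
    · exact small _ h
    obtain ⟨n, h1, h2, h3, -⟩ := C.exists_n h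
    exact absurd (pg G true D C _ (C.pr_n h1 h2 h3)).1 (by simp)

end Cfsg.Agent.H40.L3
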