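import Cfsg.Agent.H40.L3K0

/-! Project L33: the kit for case II (`D : D2 G o`, `C : Cx2 D`). -/

set_option autoImplicit false
set_option linter.unusedSectionVars false

noncomputable section

namespace Cfsg.Agent.H40.L3

open Subgroup Cfsg.Agent.H83

theorem sq_mem_of_card {G : Type*} [Group G] [Finite G] {U S : Subgroup G} (h : U ≤ S)
    (hc : Nat.card S ≤ 2 * Nat.card U) {x : G} (hx : x ∈ S) : x * x ∈ U := by
  have e := (U.subgroupOf S).card_mul_index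
  rw [Nat.card_congr (subgroupOfEquivOfLe h).toEquiv] at e
  have p : 0 < Nat.card U := Nat.card_pos
  have p1 : (U.subgroupOf S).index ≠ 0 := index_ne_zero_of_finite
  have p2 : (U.subgroupOf S).index ≤ 2 := by nlinarith
  rcases (by omega : (U.subgroupOf S).index = 1 ∨ (U.subgroupOf S).index = 2) with k | k
  · exact subgroupOf_eq_top.1 (index_eq_one.1 k) (mul_mem hx hx)
  · exact mul_self_mem_of_index_two k ⟨x, hx⟩

/-- if `k x k⁻¹ = x u` with `u` fixed by `k` then `kⁿ x k⁻ⁿ = x uⁿ` -/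
theorem fix_pow {G : Type*} [Group G] {k x u : G} (h : k * x * k⁻¹ = x * u) (hu : k * u = u * k)
    (n : ℕ) : k ^ n * x * (k ^ n)⁻¹ = x * u ^ n := by
  induction n with
  | zero => simp
  | succ n ih =>
    have : k * u ^ n * k⁻¹ = u ^ n := by rw [(Commute.pow_right hu n).eq]; group
    calc k ^ (n + 1) * x * (k ^ (n + 1))⁻¹ = k * (k ^ n * x * (k ^ n)⁻¹) * k⁻¹ := by group
      _ = k * x * k⁻¹ * (k * u ^ n * k⁻¹) := by rw [ih]; group
      _ = _ := by rw [h, this]; group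

theorem fix_pow' {G : Type*} [Group G] {k x u : G} (h : k * x * k⁻¹ = x * u) (hu : k * u = u * k)
    {n : ℕ} (hn : u ^ n = 1) : k ^ n * x = x * k ^ n := by
  rw [← mul_inv_eq_iff_eq_mul, fix_pow h hu, hn, mul_one]

namespace M
variable {o : Bool}

theorem zc (o : Bool) : ∀ m : M o, m * Z = Z * m := by cases o <;> decide +kernel
theorem zz (o : Bool) : (Z * Z : M o) = 1 := by cases o <;> decide +kernel
theorem mzz (m : M o) : m * Z * Z = m := by rw [mul_assoc, zz, mul_one]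

theorem rb_ind {P : M o → Prop} (hm : ∀ x y, P x → P y → P (x * y)) {x g : M o} {c : Bool}
    (hx : P x) (hg : c = true → P g) : P (rb x g c) := by
  cases c
  · exact hx
  · exact hm _ _ hx (hg rfl)

/-- induction along the normal form -/
theorem ind {P : M o → Prop} (h1 : P 1) (hm : ∀ x y, P x → P y → P (x * y)) (m : M o)
    (ht : m.t = true → P T) (hb : m.b = true → P B) (hd : m.d = true → P D) (hw : m.w = true → P W)
    (hq : m.q = true → P Q) (ha : m.a = true → P A) (hz : m.z = true → P Z) : P m := by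
  rw [nf o m]
  exact rb_ind hm (rb_ind hm (rb_ind hm (rb_ind hm (rb_ind hm (rb_ind hm (rb_ind hm h1 ht) hb) hd) hw) hq) ha) hz

theorem ww (o : Bool) : (W * W : M o) = Z := by cases o <;> decide +kernel

theorem mem_top_of {H : Subgroup (M o)} (ht : T ∈ H) (hb : B ∈ H) (hd : D ∈ H) (hw : W ∈ H)
    (hq : Q ∈ H) (ha : A ∈ H) (m : M o) : m ∈ H :=
  ind H.one_mem (fun _ _ => H.mul_mem) m (fun _ => ht) (fun _ => hb) (fun _ => hd) (fun _ => hw)
    (fun _ => hq) (fun _ => ha) fun _ => ww o ▸ H.mul_mem hw hw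

theorem sF_le {H : Subgroup (M o)} (ht : T ∈ H) (hb : B ∈ H) (hd : D ∈ H) (hw : W ∈ H)
    (hq : Q ∈ H) : sF ≤ H := fun m hm =>
  ind H.one_mem (fun _ _ => H.mul_mem) m (fun _ => ht) (fun _ => hb) (fun _ => hd) (fun _ => hw)
    (fun _ => hq) (fun h => by simp [mem_sub, h] at hm) fun _ => ww o ▸ H.mul_mem hw hw

theorem sFp_le {H : Subgroup (M o)} (ht : T ∈ H) (hb : B ∈ H) (hd : D ∈ H) (hw : W ∈ H)
    (ha : A ∈ H) : sFp ≤ H := fun m hm =>
  ind H.one_mem (fun _ _ => H.mul_mem) m (fun _ => ht) (fun _ => hb) (fun _ => hd) (fun _ => hw)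
    (fun h => by simp [mem_sub, h] at hm) (fun _ => ha) fun _ => ww o ▸ H.mul_mem hw hw

theorem sS_le {H : Subgroup (M o)} (ht : T ∈ H) (hd : D ∈ H) (hw : W ∈ H) (hq : Q ∈ H)
    (ha : A ∈ H) : sS ≤ H := fun m hm =>
  ind H.one_mem (fun _ _ => H.mul_mem) m (fun _ => ht) (fun h => by simp [mem_sub, h] at hm)
    (fun _ => hd) (fun _ => hw) (fun _ => hq) (fun _ => ha) fun _ => ww o ▸ H.mul_mem hw hw

/-- the linear form with coefficients `c` -/
def dot (c1 c2 c3 c4 c5 c6 : Bool) (m : M o) : Bool :=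
  (m.t && c1) ^^ ((m.b && c2) ^^ ((m.d && c3) ^^ ((m.w && c4) ^^ ((m.q && c5) ^^ (m.a && c6)))))

theorem nf' (o : Bool) : ∀ m : M o,
    m = bp T m.t * bp B m.b * bp D m.d * bp W m.w * bp Q m.q * bp A m.a * bp Z m.z := by
  cases o <;> decide +kernel

/-- subgroups of index 2 are kernels of linear forms -/
theorem idx2 {U : Subgroup (M o)} (h : U.index = 2) :
    ∃ c1 c2 c3 c4 c5 c6 : Bool, ∀ m, m ∈ U ↔ dot c1 c2 c3 c4 c5 c6 m = false := by
  classical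
  have e : ∀ x y : M o, decide (x * y ∉ U) = (decide (x ∉ U) ^^ decide (y ∉ U)) := fun x y => by
    rw [mul_mem_iff_of_index_two h]
    by_cases h1 : x ∈ U <;> by_cases h2 : y ∈ U <;> simp [h1, h2]
  have e1 : ∀ (x : M o) (c : Bool), decide (bp x c ∉ U) = (c && decide (x ∉ U)) := fun x c => by
    cases c
    · simp [bp, U.one_mem]
    · rfl
  have ez : decide (Z ∉ U) = false := by rw [← ww, e]; simp
  refine ⟨decide (T ∉ U), decide (B ∉ U), decide (D ∉ U), decide (W ∉ U), decide (Q ∉ U),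
    decide (A ∉ U), fun m => ?_⟩
  have : decide (m ∉ U) = dot (decide (T ∉ U)) (decide (B ∉ U)) (decide (D ∉ U)) (decide (W ∉ U))
      (decide (Q ∉ U)) (decide (A ∉ U)) m := by
    conv_lhs => rw [nf' o m]
    simp only [e, e1, ez, dot, Bool.and_false, Bool.xor_false, Bool.xor_assoc]
  rw [← this]; simp

theorem card_sF (o : Bool) : Nat.card (sF : Subgroup (M o)) = 64 := by
  rw [card_sub]; cases o <;> decide +kernel
theorem card_sFp (o : Bool) : Nat.card (sFp : Subgroup (M o)) = 64 := by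
  rw [card_sub]; cases o <;> decide +kernel
theorem card_sS (o : Bool) : Nat.card (sS : Subgroup (M o)) = 64 := by
  rw [card_sub]; cases o <;> decide +kernel

theorem idx_of_card {U : Subgroup (M o)} (h : Nat.card U = 64) : U.index = 2 := by
  have := U.card_mul_index
  rw [h, card_all] at this
  omega

theorem uq_aux (o : Bool) : ∀ c1 c2 c3 c4 c5 c6 : Bool,
    (∀ m : M o, dot c1 c2 c3 c4 c5 c6 m = false → m * m = 1 ∨ m * m = Z) →
    (∀ m : M o, dot c1 c2 c3 c4 c5 c6 m = false ↔ m ∈ (sF : Subgroup (M o))) ∨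
    ((∀ m : M o, dot c1 c2 c3 c4 c5 c6 m = false ↔ m ∈ (sFp : Subgroup (M o))) ∧
      ∀ d : M o, d * d = Z → ∃ m : M o, m ∈ (sFp : Subgroup (M o)) ∧ m * d ≠ d * m) := by
  cases o <;> decide +kernel

/-- the subgroups of index 2 with squares in `⟨z⟩` -/
theorem uq {U : Subgroup (M o)} (h : Nat.card U = 64) (hs : ∀ m ∈ U, m * m = 1 ∨ m * m = Z) :
    U = sF ∨ (U = sFp ∧ ∀ d : M o, d * d = Z → ∃ m ∈ U, m * d ≠ d * m) := by
  obtain ⟨c1, c2, c3, c4, c5, c6, e⟩ := idx2 (idx_of_card h)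
  rcases uq_aux o c1 c2 c3 c4 c5 c6 (fun m hm => hs m ((e m).2 hm)) with k | ⟨k, k'⟩
  · exact Or.inl (Subgroup.ext fun m => (e m).trans (k m))
  · have : U = sFp := Subgroup.ext fun m => (e m).trans (k m)
    exact Or.inr ⟨this, this ▸ k'⟩

/-- `C_{S₀}(w)` -/
abbrev sCw : Subgroup (M o) := sub (fun m => !m.b && (m.q == m.a)) (by cases o <;> decide +kernel)

/-- the map of `F / ⟨z⟩` given by the images of `t, β, δ, w, q` -/
def lin (t b d w q m : M o) : M o := bp t m.t * bp b m.b * bp d m.d * bp w m.w * bp q m.q * bp Z m.z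
/-- the action of `κ` -/
def kp : M o → M o := lin T B D Q (W * Q)

theorem kp_mem (o : Bool) : ∀ m : M o, m ∈ (sF : Subgroup (M o)) → kp m ∈ (sF : Subgroup (M o)) := by
  cases o <;> decide +kernel
theorem sF_sq (o : Bool) : ∀ m : M o, m ∈ (sF : Subgroup (M o)) → m * m = 1 ∨ m * m = Z := by
  cases o <;> decide +kernel
theorem sF_cj (o : Bool) : ∀ m : M o, m ∈ (sF : Subgroup (M o)) → ∀ n : M o, n ∈ (sF : Subgroup (M o)) →
    n * m * n⁻¹ = m ∨ n * m * n⁻¹ = m * Z := by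
  cases o <;> decide +kernel
theorem sF_normal (o : Bool) : (sF : Subgroup (M o)).Normal :=
  normal_of_index_eq_two (idx_of_card (card_sF o))
theorem sFp_normal (o : Bool) : (sFp : Subgroup (M o)).Normal :=
  normal_of_index_eq_two (idx_of_card (card_sFp o))

end M

variable {G : Type*} [Group G] {o : Bool}

namespace ez
variable {ι : M o →* G} {x y g : G} {m n : M o}

theorem rfl' (m : M o) : ez ι (ι m) m := Or.inl rfl
theorem of_eq (h : x = ι m) : ez ι x m := Or.inl h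
theorem mem (h : ez ι x m) : x ∈ ι.range := by rcases h with rfl | rfl <;> exact ⟨_, rfl⟩
theorem mem_map {H : Subgroup (M o)} (h : ez ι x m) (hm : m ∈ H) (hz : M.Z ∈ H) : x ∈ H.map ι := by
  rcases h with rfl | rfl
  exacts [⟨_, hm, rfl⟩, ⟨_, H.mul_mem hm hz, rfl⟩]
/-- change the model element modulo `z` -/
theorem congr (h : ez ι x m) (e : n = m ∨ n = m * .Z) : ez ι x n := by
  rcases e with rfl | rfl
  · exact h
  · rcases h with h | h
    · exact Or.inr (by rw [M.mzz, h])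
    · exact Or.inl h
theorem mulz (h : ez ι x m) : ez ι (x * ι .Z) m := by
  rcases h with rfl | rfl
  · exact Or.inr (by rw [map_mul])
  · exact Or.inl (by rw [← map_mul, M.mzz])
theorem mul (h : ez ι x m) (k : ez ι y n) : ez ι (x * y) (m * n) := by
  have e : ∀ u v : M o, u * .Z * v = u * v * .Z := fun u v => by rw [mul_assoc, ← M.zc, mul_assoc]
  rcases h with rfl | rfl <;> rcases k with rfl | rfl <;> rw [← map_mul]
  · exact Or.inl rfl
  · exact Or.inr (by rw [mul_assoc])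
  · exact Or.inr (by rw [e])
  · exact Or.inl (by rw [e, ← mul_assoc, M.mzz])
theorem inv (h : ez ι x m) : ez ι x⁻¹ m⁻¹ := by
  rcases h with rfl | rfl <;> rw [← map_inv]
  · exact Or.inl rfl
  · exact Or.inr (by rw [mul_inv_rev, M.zc, inv_eq_of_mul_eq_one_right (M.zz o)])
theorem bp (h : ez ι (g * ι m * g⁻¹) n) (c : Bool) : ez ι (g * ι (bp m c) * g⁻¹) (bp n c) := by
  cases c
  · exact Or.inl (by simp [L3.bp])
  · exact h
theorem cmul {m' n' : M o} (h : ez ι (g * ι m * g⁻¹) n) (k : ez ι (g * ι m' * g⁻¹) n') :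
    ez ι (g * ι (m * m') * g⁻¹) (n * n') := by
  have := h.mul k
  rwa [show g * ι m * g⁻¹ * (g * ι m' * g⁻¹) = g * ι (m * m') * g⁻¹ by rw [map_mul]; group] at this
/-- conjugate a congruence by an element of `C(z)` -/
theorem conj (hz : g * ι .Z = ι .Z * g) (h : ez ι x m) (k : ez ι (g * ι m * g⁻¹) n) :
    ez ι (g * x * g⁻¹) n := by
  rcases h with rfl | rfl
  · exact k
  · have := k.mulz
    rwa [show g * ι m * g⁻¹ * ι .Z = g * ι (m * .Z) * g⁻¹ by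
      rw [map_mul, ← mul_assoc g, mul_assoc (g * ι m), mul_assoc (g * ι m)]
      congr 1
      rw [inv_mul_eq_iff_eq_mul, ← mul_assoc, hz, mul_inv_cancel_right]] at this
/-- composition -/
theorem comp {f : G} {p : M o} (hz : f * ι .Z = ι .Z * f) (k : ez ι (f * ι n * f⁻¹) p)
    (h : ez ι (g * ι m * g⁻¹) n) : ez ι (f * g * ι m * (f * g)⁻¹) p := by
  have := conj hz h k
  rwa [show f * (g * ι m * g⁻¹) * f⁻¹ = f * g * ι m * (f * g)⁻¹ by group] at this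
theorem cinv (hz : g * ι .Z = ι .Z * g) (h : ez ι (g * ι m * g⁻¹) n) :
    ez ι (g⁻¹ * ι n * g⁻¹⁻¹) m := by
  have hz' : g⁻¹ * ι .Z = ι .Z * g⁻¹ := by
    rw [inv_mul_eq_iff_eq_mul, ← mul_assoc, hz, mul_inv_cancel_right]
  have : ez ι (ι n) n := rfl' n
  rcases h with h | h
  · exact Or.inl (by rw [← h]; group)
  · refine Or.inr ?_
    rw [← M.mzz n, map_mul, ← h, map_mul]
    calc _ = ι m * (g⁻¹ * ι .Z) * g := by group
      _ = _ := by rw [hz']; group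
theorem of_ι (n m : M o) : ez ι (ι n * ι m * (ι n)⁻¹) (n * m * n⁻¹) := Or.inl (by simp)
theorem iff_mul : ez ι x m ↔ x = ι m ∨ x = ι m * ι .Z := by rw [ez, map_mul]

end ez

namespace D2
variable (D : D2 G o)

theorem mem_map {H : Subgroup (M o)} {m : M o} : D.ι m ∈ H.map D.ι ↔ m ∈ H := mem_map_iff_mem D.inj
theorem ez_iff {m n : M o} : ez D.ι (D.ι n) m ↔ n = m ∨ n = m * .Z := by simp only [ez, D.inj.eq_iff]
theorem ez_uniq {x : G} {m n : M o} (h : ez D.ι x m) (k : ez D.ι x n) : n = m ∨ n = m * .Z := by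
  rcases k with rfl | rfl
  · exact D.ez_iff.1 h
  · rcases D.ez_iff.1 h with e | e
    · exact Or.inr (by rw [← e, M.mzz])
    · exact Or.inl (mul_right_cancel e)
variable {D} in
theorem cjm {k : G} {m n m' n' : M o} (a : k * D.ι m * k⁻¹ = D.ι n) (b : k * D.ι m' * k⁻¹ = D.ι n') :
    k * D.ι (m * m') * k⁻¹ = D.ι (n * n') := by rw [map_mul, map_mul, ← a, ← b]; group
variable {D} in
theorem cji {k : G} {m n : M o} (a : k * D.ι m * k⁻¹ = D.ι n) : k * D.ι m⁻¹ * k⁻¹ = D.ι n⁻¹ := by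
  rw [map_inv, map_inv, ← a]; group
variable {D} in
/-- transport of relations along a conjugation -/
theorem cje {k : G} {m n m' n' : M o} (a : k * D.ι m * k⁻¹ = D.ι n) (b : k * D.ι m' * k⁻¹ = D.ι n') :
    m = m' ↔ n = n' := by
  rw [← D.inj.eq_iff, ← D.inj.eq_iff (a := n), ← a, ← b, mul_left_inj, mul_right_inj]
variable {D} in
theorem cj1 {k : G} {m : M o} (h : k * D.ι m = D.ι m * k) : k * D.ι m * k⁻¹ = D.ι m := by
  rw [h]; group
variable {D} in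
theorem cjc {k : G} {m n m' n' : M o} (a : k * D.ι m * k⁻¹ = D.ι n) (b : k * D.ι m' * k⁻¹ = D.ι n') :
    m * m' = m' * m ↔ n * n' = n' * n := cje (cjm a b) (cjm b a)
theorem exists_im {k : G} {H : Subgroup (M o)} (hk : k ∈ normalizer (H.map D.ι : Set G)) {m : M o}
    (hm : m ∈ H) : ∃ n ∈ H, k * D.ι m * k⁻¹ = D.ι n := by
  obtain ⟨n, a, b⟩ := (mem_normalizer_iff.1 hk _).1 (D.mem_map.2 hm)
  exact ⟨n, a, b.symm⟩
theorem comm_iff {m n : M o} : D.ι m * D.ι n = D.ι n * D.ι m ↔ m * n = n * m := by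
  rw [← map_mul, ← map_mul, D.inj.eq_iff]
theorem card_map (H : Subgroup (M o)) : Nat.card (H.map D.ι) = Nat.card H := card_map_of_injective D.inj
theorem card_F : Nat.card D.F = 64 := by rw [D.card_map, M.card_sF]
theorem card_Fp : Nat.card D.Fp = 64 := by rw [D.card_map, M.card_sFp]
theorem card_T1 : Nat.card D.T1 = 128 := by
  rw [T1, MonoidHom.range_eq_map, D.card_map, card_top, M.card_all]
theorem card_comap {P : Subgroup G} (h : P ≤ D.T1) : Nat.card (P.comap D.ι) = Nat.card P := by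
  rw [← D.card_map, map_comap_eq_self h]
theorem pT1 : IsPGroup 2 D.T1 := IsPGroup.of_card (n := 7) D.card_T1
theorem map_le (H : Subgroup (M o)) : H.map D.ι ≤ D.T1 := map_le_range _ _
theorem pF : IsPGroup 2 D.F := D.pT1.to_le (D.map_le _)
theorem z2 : D.ι .Z * D.ι .Z = 1 := by rw [← map_mul, M.zz, map_one]
theorem z1 : D.ι .Z ≠ 1 := by
  rw [← map_one D.ι, D.inj.ne_iff]; cases o <;> decide +kernel
theorem t2 : D.ι .T * D.ι .T = 1 := by
  rw [← map_mul, ← map_one D.ι, D.inj.eq_iff]; cases o <;> decide +kernel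
theorem zc (m : M o) : D.ι m * D.ι .Z = D.ι .Z * D.ι m := by rw [← map_mul, M.zc, map_mul]
theorem zc' {x : G} (h : x ∈ D.T1) : x * D.ι .Z = D.ι .Z * x := by obtain ⟨m, rfl⟩ := h; exact D.zc m
theorem T1_le_nF : D.T1 ≤ normalizer (D.F : Set G) := by
  have := M.sF_normal o
  rw [T1, MonoidHom.range_eq_map, ← normalizer_eq_top M.sF]; exact le_normalizer_map _
theorem T1_le_nFp : D.T1 ≤ normalizer (D.Fp : Set G) := by
  have := M.sFp_normal o
  rw [T1, MonoidHom.range_eq_map, ← normalizer_eq_top M.sFp]; exact le_normalizer_map _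
theorem F_sq {x : G} (h : x ∈ D.F) : x * x = 1 ∨ x * x = D.ι .Z := by
  obtain ⟨m, hm, rfl⟩ := h
  rcases M.sF_sq o m hm with e | e <;> rw [← map_mul, e]
  exacts [Or.inl (map_one _), Or.inr rfl]
theorem F_cj {x y : G} (hx : x ∈ D.F) (hy : y ∈ D.F) : y * x * y⁻¹ = x ∨ y * x * y⁻¹ = x * D.ι .Z := by
  obtain ⟨m, hm, rfl⟩ := hx
  obtain ⟨n, hn, rfl⟩ := hy
  simpa only [← map_mul, ← map_inv, D.inj.eq_iff] using M.sF_cj o m hm n hn
/-- squares in a `C(z)`-conjugate of `F` -/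
theorem cjF_sq {g x : G} (hg : g * D.ι .Z = D.ι .Z * g) (h : x ∈ cj g D.F) :
    x * x = 1 ∨ x * x = D.ι .Z := by
  have e : x * x = g * (g⁻¹ * x * g * (g⁻¹ * x * g)) * g⁻¹ := by group
  rcases D.F_sq (mem_cj.1 h) with k | k <;> rw [e, k]
  · left; group
  · right; rw [hg]; group
/-- commutators in a `C(z)`-conjugate of `F` -/
theorem cjF_cj {g x y : G} (hg : g * D.ι .Z = D.ι .Z * g) (hx : x ∈ cj g D.F) (hy : y ∈ cj g D.F) :
    y * x * y⁻¹ = x ∨ y * x * y⁻¹ = x * D.ι .Z := by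
  have e : y * x * y⁻¹ = g * (g⁻¹ * y * g * (g⁻¹ * x * g) * (g⁻¹ * y * g)⁻¹) * g⁻¹ := by group
  rcases D.F_cj (mem_cj.1 hx) (mem_cj.1 hy) with k | k <;> rw [e, k]
  · left; group
  · right
    calc _ = x * (g * D.ι .Z) * g⁻¹ := by group
      _ = _ := by rw [hg]; group
theorem z_mem_cjF {g : G} (hg : g * D.ι .Z = D.ι .Z * g) : D.ι .Z ∈ cj g D.F := by
  rw [mem_cj, mul_assoc, ← hg, inv_mul_cancel_left, D.mem_map]; cases o <;> decide +kernel

/-! ### the action on `F / ⟨z⟩` -/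

theorem bar_gens {f : G} (hz : f * D.ι .Z = D.ι .Z * f) {t b d w q : M o}
    (ht : ez D.ι (f * D.ι .T * f⁻¹) t) (hb : ez D.ι (f * D.ι .B * f⁻¹) b)
    (hd : ez D.ι (f * D.ι .D * f⁻¹) d) (hw : ez D.ι (f * D.ι .W * f⁻¹) w)
    (hq : ez D.ι (f * D.ι .Q * f⁻¹) q) : D.Bar f (M.lin t b d w q) := fun m hm => by
  have e : m = bp .T m.t * bp .B m.b * bp .D m.d * bp .W m.w * bp .Q m.q * bp .Z m.z := by
    have ha : m.a = false := by simpa [M.mem_sub] using hm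
    conv_lhs => rw [M.nf' o m, ha]
    simp [bp]
  have hz' : ez D.ι (f * D.ι .Z * f⁻¹) .Z := Or.inl (by rw [hz]; group)
  conv_lhs => rw [e]
  exact (((((ht.bp _).cmul (hb.bp _)).cmul (hd.bp _)).cmul (hw.bp _)).cmul (hq.bp _)).cmul (hz'.bp _)

variable {D}
theorem Bar.congr {f : G} {φ ψ : M o → M o} (h : D.Bar f φ)
    (e : ∀ m ∈ (M.sF : Subgroup (M o)), ψ m = φ m ∨ ψ m = φ m * .Z) : D.Bar f ψ :=
  fun m hm => (h m hm).congr (e m hm)
theorem Bar.mul {f g : G} {φ ψ : M o → M o} (hz : f * D.ι .Z = D.ι .Z * f) (h : D.Bar f φ)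
    (k : D.Bar g ψ) (e : ∀ m ∈ (M.sF : Subgroup (M o)), ψ m ∈ (M.sF : Subgroup (M o))) :
    D.Bar (f * g) (fun m => φ (ψ m)) := fun m hm => ez.comp hz (h _ (e m hm)) (k m hm)
theorem Bar.inv {f : G} {φ ψ : M o → M o} (hz : f * D.ι .Z = D.ι .Z * f) (h : D.Bar f φ)
    (e : ∀ m ∈ (M.sF : Subgroup (M o)), ψ m ∈ (M.sF : Subgroup (M o)) ∧
      (m = φ (ψ m) ∨ m = φ (ψ m) * .Z)) : D.Bar f⁻¹ ψ :=
  fun m hm => ez.cinv hz ((h _ (e m hm).1).congr (e m hm).2)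
theorem Bar.uniq {f : G} {φ ψ : M o → M o} (h : D.Bar f φ) (k : D.Bar f ψ) {m : M o}
    (hm : m ∈ (M.sF : Subgroup (M o))) : ψ m = φ m ∨ ψ m = φ m * .Z := D.ez_uniq (h m hm) (k m hm)
theorem Bar.norm [Finite G] {f : G} {φ : M o → M o} (h : D.Bar f φ)
    (e : ∀ m ∈ (M.sF : Subgroup (M o)), φ m ∈ (M.sF : Subgroup (M o))) :
    f ∈ normalizer (D.F : Set G) := mem_normalizer_fintype (by
  rintro _ ⟨m, hm, rfl⟩
  exact (h m hm).mem_map (e m hm) (by cases o <;> decide +kernel))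
variable (D)
theorem bar_ι (n : M o) : D.Bar (D.ι n) (fun m => n * m * n⁻¹) := fun m _ => ez.of_ι n m
theorem bar_F {x : G} (h : x ∈ D.F) : D.Bar x id := fun m hm =>
  ez.iff_mul.2 (D.F_cj (D.mem_map.2 hm) h)
theorem bar_κ : D.Bar D.κ M.kp :=
  D.bar_gens D.κz (Or.inl (by rw [D.κt]; group)) D.κb D.κd D.κw D.κq
theorem κ_norm [Finite G] : D.κ ∈ normalizer (D.F : Set G) := D.bar_κ.norm (M.kp_mem o)
/-- an element of `N(F)` induces an automorphism `φ` of the model of `F` -/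
theorem exists_bar {f : G} (h : f ∈ normalizer (D.F : Set G)) : ∃ φ : M o → M o,
    ∀ m ∈ (M.sF : Subgroup (M o)), φ m ∈ (M.sF : Subgroup (M o)) ∧ f * D.ι m * f⁻¹ = D.ι (φ m) := by
  have : ∀ m : M o, ∃ n, m ∈ (M.sF : Subgroup (M o)) →
      n ∈ (M.sF : Subgroup (M o)) ∧ f * D.ι m * f⁻¹ = D.ι n := fun m => by
    by_cases hm : m ∈ (M.sF : Subgroup (M o))
    · obtain ⟨n, h1, h2⟩ := (mem_normalizer_iff.1 h _).1 (D.mem_map.2 hm)
      exact ⟨n, fun _ => ⟨h1, h2.symm⟩⟩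
    · exact ⟨1, fun h => absurd h hm⟩
  choose φ hφ using this
  exact ⟨φ, hφ⟩

/-! ### conjugates of `t` -/

theorem ct_T : D.ct .T := IsConj.refl _
theorem ct_of {g : G} {m n : M o} (h : D.ct m) (e : g * D.ι m * g⁻¹ = D.ι n) : D.ct n :=
  (isConj_iff.2 ⟨g, e⟩).symm.trans h
theorem ct_cj {m : M o} (h : D.ct m) (n : M o) : D.ct (n * m * n⁻¹) := D.ct_of h (g := D.ι n) (by simp)
theorem ct_sq {m : M o} (h : D.ct m) : m * m = 1 ∧ m ≠ 1 ∧ m ≠ .Z := by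
  obtain ⟨g, hg⟩ := isConj_iff.1 h.symm
  refine ⟨D.inj ?_, ?_, ?_⟩
  · rw [map_mul, ← hg, map_one]
    calc _ = g * (D.ι .T * D.ι .T) * g⁻¹ := by group
      _ = 1 := by rw [D.t2]; group
  · rintro rfl
    rw [map_one, mul_inv_eq_one, mul_eq_left, ← map_one D.ι, D.inj.eq_iff] at hg
    revert hg; cases o <;> decide +kernel
  · rintro rfl; exact D.nz h
theorem ct_mulz {m : M o} (h : D.ct m) (hm : m ∈ (M.sF : Subgroup (M o))) : D.ct (m * .Z) := by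
  have key : ∀ m : M o, m ∈ (M.sF : Subgroup (M o)) → m * m = 1 → m ≠ 1 → m ≠ .Z →
      ∃ n ∈ ([.T, .B, .W, .Q] : List (M o)), n * m * n⁻¹ = m * .Z := by cases o <;> decide +kernel
  obtain ⟨h1, h2, h3⟩ := D.ct_sq h
  obtain ⟨n, -, e⟩ := key m hm h1 h2 h3
  exact e ▸ D.ct_cj h n
theorem ct_conj {g : G} {m n : M o} (h : D.ct m) (e : ez D.ι (g * D.ι m * g⁻¹) n)
    (hn : n ∈ (M.sF : Subgroup (M o))) : D.ct n := by
  rcases e with e | e
  · exact D.ct_of h e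
  · have := D.ct_mulz (D.ct_of h e) (mul_mem hn (by cases o <;> decide +kernel))
    rwa [M.mzz] at this
theorem ct_of_ez {g : G} {m : M o} (hz : g * D.ι .Z = D.ι .Z * g) (e : ez D.ι (g * D.ι .T * g⁻¹) m) :
    D.ct m := by
  have h1 : D.ct (.T * .Z) := D.ct_mulz D.ct_T (by cases o <;> decide +kernel)
  rcases e with e | e
  · exact D.ct_of D.ct_T e
  · refine D.ct_of h1 (g := g) ?_
    rw [← M.mzz m, map_mul D.ι (m * .Z), ← e, map_mul]
    calc _ = g * D.ι .T * g⁻¹ * (g * D.ι .Z) * g⁻¹ := by group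
      _ = _ := by rw [hz]; group
theorem ct_kp {m : M o} (h : D.ct m) (hm : m ∈ (M.sF : Subgroup (M o))) : D.ct (M.kp m) :=
  D.ct_conj h (D.bar_κ m hm) (M.kp_mem o m hm)
theorem not_ct_A : ¬ D.ct .A := fun h => D.nz ((isConj_iff.2 ⟨_, D.ρz⟩).trans h)
theorem ct_TA : D.ct (.T * .A) :=
  D.ct_of (D.ct_mulz D.ct_T (by cases o <;> decide +kernel)) (g := D.ρ) (by
    rw [map_mul, map_mul, ← D.ρz]
    calc _ = D.ρ * D.ι .T * D.ρ⁻¹ * (D.ρ * D.ι .Z * D.ρ⁻¹) := by group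
      _ = _ := by rw [D.ρt]; group)

section fin
variable [Finite G]

/-- a 2-group centralizing a conjugate of `t` is conjugate into `S₀` -/
theorem extr {P : Subgroup G} {t' : G} (h : IsConj t' (D.ι .T)) (hP : IsPGroup 2 P)
    (hc : ∀ x ∈ P, x * t' = t' * x) : ∃ g : G, g * t' * g⁻¹ = D.ι .T ∧
      ∀ x ∈ P, ∃ m ∈ (M.sS : Subgroup (M o)), g * x * g⁻¹ = D.ι m := by
  obtain ⟨g, h1, h2⟩ := extr_gen D.syl h hP hc
  exact ⟨g, h1, fun x hx => by obtain ⟨m, a, b⟩ := h2 x hx; exact ⟨m, a, b.symm⟩⟩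

/-- no conjugate of `t` is a square -/
theorem not_sq {x : G} (h : IsConj (x * x) (D.ι .T)) : False := by
  obtain ⟨c, hc⟩ := isConj_iff.1 h.symm
  have h4 : x ^ 2 ^ 2 = 1 := by
    calc x ^ 2 ^ 2 = x * x * (x * x) := by norm_num [pow_succ, mul_assoc]
      _ = c * (D.ι .T * D.ι .T) * c⁻¹ := by rw [← hc]; group
      _ = 1 := by rw [D.t2]; group
  obtain ⟨g, h1, h2⟩ := D.extr h (isPGroup_zpowers h4) fun y hy => by
    obtain ⟨k, rfl⟩ := hy
    show x ^ k * (x * x) = x * x * x ^ k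
    group
  obtain ⟨m, -, e⟩ := h2 x (mem_zpowers x)
  have : D.ι (m * m) = D.ι .T := by rw [map_mul, ← e, ← h1]; group
  have key : ∀ m : M o, m * m ≠ .T := by cases o <;> decide +kernel
  exact key m (D.inj this)

/-- no abelian 2-group of order `≥ 32` centralizes a conjugate of `t` -/
theorem no_ab32 {P : Subgroup G} {t' : G} (h : IsConj t' (D.ι .T)) (hP : IsPGroup 2 P)
    (hc : ∀ x ∈ P, x * t' = t' * x) (ha : ∀ x ∈ P, ∀ y ∈ P, x * y = y * x) : Nat.card P < 32 := by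
  by_contra! hk
  obtain ⟨g, -, h2⟩ := D.extr h hP hc
  have h3 : ∀ m, D.ι m ∈ cj g P → m ∈ (M.sS : Subgroup (M o)) := fun m hm => by
    obtain ⟨n, a, b⟩ := h2 _ (mem_cj.1 hm)
    rwa [D.inj (show D.ι m = D.ι n by rw [← b]; group)]
  have h4 : cj g P ≤ D.T1 := fun x hx => by
    obtain ⟨n, -, b⟩ := h2 _ (mem_cj.1 hx)
    exact ⟨n, by rw [← b]; group⟩
  set U := (cj g P).comap D.ι with hU
  have cU : 32 ≤ Nat.card U := by rw [hU, D.card_comap h4, card_cj]; exact hk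
  have cm : ∀ m ∈ U, ∀ n ∈ U, m * n = n * m := fun m hm n hn => D.inj (by
    have := ha _ (mem_cj.1 hm) _ (mem_cj.1 hn)
    rw [map_mul, map_mul]
    calc _ = g * (g⁻¹ * D.ι m * g * (g⁻¹ * D.ι n * g)) * g⁻¹ := by group
      _ = _ := by rw [this]; group)
  have w1 : (.A * .Q * (.A * .Q) : M o) ∈ U :=
    sq_mem_of_card (S := M.sS) h3 (by rw [M.card_sS]; omega) (by cases o <;> decide +kernel)
  have k1 : ∀ m : M o, m ∈ (M.sS : Subgroup (M o)) →
      m * (.A * .Q * (.A * .Q)) = .A * .Q * (.A * .Q) * m → m ∈ (M.sCw : Subgroup (M o)) := by cases o <;> decide +kernel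
  have cC : Nat.card (M.sCw : Subgroup (M o)) = 32 := by rw [M.card_sub]; cases o <;> decide +kernel
  have e : U = M.sCw := eq_of_le_of_card_ge (fun m hm => k1 m (h3 m hm) (cm _ hm _ w1)) (by omega)
  have := cm .D (by rw [e]; cases o <;> decide +kernel) (.A * .Q) (by rw [e]; cases o <;> decide +kernel)
  revert this
  cases o <;> decide +kernel

theorem T1_le_NZ : D.T1 ≤ NZ (D.ι .T) (D.ι .Z) D.z2 := by
  rintro _ ⟨m, rfl⟩
  have key : ∀ m : M o, m * .T * m⁻¹ = .T ∨ m * .T * m⁻¹ = .T * .Z := by cases o <;> decide +kernel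
  exact ⟨D.zc m, by simpa only [← map_mul, ← map_inv, D.inj.eq_iff] using key m⟩

theorem mem_NZ' {g : G} : g ∈ NZ (D.ι .T) (D.ι .Z) D.z2 ↔
    g * D.ι .Z = D.ι .Z * g ∧ ez D.ι (g * D.ι .T * g⁻¹) .T := by rw [mem_NZ, ez.iff_mul]

/-- in a 2-group containing `S₀` the centralizer of `t` is `S₀` -/
theorem mem_S {P : Subgroup G} (hP : IsPGroup 2 P) (h : M.sS.map D.ι ≤ P) {x : G} (hx : x ∈ P)
    (ht : x * D.ι .T = D.ι .T * x) : x ∈ M.sS.map D.ι := by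
  rw [← D.syl.max (centralizer {D.ι .T} ⊓ P) inf_le_left (hP.to_le inf_le_right) (le_inf D.syl.le h)]
  exact ⟨mem_centralizer_singleton_iff.2 ht, hx⟩

/-- `T₁` is a Sylow 2-subgroup of `N(⟨t, z⟩) ∩ C(z)` -/
theorem syl1 : IsSylowIn 2 D.T1 (NZ (D.ι .T) (D.ι .Z) D.z2) := by
  refine ⟨D.T1_le_NZ, D.pT1, fun P hP hp hle => le_antisymm (fun x hx => ?_) hle⟩
  have hS := (D.map_le M.sS).trans hle
  rcases (hP hx).2 with e | e
  · exact D.map_le _ (D.mem_S hp hS hx (by rw [← mul_inv_eq_iff_eq_mul, e]))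
  · have b1 : D.ι .B * D.ι .T * (D.ι .B)⁻¹ = D.ι .T * D.ι .Z := by
      simp only [← map_mul, ← map_inv, D.inj.eq_iff]; cases o <;> decide +kernel
    have : (D.ι .B)⁻¹ * x ∈ D.T1 := D.map_le _ (D.mem_S hp hS (mul_mem (inv_mem (hle ⟨_, rfl⟩)) hx) (by
      calc (D.ι .B)⁻¹ * x * D.ι .T = (D.ι .B)⁻¹ * (x * D.ι .T * x⁻¹) * x := by group
        _ = _ := by rw [e, ← b1]; group))
    exact (mul_mem_cancel_left (inv_mem (⟨_, rfl⟩ : D.ι .B ∈ D.T1))).1 this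

/-- an element of a 2-group `P ⊇ T₁` centralizing `z` and fixing `t` modulo `z` lies in `T₁` -/
theorem mem_T1 {P : Subgroup G} (hP : IsPGroup 2 P) (h : D.T1 ≤ P) {x : G} (hx : x ∈ P)
    (hz : x * D.ι .Z = D.ι .Z * x) (ht : ez D.ι (x * D.ι .T * x⁻¹) .T) : x ∈ D.T1 := by
  rw [← D.syl1.max (_ ⊓ P) inf_le_left (hP.to_le inf_le_right) (le_inf D.syl1.le h)]
  exact ⟨D.mem_NZ'.2 ⟨hz, ht⟩, hx⟩

/-- a 2-group containing `T₁` centralizes `z` -/
theorem cz_of {P : Subgroup G} (hP : IsPGroup 2 P) (h : D.T1 ≤ P) {x : G} (hx : x ∈ P) :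
    x * D.ι .Z = D.ι .Z * x := by
  obtain ⟨u, hu, u1, hc⟩ := AA.exists_fixed hP hP le_normalizer fun e =>
    D.z1 (mem_bot.1 (e ▸ h ⟨_, rfl⟩))
  obtain ⟨m, -, rfl⟩ := D.mem_S hP ((D.map_le _).trans h) hu (hc _ (h ⟨_, rfl⟩)).symm
  have key : ∀ m : M o, .T * m = m * .T → .B * m = m * .B → .W * m = m * .W → .Q * m = m * .Q →
      .A * m = m * .A → m = 1 ∨ m = .Z := by cases o <;> decide +kernel
  have c : ∀ n, n * m = m * n := fun n => D.inj (by rw [map_mul, map_mul]; exact hc _ (h ⟨_, rfl⟩))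
  rcases key m (c _) (c _) (c _) (c _) (c _) with rfl | rfl
  · exact absurd (map_one _) u1
  · exact hc x hx

/-- the only `C(z)`-conjugate of `F` in `T₁` is `F` -/
theorem uniq {g : G} (hg : g * D.ι .Z = D.ι .Z * g) (h : cj g D.F ≤ D.T1) : cj g D.F = D.F := by
  have dF : D.ι .D ∈ D.F := D.mem_map.2 (by cases o <;> decide +kernel)
  rcases M.uq (U := (cj g D.F).comap D.ι) (by rw [D.card_comap h, card_cj, D.card_F]) (fun m hm => by
    simpa only [← map_mul, ← map_one D.ι, D.inj.eq_iff] using D.cjF_sq hg hm) with e | ⟨-, e⟩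
  · exact ((congrArg (map D.ι) e).symm.trans (map_comap_eq_self h)).symm
  · obtain ⟨d, hd⟩ := h (conj_mem_cj (g := g) dF)
    obtain ⟨m, hm, k⟩ := e d (D.inj (by
      have : D.ι .D * D.ι .D = D.ι .Z := by rw [← map_mul, D.inj.eq_iff]; cases o <;> decide +kernel
      rw [map_mul, hd]
      calc _ = g * (D.ι .D * D.ι .D) * g⁻¹ := by group
        _ = _ := by rw [this, hg]; group))
    refine absurd (D.inj ?_) k
    obtain ⟨n, hn, e'⟩ := mem_cj.1 hm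
    have key : ∀ n : M o, n ∈ (M.sF : Subgroup (M o)) → n * .D = .D * n := by cases o <;> decide +kernel
    have : D.ι n * D.ι .D = D.ι .D * D.ι n := by rw [← map_mul, key n hn, map_mul]
    rw [map_mul, map_mul, hd]
    calc _ = g * (g⁻¹ * D.ι m * g * D.ι .D) * g⁻¹ := by group
      _ = _ := by rw [← e', this, e']; group

theorem cz_of_nT1 {g : G} (h : g ∈ normalizer (D.T1 : Set G)) : g * D.ι .Z = D.ι .Z * g := by
  obtain ⟨m, hm⟩ := (mem_normalizer_iff.1 h _).1 (⟨.Z, rfl⟩ : D.ι .Z ∈ D.T1)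
  have key : ∀ m : M o, .T * m = m * .T → .B * m = m * .B → .W * m = m * .W → .Q * m = m * .Q →
      .A * m = m * .A → m = 1 ∨ m = .Z := by cases o <;> decide +kernel
  have c : ∀ n, n * m = m * n := fun n => D.inj (by
    have := D.zc' ((mem_normalizer_iff''.1 h _).1 (⟨n, rfl⟩ : D.ι n ∈ D.T1))
    rw [map_mul, map_mul, hm]
    calc _ = g * (g⁻¹ * D.ι n * g * D.ι .Z) * g⁻¹ := by group
      _ = _ := by rw [this]; group)
  rcases key m (c _) (c _) (c _) (c _) (c _) with rfl | rfl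
  · rw [map_one, eq_comm, mul_inv_eq_one, mul_eq_left] at hm; exact absurd hm D.z1
  · exact mul_inv_eq_iff_eq_mul.1 hm.symm

theorem nF_of_nT1 {g : G} (h : g ∈ normalizer (D.T1 : Set G)) : g ∈ normalizer (D.F : Set G) :=
  cj_eq_self_iff.1 (D.uniq (D.cz_of_nT1 h) (cj_le_of_norm (D.map_le _) h))

theorem nFp_of_nT1 (D : D2 G false) {g : G} (h : g ∈ normalizer (D.T1 : Set G)) :
    g ∈ normalizer (D.Fp : Set G) := by
  have hl := cj_le_of_norm (D.map_le M.sFp) h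
  have hg := D.cz_of_nT1 h
  have key : ∀ m : M false, m ∈ (M.sFp : Subgroup (M false)) → m * m = 1 ∨ m * m = .Z := by
    decide +kernel
  rcases M.uq (U := (cj g D.Fp).comap D.ι) (by rw [D.card_comap hl, card_cj, D.card_Fp]) (fun m hm => by
    obtain ⟨n, hn, e⟩ := mem_cj.1 hm
    have e' : D.ι (m * m) = g * D.ι (n * n) * g⁻¹ := by rw [map_mul, map_mul, e]; group
    rcases key n hn with k | k <;> rw [k] at e'
    · exact Or.inl (D.inj (by rw [e', map_one]; group))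
    · exact Or.inr (D.inj (by rw [e', hg]; group))) with e | ⟨e, -⟩
  · have e1 : cj g D.Fp = cj g D.F := by
      rw [cj_eq_self (D.nF_of_nT1 h)]
      exact ((congrArg (map D.ι) e).symm.trans (map_comap_eq_self hl)).symm
    have : D.ι .A ∈ D.F := cj_inj.1 e1 ▸ D.mem_map.2 (by decide +kernel)
    exact absurd (D.mem_map.1 this) (by decide +kernel)
  · exact cj_eq_self_iff.1 ((congrArg (map D.ι) e).symm.trans (map_comap_eq_self hl)).symm

/-- a 2-subgroup of `N(⟨t', z⟩)`, `t' = t^g`, is conjugate into `T₁` -/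
theorem extr1 {P : Subgroup G} (hP : IsPGroup 2 P) {g : G} (hg : g * D.ι .Z = D.ι .Z * g)
    (hz : ∀ x ∈ P, x * D.ι .Z = D.ι .Z * x)
    (hc : ∀ x ∈ P, x * (g * D.ι .T * g⁻¹) * x⁻¹ = g * D.ι .T * g⁻¹ ∨
      x * (g * D.ι .T * g⁻¹) * x⁻¹ = g * D.ι .T * g⁻¹ * D.ι .Z) :
    ∃ h, h * D.ι .Z = D.ι .Z * h ∧ ez D.ι (h * (g * D.ι .T * g⁻¹) * h⁻¹) .T ∧ cj h P ≤ D.T1 := by
  have hg' : g⁻¹ * D.ι .Z = D.ι .Z * g⁻¹ := by
    rw [inv_mul_eq_iff_eq_mul, ← mul_assoc, hg, mul_inv_cancel_right]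
  obtain ⟨n, hn, e⟩ := D.syl1.exists_conj_le (P := cj g⁻¹ P) (by
    rintro _ ⟨x, hx, rfl⟩
    show g⁻¹ * x * g⁻¹⁻¹ ∈ _
    refine ⟨by rw [inv_inv, mul_assoc, hg, mul_assoc, ← mul_assoc x, hz x hx, ← mul_assoc, ← mul_assoc, hg']; group, ?_⟩
    have e : g⁻¹ * x * g⁻¹⁻¹ * D.ι .T * (g⁻¹ * x * g⁻¹⁻¹)⁻¹ =
      g⁻¹ * (x * (g * D.ι .T * g⁻¹) * x⁻¹) * g := by group
    rcases hc x hx with k | k <;> rw [e, k]
    · left; group
    · right; rw [mul_assoc (g * _), hg']; group) (isPGroup_cj hP _)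
  refine ⟨n * g⁻¹, by rw [mul_assoc, hg', ← mul_assoc, hn.1, mul_assoc], ?_, by rwa [cj_mul]⟩
  have := (D.mem_NZ'.1 hn).2
  rwa [show n * g⁻¹ * (g * D.ι .T * g⁻¹) * (n * g⁻¹)⁻¹ = n * D.ι .T * n⁻¹ by group]

/-- conjugates of `t` inside `F` are conjugate in `N(F) ∩ C(z)` -/
theorem ct_N {m : M o} (h : D.ct m) (hm : m ∈ (M.sF : Subgroup (M o))) :
    ∃ g ∈ normalizer (D.F : Set G), g * D.ι .Z = D.ι .Z * g ∧ ez D.ι (g * D.ι .T * g⁻¹) m := by
  obtain ⟨g, h1, h2⟩ := D.extr (P := D.F ⊓ centralizer {D.ι m}) h (D.pF.to_le inf_le_left)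
    fun x hx => mem_centralizer_singleton_iff.1 hx.2
  have k1 : ∀ m : M o, m ∈ (M.sF : Subgroup (M o)) → ∃ u ∈ ([.T, .B, .W, .Q, .T * .W, .T * .Q, .B * .W,
      .B * .Q, .T * .B, .W * .Q] : List (M o)), u * m = m * u ∧ u ∈ (M.sF : Subgroup (M o)) ∧
      ∃ v ∈ ([.T, .B, .W, .Q, .T * .W, .T * .Q, .B * .W, .B * .Q, .T * .B, .W * .Q] : List (M o)),
      v * m = m * v ∧ v ∈ (M.sF : Subgroup (M o)) ∧ u * v * u⁻¹ * v⁻¹ = .Z := by
    cases o <;> decide +kernel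
  have k2 : ∀ u : M o, u ∈ (M.sS : Subgroup (M o)) → ∀ v : M o, v ∈ (M.sS : Subgroup (M o)) →
      u * v * u⁻¹ * v⁻¹ * (u * v * u⁻¹ * v⁻¹) = 1 → u * v * u⁻¹ * v⁻¹ = 1 ∨ u * v * u⁻¹ * v⁻¹ = .Z := by
    cases o <;> decide +kernel
  obtain ⟨u, -, u1, u2, v, -, v1, v2, e⟩ := k1 m hm
  obtain ⟨u', u3, u4⟩ := h2 (D.ι u) ⟨D.mem_map.2 u2, mem_centralizer_singleton_iff.2 (by
    rw [← map_mul, u1, map_mul])⟩
  obtain ⟨v', v3, v4⟩ := h2 (D.ι v) ⟨D.mem_map.2 v2, mem_centralizer_singleton_iff.2 (by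
    rw [← map_mul, v1, map_mul])⟩
  have e1 : D.ι (u' * v' * u'⁻¹ * v'⁻¹) = g * D.ι .Z * g⁻¹ := by
    simp only [← e, map_mul, map_inv, ← u4, ← v4]; group
  have hg : g * D.ι .Z = D.ι .Z * g := by
    rcases k2 u' u3 v' v3 (D.inj (by
      rw [map_mul, e1, map_one]
      calc _ = g * (D.ι .Z * D.ι .Z) * g⁻¹ := by group
        _ = 1 := by rw [D.z2]; group)) with k | k <;> rw [k] at e1
    · rw [map_one, eq_comm, mul_inv_eq_one, mul_eq_left] at e1; exact absurd e1 D.z1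
    · rw [← mul_inv_eq_iff_eq_mul, ← e1]
  have hg' : g⁻¹ * D.ι .Z = D.ι .Z * g⁻¹ := by
    rw [inv_mul_eq_iff_eq_mul, ← mul_assoc, hg, mul_inv_cancel_right]
  have e2 : g⁻¹ * D.ι .T * g⁻¹⁻¹ = D.ι m := by rw [← h1]; group
  obtain ⟨k, k3, k4, k5⟩ := D.extr1 D.pF hg' (fun x hx => D.zc' (D.map_le _ hx)) fun x hx => by
    rw [e2]; exact D.F_cj (D.mem_map.2 hm) hx
  rw [e2] at k4
  refine ⟨k⁻¹, inv_mem (cj_eq_self_iff.1 (D.uniq k3 k5)), ?_, ez.cinv k3 k4⟩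
  rw [inv_mul_eq_iff_eq_mul, ← mul_assoc, k3, mul_inv_cancel_right]

/-- two conjugates of `F` in a 2-group sharing a conjugate of `t` are equal -/
theorem two {h : G} (hh : h * D.ι .Z = D.ι .Z * h) (p : IsPGroup 2 (D.F ⊔ cj h D.F : Subgroup G))
    {m : M o} (hm : D.ct m) (m1 : m ∈ (M.sF : Subgroup (M o))) (m2 : D.ι m ∈ cj h D.F) :
    cj h D.F = D.F := by
  obtain ⟨g, -, hg, e⟩ := D.ct_N hm m1
  have zF : (.Z : M o) ∈ (M.sF : Subgroup (M o)) := by cases o <;> decide +kernel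
  have m3 : g * D.ι .T * g⁻¹ ∈ D.F := e.mem_map m1 zF
  have m4 : g * D.ι .T * g⁻¹ ∈ cj h D.F := by
    rcases ez.iff_mul.1 e with k | k <;> rw [k]
    exacts [m2, mul_mem m2 (D.z_mem_cjF hh)]
  have hl : D.F ⊔ cj h D.F ≤ NZ (g * D.ι .T * g⁻¹) (D.ι .Z) D.z2 := sup_le
    (fun x hx => ⟨D.zc' (D.map_le _ hx), D.F_cj m3 hx⟩) fun x hx => ⟨by
      rcases D.cjF_cj hh (D.z_mem_cjF hh) hx with k | k
      · rw [← mul_inv_eq_iff_eq_mul, k]
      · rw [D.z2, mul_inv_eq_one, mul_eq_left] at k; exact absurd k D.z1, D.cjF_cj hh m4 hx⟩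
  obtain ⟨k, k3, -, k5⟩ := D.extr1 p hg (fun x hx => (hl hx).1) fun x hx => (hl hx).2
  have e1 := D.uniq k3 ((cj_mono k le_sup_left).trans k5)
  have e2 := D.uniq (g := k * h) (by rw [mul_assoc, hh, ← mul_assoc, k3, mul_assoc])
    (by rw [cj_mul]; exact (cj_mono k le_sup_right).trans k5)
  rw [cj_mul] at e2
  exact cj_inj.1 (e2.trans e1.symm)

/-- a 2-element acting trivially on `F / ⟨z⟩` lies in `F` -/
theorem bar_id2 {g : G} {k : ℕ} (h2 : g ^ 2 ^ k = 1) (h : D.Bar g id) : g ∈ D.F := by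
  have zF : (.Z : M o) ∈ (M.sF : Subgroup (M o)) := by cases o <;> decide +kernel
  have hz : g * D.ι .Z = D.ι .Z * g := by
    rcases h _ zF with e | e
    · rw [← mul_inv_eq_iff_eq_mul, e, id]
    · rw [id, M.zz, map_one, mul_inv_eq_one, mul_eq_left] at e; exact absurd e D.z1
  have hn : g ∈ normalizer (D.F : Set G) := h.norm fun _ hm => hm
  obtain ⟨n, hn1, e⟩ := D.syl1.exists_conj_le (P := zpowers g ⊔ D.F)
    (sup_le (zpowers_le.2 (D.mem_NZ'.2 ⟨hz, h _ (by cases o <;> decide +kernel)⟩))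
      ((D.map_le _).trans D.T1_le_NZ)) (isPGroup_sup (isPGroup_zpowers h2) D.pF (zpowers_le.2 hn))
  have e1 := D.uniq hn1.1 ((cj_mono n le_sup_right).trans e)
  obtain ⟨m, hm⟩ := e (conj_mem_cj (g := n) (mem_sup_left (mem_zpowers g)))
  obtain ⟨u, hu, e2⟩ : n⁻¹ * D.ι .Q * n ∈ D.F :=
    mem_cj.1 (e1.symm ▸ D.mem_map.2 (by cases o <;> decide +kernel))
  have e3 : ez D.ι (D.ι (m * .Q * m⁻¹)) .Q := by
    have := ez.conj hn1.1 (h u hu) (Or.inl (show n * D.ι u * n⁻¹ = D.ι .Q by rw [e2]; group))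
    rwa [show n * (g * D.ι u * g⁻¹) * n⁻¹ = D.ι (m * .Q * m⁻¹) by
      rw [map_mul, map_mul, map_inv, hm, e2]; group] at this
  have key : ∀ m : M o, (m * .Q * m⁻¹ = .Q ∨ m * .Q * m⁻¹ = .Q * .Z) → m ∈ (M.sF : Subgroup (M o)) := by
    cases o <;> decide +kernel
  have : n * g * n⁻¹ ∈ cj n D.F := by rw [e1, ← hm]; exact D.mem_map.2 (key m (D.ez_iff.1 e3))
  simpa [mem_cj, mul_assoc] using this

/-- the same for a conjugate of `F` -/
theorem bar_id_cj {g h : G} {k : ℕ} (h2 : g ^ 2 ^ k = 1) (hh : h * D.ι .Z = D.ι .Z * h)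
    (e : ∀ x ∈ cj h D.F, g * x * g⁻¹ = x ∨ g * x * g⁻¹ = x * D.ι .Z) : g ∈ cj h D.F := by
  rw [mem_cj]
  refine D.bar_id2 (k := k) (by
    have := conj_pow' h⁻¹ g (2 ^ k)
    rw [inv_inv] at this
    rw [this, h2]; group) fun m hm => ez.iff_mul.2 ?_
  have e1 : h⁻¹ * g * h * D.ι m * (h⁻¹ * g * h)⁻¹ = h⁻¹ * (g * (h * D.ι m * h⁻¹) * g⁻¹) * h := by group
  rcases e _ (conj_mem_cj (g := h) (D.mem_map.2 hm)) with k | k <;> rw [e1, k, id]
  · left; group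
  · right
    calc _ = D.ι m * h⁻¹ * (D.ι .Z * h) := by group
      _ = _ := by rw [← hh]; group

theorem ST_aux (D : D2 G false) {h : G} (hn : h ∈ normalizer (D.Fp : Set G))
    (hz : h * D.ι .Z = D.ι .Z * h) (ht : ez D.ι (h * D.ι .T * h⁻¹) .T) :
    h ^ 2 ^ 5 ∈ centralizer (D.Fp : Set G) := by
  have cm : ∀ {k : G} {m : M false}, k * D.ι m = D.ι m * k → ∀ j : ℕ, k ^ j * D.ι m = D.ι m * k ^ j :=
    fun h j => (Commute.pow_left h j).eq
  have fx : ∀ {k : G} {m u : M false} (j : ℕ), k * D.ι m * k⁻¹ = D.ι (m * u) →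
      k * D.ι u = D.ι u * k → u ^ j = 1 → k ^ j * D.ι m = D.ι m * k ^ j := fun j a b c =>
    fix_pow' (by rw [a, map_mul]) b (by rw [← map_pow, c, map_one])
  have f2 : ∀ {k : G} {m : M false}, k * D.ι .Z = D.ι .Z * k → ez D.ι (k * D.ι m * k⁻¹) m →
      k ^ 2 * D.ι m = D.ι m * k ^ 2 := fun a b => by
    rcases b with b | b
    · exact cm (mul_inv_eq_iff_eq_mul.1 b) 2
    · exact fx 2 b a (by decide +kernel)
  have c2 : ∀ {k : G} {m n : M false}, k * D.ι m = D.ι m * k → k * D.ι n = D.ι n * k →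
      k * D.ι (m * n) = D.ι (m * n) * k := fun a b => mul_inv_eq_iff_eq_mul.1 (cjm (cj1 a) (cj1 b))
  have c0 : ∀ k : G, k * D.ι 1 = D.ι 1 * k := fun k => by simp
  have t1 := f2 hz ht
  have g1 : h ^ 2 * D.ι .Gm = D.ι .Gm * h ^ 2 := by
    obtain ⟨n, a, b⟩ := D.exists_im hn (m := .Gm) (by decide +kernel)
    have c : ∀ m ∈ (M.sFp : Subgroup (M false)), n * m = m * n := fun m hm => by
      obtain ⟨u, hu, e⟩ := D.exists_im (inv_mem hn) hm
      have e' : h * D.ι u * h⁻¹ = D.ι m := by rw [← e]; group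
      have key : ∀ u : M false, u ∈ (M.sFp : Subgroup (M false)) → .Gm * u = u * .Gm := by
        decide +kernel
      exact (cjc b e').1 (key u hu)
    have key : ∀ n : M false, n ∈ (M.sFp : Subgroup (M false)) → n * .T = .T * n → n * .B = .B * n →
        n * .W = .W * n → n * .A = .A * n → n ≠ 1 → n ≠ .Z → n = .Gm ∨ n = .Gm * .Z := by
      decide +kernel
    refine f2 hz ?_
    rw [b, D.ez_iff]
    exact key n a (c _ (by decide +kernel)) (c _ (by decide +kernel)) (c _ (by decide +kernel))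
      (c _ (by decide +kernel)) ((cje b (cj1 (c0 h))).not.1 (by decide +kernel))
      ((cje b (cj1 hz)).not.1 (by decide +kernel))
  have z1 := cm hz 2
  have w2 : (h ^ 2) ^ 2 * D.ι .W = D.ι .W * (h ^ 2) ^ 2 := by
    obtain ⟨n, a, b⟩ := D.exists_im (pow_mem hn 2) (m := .W) (by decide +kernel)
    have key : ∀ n : M false, n ∈ (M.sFp : Subgroup (M false)) → n ∈ (M.sD : Subgroup (M false)) →
        n * n = .Z → n = .W ∨ n = .W * .Z := by decide +kernel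
    refine f2 z1 ?_
    rw [b, D.ez_iff]
    exact key n a (D.fus _ t1 _ _ (by decide +kernel) b) ((cje (cjm b b) (cj1 z1)).1 (by decide +kernel))
  have t2 := cm t1 2
  have a3 : ((h ^ 2) ^ 2) ^ 4 * D.ι .A = D.ι .A * ((h ^ 2) ^ 2) ^ 4 := by
    obtain ⟨n, a, b⟩ := D.exists_im (pow_mem (pow_mem hn 2) 2) (m := .A) (by decide +kernel)
    have key : ∀ n : M false, n ∈ (M.sFp : Subgroup (M false)) → n ∈ (M.sD : Subgroup (M false)) →
        n * .W ≠ .W * n → n = .A * 1 ∨ n = .A * .W ∨ n = .A * (.W * .W) ∨ n = .A * (.W * .W * .W) := by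
      decide +kernel
    rcases key n a (D.fus _ t2 _ _ (by decide +kernel) b) ((cjc b (cj1 w2)).not.1 (by decide +kernel))
      with rfl | rfl | rfl | rfl
    · exact fx 4 b (c0 _) (by decide +kernel)
    · exact fx 4 b w2 (by decide +kernel)
    · exact fx 4 b (c2 w2 w2) (by decide +kernel)
    · exact fx 4 b (c2 (c2 w2 w2) w2) (by decide +kernel)
  have t3 := cm t2 4
  have w3 := cm w2 4
  have g3 := cm (cm g1 2) 4
  have z3 := cm (cm z1 2) 4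
  have b4 : (((h ^ 2) ^ 2) ^ 4) ^ 2 * D.ι .B = D.ι .B * (((h ^ 2) ^ 2) ^ 4) ^ 2 := by
    obtain ⟨n, a, b⟩ := D.exists_im (pow_mem (pow_mem (pow_mem hn 2) 2) 4) (m := .B) (by decide +kernel)
    have key : ∀ n : M false, n ∈ (M.sFp : Subgroup (M false)) → n * .W = .W * n → n * .A = .A * n →
        n * .T ≠ .T * n → ∃ i j l : Bool, n = .B * (bp .T i * bp .Gm j * bp .Z l) ∧
          (bp .T i * bp .Gm j * bp .Z l : M false) ^ 2 = 1 := by decide +kernel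
    obtain ⟨i, j, l, rfl, e⟩ := key n a ((cjc b (cj1 w3)).1 (by decide +kernel))
      ((cjc b (cj1 a3)).1 (by decide +kernel)) ((cjc b (cj1 t3)).not.1 (by decide +kernel))
    refine fx 2 b (c2 (c2 ?_ ?_) ?_) e
    · cases i; exacts [c0 _, t3]
    · cases j; exacts [c0 _, g3]
    · cases l; exacts [c0 _, z3]
  have e : h ^ 2 ^ 5 = (((h ^ 2) ^ 2) ^ 4) ^ 2 := by simp only [← pow_mul]; norm_num
  rw [e]
  have : (M.sFp : Subgroup (M false)) ≤ (centralizer {(((h ^ 2) ^ 2) ^ 4) ^ 2}).comap D.ι := by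
    have p : ∀ {m : M false}, (((h ^ 2) ^ 2) ^ 4) ^ 2 * D.ι m = D.ι m * (((h ^ 2) ^ 2) ^ 4) ^ 2 →
        m ∈ (centralizer {(((h ^ 2) ^ 2) ^ 4) ^ 2}).comap D.ι := fun a =>
      mem_centralizer_singleton_iff.2 a.symm
    refine M.sFp_le (p (cm t3 2)) (p b4) ?_ (p (cm w3 2)) (p (cm a3 2))
    rw [show (.D : M false) = .Gm * .W⁻¹ by decide +kernel]
    exact mul_mem (p (cm g3 2)) (inv_mem (p (cm w3 2)))
  rintro _ ⟨m, hm, rfl⟩
  exact mem_centralizer_singleton_iff.1 (this hm)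

/-- ST: `N(F') ∩ N(⟨t, z⟩) ∩ C(z) = C(F') T₁` -/
theorem ST' (D : D2 G false) {h : G} (hn : h ∈ normalizer (D.Fp : Set G))
    (hz : h * D.ι .Z = D.ι .Z * h) (ht : ez D.ι (h * D.ι .T * h⁻¹) .T) :
    ∃ u : M false, h * (D.ι u)⁻¹ ∈ centralizer (D.Fp : Set G) := by
  have hS : IsSylowIn 2 D.T1 (NZ (D.ι .T) (D.ι .Z) D.z2 ⊓ normalizer (D.Fp : Set G)) :=
    D.syl1.mono (le_inf D.T1_le_NZ D.T1_le_nFp) inf_le_left
  obtain ⟨_, ⟨u, rfl⟩, e⟩ := syl_cover (K := centralizer (D.Fp : Set G)) hS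
    (le_norm_cent inf_le_right) (fun h hh => ⟨5, D.ST_aux hh.2 hh.1.1 (D.mem_NZ'.1 hh.1).2⟩)
    (h := h) ⟨D.mem_NZ'.2 ⟨hz, ht⟩, hn⟩
  exact ⟨u, e⟩

theorem ST (D : D2 G false) {h : G} (hn : h ∈ normalizer (D.Fp : Set G))
    (hz : h * D.ι .Z = D.ι .Z * h) (ht : ez D.ι (h * D.ι .T * h⁻¹) .T) :
    ∃ u : M false, ∀ m ∈ (M.sFp : Subgroup (M false)), h * D.ι m * h⁻¹ = D.ι (u * m * u⁻¹) := by
  obtain ⟨u, e⟩ := D.ST' hn hz ht
  refine ⟨u, fun m hm => ?_⟩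
  have := e _ (D.mem_map.2 ((M.sFp_normal false).conj_mem m hm u))
  calc h * D.ι m * h⁻¹ = h * (D.ι u)⁻¹ * D.ι (u * m * u⁻¹) * (h * (D.ι u)⁻¹)⁻¹ := by
        simp only [map_mul, map_inv]; group
    _ = _ := by rw [← this]; group

/-- an element of `N(F) ∩ C(z)` maps `t` to a conjugate of `t` in `F` -/
theorem im_t {g : G} (hn : g ∈ normalizer (D.F : Set G)) :
    ∃ m ∈ (M.sF : Subgroup (M o)), D.ct m ∧ g * D.ι .T * g⁻¹ = D.ι m := by
  obtain ⟨m, a, b⟩ := D.exists_im hn (m := .T) (by cases o <;> decide +kernel)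
  exact ⟨m, a, D.ct_of D.ct_T b, b⟩

theorem exists_Cx : Nonempty (Cx2 D) := by
  obtain ⟨Ts, h1, h2⟩ := exists_isSylowIn_ge (H := normalizer (D.F : Set G) ⊓ centralizer {D.ι .Z})
    (le_inf D.T1_le_nF fun x hx => mem_centralizer_singleton_iff.2 (D.zc' hx)) D.pT1
  obtain ⟨T, h3, h4⟩ := exists_isSylowIn_ge (le_top (a := Ts)) h1.isPGroup
  exact ⟨⟨Ts, T, h3, h1, h2, h4⟩⟩

end fin
end D2

namespace Cx2
variable [Finite G] {D : D2 G o} (C : Cx2 D)

theorem pT : IsPGroup 2 C.T := C.sT.isPGroup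
theorem pTs : IsPGroup 2 C.Ts := C.sS.isPGroup
theorem l3 : D.T1 ≤ C.T := C.l1.trans C.l2
theorem ι_Ts (m : M o) : D.ι m ∈ C.Ts := C.l1 ⟨m, rfl⟩
theorem ι_T (m : M o) : D.ι m ∈ C.T := C.l3 ⟨m, rfl⟩
theorem F_le : D.F ≤ C.Ts := (D.map_le _).trans C.l1
theorem two_pow {g : G} (h : g ∈ C.T) : ∃ k : ℕ, g ^ 2 ^ k = 1 := isPGroup_iff.1 C.pT g h
/-- `T ≤ C(z)` -/
theorem cz {g : G} (h : g ∈ C.T) : g * D.ι .Z = D.ι .Z * g := D.cz_of C.pT C.l3 h
theorem nF {g : G} (h : g ∈ C.Ts) : g ∈ normalizer (D.F : Set G) := (C.sS.le h).1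
theorem mem_T1 {g : G} (h : g ∈ C.T) (ht : ez D.ι (g * D.ι .T * g⁻¹) .T) : g ∈ D.T1 :=
  D.mem_T1 C.pT C.l3 h (C.cz h) ht
theorem mem_S {g : G} (h : g ∈ C.T) (ht : g * D.ι .T = D.ι .T * g) : g ∈ M.sS.map D.ι :=
  D.mem_S C.pT ((D.map_le _).trans C.l3) h ht
theorem mem_Ts {g : G} (h : g ∈ C.T) (hn : g ∈ normalizer (D.F : Set G)) : g ∈ C.Ts := by
  rw [← C.sS.max (_ ⊓ C.T) inf_le_left (C.pT.to_le inf_le_right) (le_inf C.sS.le C.l2)]
  exact ⟨⟨hn, mem_centralizer_singleton_iff.2 (C.cz h)⟩, h⟩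
theorem bar_id {g : G} (h : g ∈ C.T) (e : D.Bar g id) : g ∈ D.F := by
  obtain ⟨k, hk⟩ := C.two_pow h
  exact D.bar_id2 hk e
/-- elements of `T` with the same action on `F / ⟨z⟩` differ by an element of `F` -/
theorem bar_eq {f g : G} {φ : M o → M o} (hf : f ∈ C.T) (hg : g ∈ C.T) (e1 : D.Bar f φ)
    (e2 : D.Bar g φ) : f⁻¹ * g ∈ D.F := C.bar_id (mul_mem (inv_mem hf) hg) fun m hm =>
  ez.comp (C.cz (inv_mem hf)) (ez.cinv (C.cz hf) (e1 m hm)) (e2 m hm)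
/-- two elements of `T` mapping `t` to the same class differ by an element of `T₁` -/
theorem t_eq {f g : G} {m : M o} (hf : f ∈ C.T) (hg : g ∈ C.T) (e1 : ez D.ι (f * D.ι .T * f⁻¹) m)
    (e2 : ez D.ι (g * D.ι .T * g⁻¹) m) : f⁻¹ * g ∈ D.T1 := C.mem_T1 (mul_mem (inv_mem hf) hg)
  (ez.comp (C.cz (inv_mem hf)) (ez.cinv (C.cz hf) e1) e2)

/-- the order of `T*` from a list `s` covering the conjugates of `t` in `F` modulo `z` -/
theorem card_Ts (s : List (M o)) {k : ℕ} (hk : s.length < 2 ^ (k + 1))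
    (hb : ∀ g ∈ C.Ts, ∃ m ∈ s, ez D.ι (g * D.ι .T * g⁻¹) m) : Nat.card C.Ts ≤ 128 * 2 ^ k := by
  classical
  rw [← D.card_T1]
  refine card_le_gen D.z2 (fun g hg => C.cz (C.l2 hg)) C.pTs D.syl1 C.l1 (s.map D.ι).toFinset
    (lt_of_le_of_lt (List.toFinset_card_le _) (by simpa using hk)) fun g hg => ?_
  obtain ⟨m, a, b⟩ := hb g hg
  exact ⟨D.ι m, List.mem_toFinset.2 (List.mem_map_of_mem a), ez.iff_mul.1 b⟩

theorem card_Ts' (s : List (M o)) {k : ℕ} (hk : s.length < 2 ^ (k + 1))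
    (hb : ∀ m ∈ (M.sF : Subgroup (M o)), D.ct m → ∃ n ∈ s, m = n ∨ m = n * .Z) :
    Nat.card C.Ts ≤ 128 * 2 ^ k := C.card_Ts s hk fun g hg => by
  obtain ⟨m, a, b, c⟩ := D.im_t (C.nF hg)
  obtain ⟨n, d, e⟩ := hb m a b
  exact ⟨n, d, c ▸ D.ez_iff.2 e⟩

theorem card_Ts_le : Nat.card C.Ts ≤ 1024 := by
  have key : ∀ m : M o, m ∈ (M.sF : Subgroup (M o)) → m * m = 1 → m ≠ 1 → m ≠ .Z →
      ∃ n ∈ ([.T, .T * .B, .D * .W, .D * .Q, .D * .W * .Q, .T * .D * .W, .T * .D * .Q, .T * .D * .W * .Q,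
        .B * .D, .B * .W, .B * .Q, .B * .W * .Q, .T * .B * .D * .W, .T * .B * .D * .Q,
        .T * .B * .D * .W * .Q] : List (M o)), m = n ∨ m = n * .Z := by cases o <;> decide +kernel
  exact C.card_Ts' _ (k := 3) (by simp) fun m hm h => key m hm (D.ct_sq h).1 (D.ct_sq h).2.1 (D.ct_sq h).2.2

/-- if the conjugates of `t` in `F` form `2 ^ k` classes modulo `z`, `T*` is transitive on them -/
theorem trans (s : List (M o)) {k : ℕ} (hk : s.length = 2 ^ k) (hd : s.Nodup)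
    (hs : ∀ m ∈ s, m * .Z ∉ s) (ha : ∀ m ∈ s, m ∈ (M.sF : Subgroup (M o)) ∧ D.ct m)
    (hb : ∀ m ∈ (M.sF : Subgroup (M o)), D.ct m → ∃ n ∈ s, m = n ∨ m = n * .Z) {m : M o}
    (hm : m ∈ s) : ∃ g ∈ C.Ts, ez D.ι (g * D.ι .T * g⁻¹) m := by
  classical
  obtain ⟨g, a, b⟩ := trans_gen D.z2 (N := normalizer (D.F : Set G) ⊓ centralizer {D.ι .Z})
    (fun g hg => mem_centralizer_singleton_iff.1 hg.2) C.sS D.syl1
    C.l1 (s.map D.ι).toFinset (k := k) (fun v hv hv' => by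
      obtain ⟨m, a, rfl⟩ := List.mem_map.1 (List.mem_toFinset.1 hv)
      obtain ⟨n, b, e⟩ := List.mem_map.1 (List.mem_toFinset.1 hv')
      rw [← map_mul, D.inj.eq_iff] at e
      exact hs m a (e ▸ b))
    (by rw [List.toFinset_card_of_nodup (hd.map D.inj), List.length_map, hk])
    (fun v hv => by
      obtain ⟨m, a, rfl⟩ := List.mem_map.1 (List.mem_toFinset.1 hv)
      obtain ⟨g, h1, h2, h3⟩ := D.ct_N (ha m a).2 (ha m a).1
      exact ⟨g, ⟨h1, mem_centralizer_singleton_iff.2 h2⟩, ez.iff_mul.1 h3⟩)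
    (fun g hg => by
      obtain ⟨m, a, b, c⟩ := D.im_t hg.1
      obtain ⟨n, d, e⟩ := hb m a b
      exact ⟨D.ι n, List.mem_toFinset.2 (List.mem_map_of_mem d), ez.iff_mul.1 (c ▸ D.ez_iff.2 e)⟩)
    (List.mem_toFinset.2 (List.mem_map_of_mem hm))
  exact ⟨g, a, ez.iff_mul.2 b⟩

/-- `T*` normalizes `Fⁿ` for `n ∈ N(T*)` -/
theorem nF1 {n g : G} (hn : n ∈ normalizer (C.Ts : Set G)) (hg : g ∈ C.Ts) :
    g ∈ normalizer (cj n D.F : Set G) := by
  rw [← cj_normalizer, mem_cj]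
  exact C.nF ((mem_normalizer_iff''.1 hn g).1 hg)
theorem F1_le {n : G} (hn : n ∈ normalizer (C.Ts : Set G)) : cj n D.F ≤ C.Ts :=
  cj_le_of_norm C.F_le hn
/-- `n` swaps `F` and `Fⁿ` -/
theorem swap {n : G} (h2 : n * n ∈ C.Ts) : cj n (cj n D.F) = D.F := by
  rw [← cj_mul, cj_eq_self (C.nF h2)]
theorem pr_n {n : G} (h1 : n ∈ C.T) (hn : n ∈ normalizer (C.Ts : Set G)) (h3 : n ∉ C.Ts) :
    Pr2 C (cj n D.F) :=
  ⟨⟨n, C.cz h1, rfl⟩, C.F1_le hn, fun _ hg => C.nF1 hn (C.l1 hg),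
    fun e => h3 (C.mem_Ts h1 (cj_eq_self_iff.1 e))⟩
theorem exists_n (h : C.Ts ≠ C.T) :
    ∃ n ∈ C.T, n ∈ normalizer (C.Ts : Set G) ∧ n ∉ C.Ts ∧ n * n ∈ C.Ts := L3.exists_n C.pT C.l2 h
/-- a conjugate `F₂ ≠ F` of `F` inside `T` contains no conjugate of `t` lying in `F` -/
theorem not_ct {h : G} (hh : h * D.ι .Z = D.ι .Z * h) (hl : cj h D.F ≤ C.T) (hne : cj h D.F ≠ D.F)
    {m : M o} (m1 : m ∈ (M.sF : Subgroup (M o))) (m2 : D.ι m ∈ cj h D.F) : ¬ D.ct m := fun hm =>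
  hne (D.two hh (C.pT.to_le (sup_le (C.F_le.trans C.l2) hl)) hm m1 m2)

end Cx2

end Cfsg.Agent.H40.L3
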