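import Cfsg.Agent.H40.L3K2

/-! Project L33: finite checks for the geometry of a pair of conjugates of `F` (case II). -/

set_option autoImplicit false
set_option linter.unusedSectionVars false
set_option synthInstance.maxSize 100000
set_option synthInstance.maxHeartbeats 400000

noncomputable section

namespace Cfsg.Agent.H40.L3

open Subgroup

namespace M
variable {o : Bool}

/-- equal modulo `z` -/
def eqz (m n : M o) : Prop := m = n ∨ m = n * Z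
instance (m n : M o) : Decidable (eqz m n) := inferInstanceAs (Decidable (m = n ∨ m = n * Z))
abbrev P4 (o : Bool) := M o × M o × M o × M o
def ph (p : P4 o) : M o → M o := lin p.1 p.2.1 D p.2.2.1 p.2.2.2
def c4 (o : Bool) (a b c d : Nat) : P4 o := (of o a, of o b, of o c, of o d)
/-- the action of `a` -/
def pa (o : Bool) : P4 o := bif o then c4 o 1 7 8 24 else c4 o 1 2 8 24
def L0 (o : Bool) : List (P4 o) := bif o then
  [c4 o 12 16 5 2, c4 o 12 17 5 14, c4 o 12 24 5 7, c4 o 12 25 5 11, c4 o 18 17 27 16, c4 o 18 24 27 25,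
    c4 o 23 2 30 16, c4 o 23 11 30 25, c4 o 26 16 19 2, c4 o 26 25 19 11, c4 o 31 2 22 14, c4 o 31 11 22 7]
  else [c4 o 3 2 8 16, c4 o 3 2 8 24, c4 o 6 5 8 16, c4 o 6 5 8 24, c4 o 10 9 8 19, c4 o 10 9 8 27,
    c4 o 13 2 8 22, c4 o 13 2 8 30, c4 o 13 14 8 19, c4 o 13 14 8 27, c4 o 15 2 8 22, c4 o 15 2 8 30]
def L1 (o : Bool) : List (P4 o) := pa o :: L0 o
/-- the commutators with the generators -/
def ims (p : P4 o) : List (M o) := [p.1 * T⁻¹, p.2.1 * B⁻¹, p.2.2.1 * W⁻¹, p.2.2.2 * Q⁻¹]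
def eqv (p r : P4 o) : Prop :=
  eqz p.1 r.1 ∧ eqz p.2.1 r.2.1 ∧ eqz p.2.2.1 r.2.2.1 ∧ eqz p.2.2.2 r.2.2.2
instance (p r : P4 o) : Decidable (eqv p r) := inferInstanceAs (Decidable
  (eqz p.1 r.1 ∧ eqz p.2.1 r.2.1 ∧ eqz p.2.2.1 r.2.2.1 ∧ eqz p.2.2.2 r.2.2.2))
def cp (p r : P4 o) : P4 o := (ph p r.1, ph p r.2.1, ph p r.2.2.1, ph p r.2.2.2)
/-- conjugates of `t` known from `p` -/
def bad (p : P4 o) : List (M o) := [T, p.1, kp p.1, kp (kp p.1)]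
def fx1 (p : P4 o) (m : M o) : Bool := !m.a && decide (eqz (ph p m) m)
def fx2 (p r : P4 o) (m : M o) : Bool := !m.a && (decide (eqz (ph p m) m) && decide (eqz (ph r m) m))
def tq (ty : Bool) (s : Bool × Bool × Bool) : P4 o := (tvs ty s T, tvs ty s B, tvs ty s W, tvs ty s Q)

def B3 : List (Bool × Bool × Bool) := [(true, false, false), (false, true, false), (false, false, true),
  (true, true, false), (true, false, true), (false, true, true), (true, true, true)]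

theorem single (o : Bool) : ∀ t : M o, t.v < 32 → t * t = 1 → t ≠ 1 → ∀ b : M o, b.v < 32 → b * b = Z →
    t * b ≠ b * t → ∀ w : M o, w.v < 32 → w * w = Z → w * t = t * w → w * b = b * w → w ≠ D →
    ∀ q : M o, q.v < 32 → q * w ≠ w * q → q * q = Z → q * t = t * q → q * b = b * q →
    (∀ u ∈ ims (t, b, w, q), eqz (ph (t, b, w, q) u) u ∧
      eqz (ph (t, b, w, q) (A * u * A⁻¹)) (A * u * A⁻¹)) → t = T ∨ (t, b, w, q) ∈ L0 o := by
  cases o <;> decide +kernel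

theorem rep (o : Bool) : ∀ m : M o, m ∈ (sF : Subgroup (M o)) → ∃ n : M o, n.v < 32 ∧ eqz n m := by
  cases o <;> decide +kernel

theorem pa_ok (o : Bool) : ∀ n : M o, n * T * n⁻¹ = T ∨ n * T * n⁻¹ = T * Z → n ∉ (sF : Subgroup (M o)) →
    ∀ m : M o, m ∈ (sF : Subgroup (M o)) → eqz (ph (pa o) m) (n * m * n⁻¹) := by
  cases o <;> decide +kernel

theorem L1_mem (o : Bool) : ∀ p ∈ L1 o, (∀ m : M o, m ∈ (sF : Subgroup (M o)) →
    ph p m ∈ (sF : Subgroup (M o))) ∧ eqz p.1 (ph p T) ∧ eqz p.2.1 (ph p B) ∧ eqz D (ph p D) ∧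
    eqz p.2.2.1 (ph p W) ∧ eqz p.2.2.2 (ph p Q) := by
  cases o <;> decide +kernel

theorem one_step (o : Bool) : ∀ p ∈ L1 o, cntN (fun k => fx1 p (of o k)) 128 < 32 ∨
    (cntN (fun k => fx1 p (of o k)) 128 = 32 ∧ ((∃ u ∈ bad p, fx1 p u = true) ∨
    (o = false ∧ ∃ ty : Bool, (∀ m : M o, m ∈ (sF : Subgroup (M o)) →
      (fx1 p m = true ↔ m * Ep ty = Ep ty * m) ∧ eqz (tv (Ep ty) m) (ph p m))))) := by
  cases o <;> decide +kernel

theorem two_step (o : Bool) : ∀ p ∈ L1 o, ∀ r ∈ L1 o, ¬ eqv p r → (∃ s ∈ L1 o, eqv s (cp p r)) →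
    cntN (fun k => fx2 p r (of o k)) 128 < 16 ∨
    (cntN (fun k => fx2 p r (of o k)) 128 = 16 ∧ ((∃ u ∈ bad p ++ bad r, fx2 p r u = true) ∨
    (o = false ∧ ∃ ty : Bool, (∀ m : M o, (fx2 p r m = true ↔ m ∈ sE ty)) ∧
      ∃ s1 ∈ B3, eqv p (tq ty s1) ∧ ∃ s2 ∈ B3, eqv r (tq ty s2) ∧ s1 ≠ s2))) := by
  cases o <;> decide +kernel

theorem three_step (o : Bool) : ∀ p ∈ L1 o, ∀ r ∈ L1 o, ¬ eqv p r → ∀ u ∈ L1 o, eqv u (cp p r) →
    ∃ x ∈ ims p ++ ims r ++ ims u, ¬ eqz x 1 ∧ ∃ y ∈ ims p ++ ims r ++ ims u,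
      ¬ eqz y 1 ∧ ¬ eqz y x ∧ ((∃ v ∈ ims p ++ ims r ++ ims u,
        ¬ eqz v 1 ∧ ¬ eqz v x ∧ ¬ eqz v y ∧ ¬ eqz v (x * y)) ∨ ∀ s ∈ L1 o, (∃ v ∈ ims s,
        ¬ eqz v 1 ∧ ¬ eqz v x ∧ ¬ eqz v y ∧ ¬ eqz v (x * y)) ∨ eqv p s ∨ eqv r s ∨ eqv u s) := by
  cases o <;> decide +kernel

theorem tvs_lin : ∀ ty s1 s2 s3 : Bool, ∀ m : M false, m ∈ (sF : Subgroup (M false)) →
    eqz (tvs ty (s1, s2, s3) m) (ph (tq ty (s1, s2, s3)) m) := by
  decide +kernel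

end M

end Cfsg.Agent.H40.L3
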