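import Cfsg.Agent.H40.L3P1

/-! Project L33: the geometry of a pair of conjugates of `F` (case II). -/

set_option autoImplicit false
set_option linter.unusedSectionVars false

noncomputable section

namespace Cfsg.Agent.H40.L3

open Subgroup Cfsg.Agent.H83

universe u

section gen
variable {G : Type*} [Group G] [Finite G]

/-- groups with squares and commutators in `⟨z⟩` -/
structure XS (P : Subgroup G) (z : G) : Prop where
  sq : ∀ x ∈ P, x * x = 1 ∨ x * x = z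
  cj : ∀ x ∈ P, ∀ y ∈ P, y * x * y⁻¹ = x ∨ y * x * y⁻¹ = x * z

theorem XS.ext {P K : Subgroup G} {z f : G} (h : XS P z) (hK : K ≤ P) (hz : z ∈ K) (hf : f ∈ P)
    (hn : f ∉ K) : Nat.card (K ⊔ zpowers f : Subgroup G) = 2 * Nat.card K ∧ K ⊔ zpowers f ≤ P ∧
      ∀ x, x ∈ K ⊔ zpowers f ↔ x ∈ K ∨ x * f⁻¹ ∈ K := by
  have h1 : f ∈ normalizer (K : Set G) := mem_normalizer_fintype fun x hx => by
    rcases h.cj x (hK hx) f hf with e | e <;> rw [e]
    exacts [hx, mul_mem hx hz]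
  have h2 : f * f ∈ K := by
    rcases h.sq f hf with e | e <;> rw [e]
    exacts [one_mem _, hz]
  exact ⟨AA.card_ext h1 h2 hn, sup_le hK (zpowers_le.2 hf), fun x => AA.mem_ext h1 h2⟩

end gen

namespace M
variable {o : Bool}

theorem card_le_cnt {U : Subgroup (M o)} {p : M o → Bool} (h : ∀ m ∈ U, p m = true) :
    Nat.card U ≤ cntN (fun k => p (of o k)) 128 := by
  rw [← card_pred]
  exact Nat.card_le_card_of_injective (fun m : U => (⟨m.1, h m m.2⟩ : {m // p m = true}))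
    fun a b e => Subtype.ext (congrArg (fun x : {m // p m = true} => x.1) e)

theorem mem_of_cnt {U : Subgroup (M o)} {p : M o → Bool} (h : ∀ m ∈ U, p m = true)
    (hc : cntN (fun k => p (of o k)) 128 ≤ Nat.card U) {m : M o} (hm : p m = true) : m ∈ U := by
  rw [← card_pred] at hc
  obtain ⟨⟨n, hn⟩, e⟩ := (Function.Injective.bijective_of_nat_card_le
    (f := fun m : U => (⟨m.1, h m m.2⟩ : {m // p m = true}))
    (fun a b e => Subtype.ext (congrArg (fun x : {m // p m = true} => x.1) e)) hc).2 ⟨m, hm⟩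
  have e' : n = m := congrArg (fun x : {m // p m = true} => x.1) e
  exact e' ▸ hn

theorem xs (o : Bool) : XS (sF : Subgroup (M o)) Z := ⟨sF_sq o, fun x hx y hy => sF_cj o x hx y hy⟩

theorem eqz_of {x y : M o} (h : x * y⁻¹ ∈ zpowers (Z : M o)) : eqz x y := by
  have key : zpowers (Z : M o) ≤ sub (fun m => decide (m = 1 ∨ m = Z)) (by cases o <;> decide +kernel) :=
    zpowers_le.2 (by simp [mem_sub])
  rcases (of_decide_eq_true (key h) : _ ∨ _) with e | e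
  · exact Or.inl (mul_inv_eq_one.1 e)
  · exact Or.inr (by rw [zc, ← e]; group)

theorem card16 {U : Subgroup (M o)} (hU : U ≤ sF) (hz : Z ∈ U) {x y v : M o} (hx : x ∈ U) (hy : y ∈ U)
    (hv : v ∈ U) (x1 : ¬ eqz x 1) (y1 : ¬ eqz y 1) (y2 : ¬ eqz y x) (v1 : ¬ eqz v 1) (v2 : ¬ eqz v x)
    (v3 : ¬ eqz v y) (v4 : ¬ eqz v (x * y)) : 16 ≤ Nat.card U := by
  have z0 : zpowers (Z : M o) ≤ sF := zpowers_le.2 (hU hz)
  have c0 : Nat.card (zpowers (Z : M o)) = 2 := by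
    rw [Nat.card_zpowers]
    exact orderOf_eq_prime (by rw [pow_two, zz]) (by cases o <;> decide +kernel)
  have e1 : ∀ {a : M o}, a ∈ zpowers (Z : M o) → eqz a 1 := fun h => eqz_of (by simpa using h)
  obtain ⟨a1, a2, a3⟩ := (xs o).ext z0 (mem_zpowers _) (hU hx) fun h => x1 (e1 h)
  obtain ⟨b1, b2, b3⟩ := (xs o).ext a2 (mem_sup_left (mem_zpowers _)) (hU hy) fun h =>
    ((a3 _).1 h).elim (fun h => y1 (e1 h)) fun h => y2 (eqz_of h)
  obtain ⟨c1, -, -⟩ := (xs o).ext b2 (mem_sup_left (mem_sup_left (mem_zpowers _))) (hU hv) fun h =>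
    ((b3 _).1 h).elim (fun h => ((a3 _).1 h).elim (fun h => v1 (e1 h)) fun h => v2 (eqz_of h))
      fun h => ((a3 _).1 h).elim (fun h => v3 (eqz_of h)) fun h => v4 (eqz_of (by
        rwa [mul_inv_rev, ← mul_assoc]))
  have := card_le_of_le (sup_le (sup_le (sup_le (zpowers_le.2 hz) (zpowers_le.2 hx)) (zpowers_le.2 hy))
    (zpowers_le.2 hv))
  omega

end M

variable {G : Type u} [Group G] [Finite G] {o : Bool} {D : D2 G o}

theorem ez_sq {x : G} {m : M o} (h : ez D.ι x m) : x * x = D.ι (m * m) := by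
  rcases h with rfl | rfl <;> rw [← map_mul]
  rw [mul_assoc, ← mul_assoc M.Z, ← M.zc, mul_assoc m, M.zz, mul_one]

theorem ez_cm {x y : G} {m n : M o} (h : ez D.ι x m) (k : ez D.ι y n) :
    x * y = y * x ↔ m * n = n * m := by
  have e : ∀ u v : M o, u * .Z * v = u * v * .Z := fun u v => by rw [mul_assoc, ← M.zc, mul_assoc]
  rcases h with rfl | rfl <;> rcases k with rfl | rfl <;>
    simp only [D.comm_iff, e, ← mul_assoc, mul_left_inj]

theorem sq_tr {f : G} {g m p : M o} (h : ez D.ι (f * D.ι g * f⁻¹) m) (e : g * g = p)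
    (hp : f * D.ι p = D.ι p * f) : m * m = p := D.inj (by
  rw [← ez_sq h, ← D2.cj1 hp, ← e, map_mul]; group)

theorem cm_tr {f : G} {g g' m m' : M o} (h : ez D.ι (f * D.ι g * f⁻¹) m)
    (k : ez D.ι (f * D.ι g' * f⁻¹) m') : g * g' = g' * g ↔ m * m' = m' * m := by
  rw [← ez_cm h k, ← D.comm_iff]
  constructor
  · intro e
    calc _ = f * (D.ι g * D.ι g') * f⁻¹ := by group
      _ = _ := by rw [e]; group
  · intro e
    calc _ = f⁻¹ * (f * D.ι g * f⁻¹ * (f * D.ι g' * f⁻¹)) * f := by group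
      _ = _ := by rw [e]; group

/-- `f` acts on the generators as `p` -/
structure Im (D : D2 G o) (f : G) (p : M.P4 o) : Prop where
  z : f * D.ι .Z = D.ι .Z * f
  t : ez D.ι (f * D.ι .T * f⁻¹) p.1
  b : ez D.ι (f * D.ι .B * f⁻¹) p.2.1
  d : ez D.ι (f * D.ι .D * f⁻¹) .D
  w : ez D.ι (f * D.ι .W * f⁻¹) p.2.2.1
  q : ez D.ι (f * D.ι .Q * f⁻¹) p.2.2.2

theorem eqz_symm {m n : M o} (h : M.eqz m n) : M.eqz n m := by
  rcases h with rfl | rfl
  exacts [Or.inl rfl, Or.inr (M.mzz _).symm]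

theorem Im.bar {f : G} {p : M.P4 o} (h : Im D f p) : D.Bar f (M.ph p) := D.bar_gens h.z h.t h.b h.d h.w h.q

theorem Im.congr {f : G} {p r : M.P4 o} (h : Im D f p) (e : M.eqv p r) : Im D f r :=
  ⟨h.z, h.t.congr (eqz_symm e.1), h.b.congr (eqz_symm e.2.1), h.d, h.w.congr (eqz_symm e.2.2.1),
    h.q.congr (eqz_symm e.2.2.2)⟩

theorem Im.uniq {f : G} {p r : M.P4 o} (h : Im D f p) (k : Im D f r) : M.eqv p r :=
  ⟨D.ez_uniq k.t h.t, D.ez_uniq k.b h.b, D.ez_uniq k.w h.w, D.ez_uniq k.q h.q⟩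

theorem gF (o : Bool) : (.T : M o) ∈ (M.sF : Subgroup (M o)) ∧ (.B : M o) ∈ (M.sF : Subgroup (M o)) ∧
    (.D : M o) ∈ (M.sF : Subgroup (M o)) ∧ (.W : M o) ∈ (M.sF : Subgroup (M o)) ∧
    (.Q : M o) ∈ (M.sF : Subgroup (M o)) ∧ (.Z : M o) ∈ (M.sF : Subgroup (M o)) := by
  cases o <;> decide +kernel

theorem im_of_bar {f : G} {p : M.P4 o} (hp : p ∈ M.L1 o) (hz : f * D.ι .Z = D.ι .Z * f)
    (h : D.Bar f (M.ph p)) : Im D f p := by
  obtain ⟨-, a, b, c, d, e⟩ := M.L1_mem o p hp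
  obtain ⟨g1, g2, g3, g4, g5, -⟩ := gF o
  exact ⟨hz, (h _ g1).congr a, (h _ g2).congr b, (h _ g3).congr c, (h _ g4).congr d, (h _ g5).congr e⟩

theorem L1_F (o : Bool) : ∀ p ∈ M.L1 o, p.1 ∈ (M.sF : Subgroup (M o)) ∧ p.2.1 ∈ (M.sF : Subgroup (M o)) ∧
    p.2.2.1 ∈ (M.sF : Subgroup (M o)) ∧ p.2.2.2 ∈ (M.sF : Subgroup (M o)) ∧
    ∀ u ∈ M.ims p, u ∈ (M.sF : Subgroup (M o)) := by cases o <;> decide +kernel

theorem Im.mul {f g : G} {p r : M.P4 o} (hr : r ∈ M.L1 o) (h : Im D f p)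
    (k : Im D g r) : Im D (f * g) (M.cp p r) := by
  obtain ⟨a, b, c, d, -⟩ := L1_F o r hr
  exact ⟨by rw [mul_assoc, k.z, ← mul_assoc, h.z, mul_assoc], ez.comp h.z (h.bar _ a) k.t,
    ez.comp h.z (h.bar _ b) k.b, ez.comp h.z h.d k.d, ez.comp h.z (h.bar _ c) k.w,
    ez.comp h.z (h.bar _ d) k.q⟩

variable {C : Cx2 D} {F2 : Subgroup G}

namespace Pr2

theorem xs (P : Pr2 C F2) : XS F2 (D.ι .Z) := by
  obtain ⟨g, hg, rfl⟩ := P.cj
  exact ⟨fun x hx => D.cjF_sq hg hx, fun x hx y hy => D.cjF_cj hg hx hy⟩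

theorem zm (P : Pr2 C F2) : D.ι .Z ∈ F2 := by
  obtain ⟨g, hg, rfl⟩ := P.cj
  exact D.z_mem_cjF hg

theorem card (P : Pr2 C F2) : Nat.card F2 = 64 := by
  obtain ⟨g, hg, rfl⟩ := P.cj
  rw [card_cj, D.card_F]

theorem nct (P : Pr2 C F2) {m : M o} (m1 : m ∈ (M.sF : Subgroup (M o))) (m2 : D.ι m ∈ F2) :
    ¬ D.ct m := by
  obtain ⟨g, hg, rfl⟩ := P.cj
  exact C.not_ct hg (P.le.trans C.l2) P.ne m1 m2

theorem fix (P : Pr2 C F2) {f : G} (hf : f ∈ F2) {φ : M o → M o} (h : D.Bar f φ) {m : M o}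
    (m1 : m ∈ (M.sF : Subgroup (M o))) (m2 : D.ι m ∈ F2) : M.eqz (φ m) m :=
  D.ez_uniq (ez.iff_mul.2 (P.xs.cj _ m2 f hf)) (h m m1)

theorem comm_mem (P : Pr2 C F2) {f : G} (hf : f ∈ F2) {g m : M o} (h : ez D.ι (f * D.ι g * f⁻¹) m) :
    D.ι (m * g⁻¹) ∈ F2 := by
  have h1 : f * D.ι g * f⁻¹ * (D.ι g)⁻¹ ∈ F2 := by
    have := mul_mem hf ((mem_normalizer_iff.1 (P.nm ⟨g, rfl⟩) _).1 (inv_mem hf))
    convert this using 1; group
  rw [map_mul, map_inv]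
  rcases ez.iff_mul.1 h with e | e <;> rw [e] at h1
  · exact h1
  · have := mul_mem h1 P.zm
    rwa [mul_assoc (D.ι m), ← map_inv, ← D.zc, mul_assoc, mul_assoc, D.z2, mul_one, map_inv] at this

theorem ims_mem (P : Pr2 C F2) {f : G} (hf : f ∈ F2) {p : M.P4 o} (h : Im D f p) :
    ∀ u ∈ M.ims p, D.ι u ∈ F2 := by
  simp only [M.ims, List.mem_cons, List.not_mem_nil, or_false]
  rintro u (rfl | rfl | rfl | rfl)
  exacts [P.comm_mem hf h.t, P.comm_mem hf h.b, P.comm_mem hf h.w, P.comm_mem hf h.q]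

theorem im (P : Pr2 C F2) {f : G} (hf : f ∈ F2) (hn : f ∉ D.F) : ∃ p ∈ M.L1 o, Im D f p := by
  have fT := C.l2 (P.le hf)
  have hz := C.cz fT
  have nF := C.nF (P.le hf)
  obtain ⟨g1, g2, g3, g4, g5, g6⟩ := gF o
  have rp : ∀ g ∈ (M.sF : Subgroup (M o)), ∃ n : M o, n.v < 32 ∧ n ∈ (M.sF : Subgroup (M o)) ∧
      ez D.ι (f * D.ι g * f⁻¹) n := fun g hg => by
    obtain ⟨m, a, b⟩ := D.exists_im nF hg
    obtain ⟨n, c, d⟩ := M.rep o m a
    refine ⟨n, c, ?_, (ez.of_eq b).congr d⟩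
    rcases d with rfl | rfl
    exacts [a, mul_mem a g6]
  obtain ⟨t, t1, t2, t3⟩ := rp _ g1
  obtain ⟨b, b1, b2, b3⟩ := rp _ g2
  obtain ⟨d, -, d2, d3⟩ := rp _ g3
  obtain ⟨w, w1, w2, w3⟩ := rp _ g4
  obtain ⟨q, q1, q2, q3⟩ := rp _ g5
  have c0 : f * D.ι 1 = D.ι 1 * f := by simp
  have hd : ez D.ι (f * D.ι .D * f⁻¹) .D := by
    have c : ∀ m ∈ (M.sF : Subgroup (M o)), d * m = m * d := fun m hm => by
      obtain ⟨u, hu, e⟩ := D.exists_im (inv_mem nF) hm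
      have e' : f * D.ι u * f⁻¹ = D.ι m := by rw [← e]; group
      have key : ∀ u : M o, u ∈ (M.sF : Subgroup (M o)) → .D * u = u * .D := by
        cases o <;> decide +kernel
      exact (cm_tr d3 (ez.of_eq e')).1 (key u hu)
    have key : ∀ d : M o, d ∈ (M.sF : Subgroup (M o)) → d * d = .Z → d * .T = .T * d → d * .B = .B * d →
        d * .W = .W * d → d * .Q = .Q * d → M.eqz .D d := by cases o <;> decide +kernel
    exact d3.congr (key d d2 (sq_tr d3 (by cases o <;> decide +kernel) hz) (c _ g1) (c _ g2) (c _ g4) (c _ g5))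
  have hI : Im D f (t, b, w, q) := ⟨hz, t3, b3, hd, w3, q3⟩
  have iF : ∀ u ∈ M.ims (t, b, w, q), u ∈ (M.sF : Subgroup (M o)) := by
    simp only [M.ims, List.mem_cons, List.not_mem_nil, or_false]
    rintro u (rfl | rfl | rfl | rfl)
    exacts [mul_mem t2 (inv_mem g1), mul_mem b2 (inv_mem g2), mul_mem w2 (inv_mem g4),
      mul_mem q2 (inv_mem g5)]
  have nqw := (cm_tr q3 w3).not.1 (by cases o <;> decide +kernel)
  rcases M.single o t t1 (sq_tr t3 (by cases o <;> decide +kernel) c0)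
    (D.ct_sq (D.ct_of_ez hz t3)).2.1 b b1 (sq_tr b3 (by cases o <;> decide +kernel) hz)
    ((cm_tr t3 b3).not.1 (by cases o <;> decide +kernel)) w w1
    (sq_tr w3 (by cases o <;> decide +kernel) hz) ((cm_tr w3 t3).1 (by cases o <;> decide +kernel))
    ((cm_tr w3 b3).1 (by cases o <;> decide +kernel)) (fun e => nqw (by
      have key : ∀ u : M o, u ∈ (M.sF : Subgroup (M o)) → u * .D = .D * u := by
        cases o <;> decide +kernel
      rw [e]; exact key q q2)) q q1 nqw (sq_tr q3 (by cases o <;> decide +kernel) hz)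
    ((cm_tr q3 t3).1 (by cases o <;> decide +kernel)) ((cm_tr q3 b3).1 (by cases o <;> decide +kernel))
    (fun u hu => ⟨P.fix hf hI.bar (iF u hu) (P.ims_mem hf hI u hu),
      P.fix hf hI.bar ((M.sF_normal o).conj_mem u (iF u hu) _) (by
        rw [map_mul, map_mul, map_inv]
        exact (mem_normalizer_iff.1 (P.nm ⟨.A, rfl⟩) _).1 (P.ims_mem hf hI u hu))⟩) with rfl | h
  · obtain ⟨n, rfl⟩ := C.mem_T1 fT t3
    refine ⟨M.pa o, List.mem_cons_self, im_of_bar List.mem_cons_self hz ((D.bar_ι n).congr ?_)⟩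
    exact M.pa_ok o n (D.ez_iff.1 (by simpa using t3)) fun h => hn (D.mem_map.2 h)
  · exact ⟨_, List.mem_cons_of_mem _ h, hI⟩

theorem ne_of (P : Pr2 C F2) {f g : G} (hf : f ∈ F2) (hg : g ∈ F2) {p r : M.P4 o} (h : Im D f p)
    (k : Im D g r) (hn : g * f⁻¹ ∉ D.F) : ¬ M.eqv p r := fun e => hn (by
  have := C.bar_eq (C.l2 (P.le hf)) (C.l2 (P.le hg)) (h.congr e).bar k.bar
  have h2 := (mem_normalizer_iff.1 (C.nF (P.le hf)) _).1 this
  convert h2 using 1; group)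

theorem bad_ct {f : G} {p : M.P4 o} (hp : p ∈ M.L1 o) (h : Im D f p) :
    ∀ u ∈ M.bad p, u ∈ (M.sF : Subgroup (M o)) ∧ D.ct u := by
  have a := (L1_F o p hp).1
  have b := D.ct_of_ez h.z h.t
  simp only [M.bad, List.mem_cons, List.not_mem_nil, or_false]
  rintro u (rfl | rfl | rfl | rfl)
  exacts [⟨(gF o).1, D.ct_T⟩, ⟨a, b⟩, ⟨M.kp_mem o _ a, D.ct_kp b a⟩,
    ⟨M.kp_mem o _ (M.kp_mem o _ a), D.ct_kp (D.ct_kp b a) (M.kp_mem o _ a)⟩]

end Pr2

theorem bar_tvs {f : G} (ho : o = false) {ty : Bool} {s : Bool × Bool × Bool} (h : Im D f (M.tq ty s)) :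
    D.Bar f (M.tvs ty s) := by
  subst ho
  exact h.bar.congr (M.tvs_lin ty s.1 s.2.1 s.2.2)

theorem pg2 : PG2S.{u} := by
  intro G _ _ o D C F2 P
  set K0 := D.F ⊓ F2 with hK0
  have z0 : D.ι .Z ∈ K0 := ⟨D.mem_map.2 (gF o).2.2.2.2.2, P.zm⟩
  set U := K0.comap D.ι with hU
  have cU : Nat.card U = Nat.card K0 := D.card_comap (inf_le_left.trans (D.map_le _))
  have mU : ∀ m, m ∈ U ↔ m ∈ (M.sF : Subgroup (M o)) ∧ D.ι m ∈ F2 := fun m => by
    rw [hU, mem_comap, hK0, mem_inf, D.mem_map]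
  have sFa : ∀ m : M o, m ∈ (M.sF : Subgroup (M o)) ↔ (!m.a) = true := fun _ => Iff.rfl
  obtain ⟨f1, h1, n1⟩ : ∃ f ∈ F2, f ∉ D.F := by
    by_contra! h
    exact P.ne (eq_of_le_of_card_ge h (by rw [P.card, D.card_F]))
  obtain ⟨p, hp, ip⟩ := P.im h1 n1
  obtain ⟨a1, a2, a3⟩ := P.xs.ext (K := K0) inf_le_right z0 h1 fun h => n1 h.1
  by_cases e1 : F2 ≤ K0 ⊔ zpowers f1
  · have c1 : Nat.card U = 32 := by
      have := P.card
      have := card_le_of_le e1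
      have := card_le_of_le a2
      omega
    have l1 : ∀ m ∈ U, M.fx1 p m = true := fun m hm => by
      obtain ⟨a, b⟩ := (mU m).1 hm
      simp only [M.fx1, Bool.and_eq_true, decide_eq_true_eq]
      exact ⟨a, P.fix h1 ip.bar a b⟩
    rcases M.one_step o p hp with k | ⟨k, ⟨u, k1, k2⟩ | ⟨ho, ty, k1⟩⟩
    · have := M.card_le_cnt l1
      omega
    · obtain ⟨a, b⟩ := Pr2.bad_ct hp ip u k1
      exact absurd b (P.nct a ((mU u).1 (M.mem_of_cnt l1 (by omega) k2)).2)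
    · refine ⟨ho, ty, Or.inl ⟨fun m hm => ?_, f1, h1, ip.bar.congr fun m hm => (k1 m hm).2⟩⟩
      rw [← (k1 m hm).1]
      exact ⟨fun h => l1 m ((mU m).2 ⟨hm, h⟩), fun h => ((mU m).1 (M.mem_of_cnt l1 (by omega) h)).2⟩
  obtain ⟨f2, h2, n2⟩ := SetLike.not_le_iff_exists.1 e1
  have n2' := n2
  rw [a3, not_or] at n2'
  have n21 : f2 ∉ D.F := fun h => n2'.1 ⟨h, h2⟩
  have n22 : f2 * f1⁻¹ ∉ D.F := fun h => n2'.2 ⟨h, F2.mul_mem h2 (F2.inv_mem h1)⟩
  obtain ⟨r, hr, ir⟩ := P.im h2 n21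
  obtain ⟨b1, b2, b3⟩ := P.xs.ext a2 (mem_sup_left z0) h2 n2
  have f11 : f1 * f1 ∈ D.F := by
    rcases P.xs.sq f1 h1 with e | e <;> rw [e]
    exacts [one_mem _, z0.1]
  have n12 : f1 * f2 ∉ D.F := fun h => n22 (by
    have := (mem_normalizer_iff''.1 (C.nF (P.le h1)) _).1 (mul_mem h (inv_mem f11))
    have h3 := (mem_normalizer_iff.1 (C.nF (P.le h1)) _).1 this
    have h4 := (mem_normalizer_iff''.1 (C.nF (P.le h1)) _).1 h3
    convert h4 using 1; group)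
  obtain ⟨s, hs, is⟩ := P.im (mul_mem h1 h2) n12
  have npr := P.ne_of h1 h2 ip ir n22
  have es := is.uniq (ip.mul hr ir)
  by_cases e2 : F2 ≤ K0 ⊔ zpowers f1 ⊔ zpowers f2
  · have c1 : Nat.card U = 16 := by
      have := P.card
      have := card_le_of_le e2
      have := card_le_of_le b2
      omega
    have l1 : ∀ m ∈ U, M.fx2 p r m = true := fun m hm => by
      obtain ⟨a, b⟩ := (mU m).1 hm
      simp only [M.fx2, Bool.and_eq_true, decide_eq_true_eq]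
      exact ⟨a, P.fix h1 ip.bar a b, P.fix h2 ir.bar a b⟩
    rcases M.two_step o p hp r hr npr ⟨s, hs, es⟩ with k | ⟨k, ⟨u, k1, k2⟩ | ⟨ho, ty, k1, s1, k2, k3, s2, k4, k5, k6⟩⟩
    · have := M.card_le_cnt l1
      omega
    · obtain ⟨a, b⟩ := (List.mem_append.1 k1).elim (Pr2.bad_ct hp ip u) (Pr2.bad_ct hr ir u)
      exact absurd b (P.nct a ((mU u).1 (M.mem_of_cnt l1 (by omega) k2)).2)
    · have nb : ∀ s ∈ M.B3, s ≠ (false, false, false) := by decide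
      refine ⟨ho, ty, Or.inr ⟨fun m hm => ?_, f1, h1, f2, h2, s1, s2, nb _ k2, nb _ k4, k6,
        bar_tvs ho (ip.congr k3), bar_tvs ho (ir.congr k5), fun x hx => ?_⟩⟩
      · rw [← k1 m]
        exact ⟨fun h => l1 m ((mU m).2 ⟨hm, h⟩), fun h => ((mU m).1 (M.mem_of_cnt l1 (by omega) h)).2⟩
      · rcases (b3 x).1 (e2 hx) with h | h <;> rcases (a3 _).1 h with h | h
        · exact Or.inl h.1
        · exact Or.inr (Or.inl h.1)
        · exact Or.inr (Or.inr (Or.inl h.1))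
        · exact Or.inr (Or.inr (Or.inr (by rw [mul_inv_rev, ← mul_assoc]; exact h.1)))
  exfalso
  obtain ⟨f3, h3, n3⟩ := SetLike.not_le_iff_exists.1 e2
  obtain ⟨c1, c2, -⟩ := P.xs.ext b2 (mem_sup_left (mem_sup_left z0)) h3 n3
  have c3 := card_le_of_le c2
  rw [c1, b1, a1, P.card, ← cU] at c3
  rw [b3, a3, a3] at n3
  simp only [not_or] at n3
  obtain ⟨v, hv, iv⟩ := P.im h3 fun h => n3.1.1 ⟨h, h3⟩
  have uF : U ≤ M.sF := fun m hm => ((mU m).1 hm).1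
  have zU : .Z ∈ U := z0
  have im1 : ∀ {f : G} {p : M.P4 o}, f ∈ F2 → p ∈ M.L1 o → Im D f p → ∀ u ∈ M.ims p, u ∈ U :=
    fun a b c u hu => (mU u).2 ⟨(L1_F o _ b).2.2.2.2 u hu, P.ims_mem a c u hu⟩
  have im3 : ∀ u ∈ M.ims p ++ M.ims r ++ M.ims s, u ∈ U := fun u hu =>
    (List.mem_append.1 hu).elim (fun hu => (List.mem_append.1 hu).elim (im1 h1 hp ip u) (im1 h2 hr ir u))
      (im1 (mul_mem h1 h2) hs is u)
  obtain ⟨x, x1, x2, y, y1, y2, y3, ⟨w, w1, w2, w3, w4, w5⟩ | k⟩ := M.three_step o p hp r hr npr s hs es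
  · have := M.card16 uF zU (im3 x x1) (im3 y y1) (im3 w w1) x2 y2 y3 w2 w3 w4 w5
    omega
  · rcases k v hv with ⟨w, w1, w2, w3, w4, w5⟩ | k | k | k
    · have := M.card16 uF zU (im3 x x1) (im3 y y1) (im1 h3 hv iv w w1) x2 y2 y3 w2 w3 w4 w5
      omega
    · exact P.ne_of h1 h3 ip iv (fun h => n3.1.2 ⟨h, F2.mul_mem h3 (F2.inv_mem h1)⟩) k
    · exact P.ne_of h2 h3 ir iv (fun h => n3.2.1 ⟨h, F2.mul_mem h3 (F2.inv_mem h2)⟩) k
    · exact P.ne_of (mul_mem h1 h2) h3 is iv (fun h => n3.2.2 ⟨by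
        rwa [mul_inv_rev, ← mul_assoc] at h, F2.mul_mem (F2.mul_mem h3 (F2.inv_mem h2)) (F2.inv_mem h1)⟩) k

end Cfsg.Agent.H40.L3
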