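import Cfsg.Agent.H40.L81Y40a

/-! Piece Y40 of S5921: the elements of order `40` with the prescribed multiplicities. -/

set_option autoImplicit false
set_option maxRecDepth 100000

namespace Cfsg.Agent.H40.L81Y40

open Cfsg.Agent.H50.L81 Cfsg.Lie H37 H40 H34 H29 Finset H50.E83 H50.SL2S

def cJ (r : ℕ) : List ℕ :=
  (List.range (r + 1)).filter fun j => (r.descFactorial j / j.factorial) % 3 != 0

def JL : List (List ℕ) :=
    [[0], [0, 1, 2], [0, 1, 3, 4], [0, 3, 6], [0, 1, 2, 3, 4, 5, 6, 7, 8], [0, 1, 9, 10], [0, 3,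
    9, 12], [0, 1, 2, 3, 4, 5, 9, 10, 11, 12, 13, 14], [0, 1, 3, 4, 6, 7, 9, 10, 12, 13, 15,
    16], [0, 9, 18], [0, 1, 2, 9, 10, 11, 18, 19, 20], [0, 1, 3, 4, 9, 10, 12, 13, 18, 19, 21,
    22], [0, 3, 6, 9, 12, 15, 18, 21, 24], [0, 1, 2, 3, 4, 5, 6, 7, 8, 9, 10, 11, 12, 13, 14,
    15, 16, 17, 18, 19, 20, 21, 22, 23, 24, 25, 26], [0, 1, 27, 28], [0, 3, 27, 30], [0, 1, 2,
    3, 4, 5, 27, 28, 29, 30, 31, 32], [0, 1, 3, 4, 6, 7, 27, 28, 30, 31, 33, 34], [0, 9, 27,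
    36], [0, 1, 2, 9, 10, 11, 27, 28, 29, 36, 37, 38], [0, 1, 3, 4, 9, 10, 12, 13, 27, 28, 30,
    31, 36, 37, 39, 40], [0, 3, 6, 9, 12, 15, 27, 30, 33, 36, 39, 42], [0, 1, 2, 3, 4, 5, 6, 7,
    8, 9, 10, 11, 12, 13, 14, 15, 16, 17, 27, 28, 29, 30, 31, 32, 33, 34, 35, 36, 37, 38, 39,
    40, 41, 42, 43, 44], [0, 1, 9, 10, 18, 19, 27, 28, 36, 37, 45, 46], [0, 3, 9, 12, 18, 21,
    27, 30, 36, 39, 45, 48], [0, 1, 2, 3, 4, 5, 9, 10, 11, 12, 13, 14, 18, 19, 20, 21, 22, 23,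
    27, 28, 29, 30, 31, 32, 36, 37, 38, 39, 40, 41, 45, 46, 47, 48, 49, 50], [0, 1, 3, 4, 6, 7,
    9, 10, 12, 13, 15, 16, 18, 19, 21, 22, 24, 25, 27, 28, 30, 31, 33, 34, 36, 37, 39, 40, 42,
    43, 45, 46, 48, 49, 51, 52], [0, 27, 54], [0, 1, 2, 27, 28, 29, 54, 55, 56], [0, 1, 3, 4,
    27, 28, 30, 31, 54, 55, 57, 58], [0, 3, 6, 27, 30, 33, 54, 57, 60], [0, 1, 2, 3, 4, 5, 6, 7,
    8, 27, 28, 29, 30, 31, 32, 33, 34, 35, 54, 55, 56, 57, 58, 59, 60, 61, 62], [0, 1, 9, 10,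
    27, 28, 36, 37, 54, 55, 63, 64], [0, 3, 9, 12, 27, 30, 36, 39, 54, 57, 63, 66], [0, 1, 2, 3,
    4, 5, 9, 10, 11, 12, 13, 14, 27, 28, 29, 30, 31, 32, 36, 37, 38, 39, 40, 41, 54, 55, 56, 57,
    58, 59, 63, 64, 65, 66, 67, 68], [0, 1, 3, 4, 6, 7, 9, 10, 12, 13, 15, 16, 27, 28, 30, 31,
    33, 34, 36, 37, 39, 40, 42, 43, 54, 55, 57, 58, 60, 61, 63, 64, 66, 67, 69, 70], [0, 9, 18,
    27, 36, 45, 54, 63, 72], [0, 1, 2, 9, 10, 11, 18, 19, 20, 27, 28, 29, 36, 37, 38, 45, 46,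
    47, 54, 55, 56, 63, 64, 65, 72, 73, 74], [0, 1, 3, 4, 9, 10, 12, 13, 18, 19, 21, 22, 27, 28,
    30, 31, 36, 37, 39, 40, 45, 46, 48, 49, 54, 55, 57, 58, 63, 64, 66, 67, 72, 73, 75, 76], [0,
    3, 6, 9, 12, 15, 18, 21, 24, 27, 30, 33, 36, 39, 42, 45, 48, 51, 54, 57, 60, 63, 66, 69, 72,
    75, 78], [0, 1, 2, 3, 4, 5, 6, 7, 8, 9, 10, 11, 12, 13, 14, 15, 16, 17, 18, 19, 20, 21, 22,
    23, 24, 25, 26, 27, 28, 29, 30, 31, 32, 33, 34, 35, 36, 37, 38, 39, 40, 41, 42, 43, 44, 45,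
    46, 47, 48, 49, 50, 51, 52, 53, 54, 55, 56, 57, 58, 59, 60, 61, 62, 63, 64, 65, 66, 67, 68,
    69, 70, 71, 72, 73, 74, 75, 76, 77, 78, 79, 80]]

/-- The spectra of the element of order `40`. -/
def ST : List (List ℕ) :=
    [[8, 7, 5, 7, 6, 4, 5, 7, 6, 7, 8, 7, 6, 7, 5, 4, 6, 7, 5, 7, 8, 7, 5, 7, 6, 4, 5, 7, 6, 7,
    8, 7, 6, 7, 5, 4, 6, 7, 5, 7], [8, 6, 6, 6, 6, 6, 6, 7, 6, 6, 6, 7, 6, 6, 6, 6, 6, 7, 6, 7,
    4, 7, 6, 7, 6, 6, 6, 6, 6, 7, 6, 6, 6, 7, 6, 6, 6, 6, 6, 6], [8, 7, 6, 7, 6, 6, 6, 6, 6, 7,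
    6, 6, 6, 7, 6, 6, 6, 6, 6, 6, 4, 6, 6, 6, 6, 6, 6, 7, 6, 6, 6, 7, 6, 6, 6, 6, 6, 7, 6, 7],
    [16, 6, 2, 6, 8, 8, 2, 6, 9, 6, 6, 6, 8, 6, 2, 8, 9, 6, 2, 6, 8, 6, 2, 6, 9, 8, 2, 6, 8, 6,
    6, 6, 9, 6, 2, 8, 8, 6, 2, 6], [16, 10, 5, 10, 8, 4, 5, 4, 4, 10, 8, 4, 8, 10, 5, 4, 4, 4,
    5, 4, 0, 4, 5, 4, 4, 4, 5, 10, 8, 4, 8, 10, 4, 4, 5, 4, 8, 10, 5, 10], [32, 8, 1, 8, 2, 0,
    1, 8, 9, 8, 10, 8, 2, 8, 1, 0, 9, 8, 1, 8, 16, 8, 1, 8, 9, 0, 1, 8, 2, 8, 10, 8, 9, 8, 1, 0,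
    2, 8, 1, 8], [32, 9, 8, 9, 8, 8, 8, 1, 1, 9, 1, 1, 8, 9, 8, 8, 1, 1, 8, 1, 2, 1, 8, 1, 1, 8,
    8, 9, 8, 1, 1, 9, 1, 1, 8, 8, 8, 9, 8, 9], [248, 0, 0, 0, 0, 0, 0, 0, 0, 0, 0, 0, 0, 0, 0,
    0, 0, 0, 0, 0, 0, 0, 0, 0, 0, 0, 0, 0, 0, 0, 0, 0, 0, 0, 0, 0, 0, 0, 0, 0], [8, 6, 6, 6, 6,
    6, 6, 7, 6, 6, 4, 7, 6, 6, 6, 6, 6, 7, 6, 7, 8, 7, 6, 7, 6, 6, 6, 6, 6, 7, 4, 6, 6, 7, 6, 6,
    6, 6, 6, 6], [8, 6, 6, 6, 6, 8, 6, 6, 6, 6, 4, 6, 6, 6, 6, 8, 6, 6, 6, 6, 8, 6, 6, 6, 6, 8,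
    6, 6, 6, 6, 4, 6, 6, 6, 6, 8, 6, 6, 6, 6]]

def DT : List ℕ := [3296, 3292, 3236, 3220, 2936, 3092, 2626, 0, 3312, 3288]
def ms : List ℕ := [2, 3, 4, 6, 5, 4, 3, 2]
def cs : List ℕ := [184, 272, 364, 540, 440, 336, 228, 116]

theorem hJL : ∀ a < 41, cJ (2 * a) = JL.getD a [] := by decide +kernel

theorem EE_eq (n r e : ℕ) :
    EE n r e = ((cJ r).filter fun j => decide ((r / 2 + (n - 1) * j) % n = e)).length := by
  have : cJ r = (List.range (r + 1)).filter fun j => decide (¬ 3 ∣ r.choose j) := by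
    unfold cJ
    congr 1
    funext j
    rw [Nat.choose_eq_descFactorial_div_factorial]
    simp [Nat.dvd_iff_mod_eq_zero, bne, beq_eq_decide]
  rw [this]
  rfl

theorem hSE0 : ∀ i < 10, ∀ e < 40, ∑ a ∈ range 41, mm i (2 * a) *
    ((JL.getD a []).filter fun j => decide ((2 * a / 2 + (40 - 1) * j) % 40 = e)).length =
      (ST.getD i []).getD e 0 := by decide +kernel

/-- The spectra as a table. -/
theorem hSE (i : ℕ) (hi : i < 10) (e : ℕ) (he : e < 40) :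
    SE (mm i) 40 e = (ST.getD i []).getD e 0 := by
  rw [← hSE0 i hi e he]
  exact sum_congr rfl fun a ha => by rw [EE_eq, hJL a (mem_range.1 ha)]

theorem hT40 : T40 =
    (List.range chevE8.nroots).map fun r => res 40 ((List.range chevE8.rank).map (gt rcE8 r)) := by
  decide +kernel

theorem tab1 : ∀ r < 240, (∀ j < 8, 0 ≤ gt rcE8 r j ∧ gt rcE8 r j ≤ (ms.getD j 0 : ℕ)) ∨
    ∀ j < 8, gt rcE8 r j ≤ 0 ∧ -gt rcE8 r j ≤ (ms.getD j 0 : ℕ) := by decide +kernel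

theorem tab2 : ∀ j < 8, ∑ r ∈ range 240, |gt rcE8 r j| = (cs.getD j 0 : ℕ) := by decide +kernel

def zz (i e : ℕ) : ℕ := (ST.getD i []).getD e 0 - if e = 0 then 8 else 0

theorem tab3 : ∀ i < 10, ∑ e ∈ range 40, e * (40 - e) * zz i e = 20 * DT.getD i 0 ∧
    ∑ e ∈ range 40, 2 ^ (8 * e) * zz i e = (PK.getD i (0, [])).1 ∧ PK.getD i (0, []) ∈ PK ∧
    Nat.beq (Nat.mod (Nat.shiftRight MA (DT.getD i 0)) 2) 1 = true ∧
    (Nat.beq (Nat.mod (Nat.shiftRight MR (DT.getD i 0)) 2) 1 = false ∨ zz i 0 = 0) ∧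
    ((i < 7 ∧ (PK.getD i (0, [])).2 = rep i) ∨ (PK.getD i (0, [])).2 = [0, 0, 0, 0, 0, 0, 0, 0] ∨
      (PK.getD i (0, [])).2 = []) := by decide +kernel

theorem allAlc_of {l : List ℕ} {s : ℕ} {k : List ℕ → Bool}
    (h : ∀ a, dotN a l ≤ s → k a = true) : allAlc l s k = true := by
  induction l generalizing s k with
  | nil => exact h [] (Nat.zero_le _)
  | cons m l ih =>
    refine allAlc_cons.2 fun x hx => ih fun a ha => h (x :: a) ?_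
    have h1 : x * m ≤ s := (Nat.mul_le_mul_right m (Nat.le_of_lt_succ hx)).trans
      (Nat.div_mul_le_self s m)
    show x * m + dotN a l ≤ s
    omega

theorem dv (a b : ℕ) : Nat.div a b = a / b := rfl

theorem fin_of (x0 x1 x2 x3 x4 x5 x6 x7 : ℕ)
    (h : 2 * x0 + 3 * x1 + 4 * x2 + 6 * x3 + 5 * x4 + 4 * x5 + 3 * x6 + 2 * x7 ≤ 40) :
    fin (368 * x0 + 544 * x1 + 728 * x2 + 1080 * x3 + 880 * x4 + 672 * x5 + 456 * x6 + 232 * x7 -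
      3 * qf [x0, x1, x2, x3, x4, x5, x6, x7]) (x0 * x1 * x2 * x3 * x4 * x5 * x6 * x7)
      [x0, x1, x2, x3, x4, x5, x6, x7] = true := by
  have h0 := chk x0 (by omega)
  simp only [l0, fN_eq, Nat.add_eq, Nat.mul_eq, Nat.sub_eq] at h0
  rw [l1, fN_eq] at h0
  have h1 := allN_iff.1 h0 x1 (by
    simp only [dv, Nat.succ_eq_add_one]; omega)
  simp only [fN_eq, Nat.add_eq, Nat.mul_eq, Nat.sub_eq] at h1
  rw [l2, fN_eq] at h1
  have h2 := allN_iff.1 h1 x2 (by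
    simp only [dv, Nat.succ_eq_add_one]; omega)
  simp only [fN_eq, Nat.add_eq, Nat.mul_eq, Nat.sub_eq] at h2
  rw [l3, fN_eq] at h2
  have h3 := allN_iff.1 h2 x3 (by
    simp only [dv, Nat.succ_eq_add_one]; omega)
  simp only [fN_eq, Nat.add_eq, Nat.mul_eq, Nat.sub_eq] at h3
  rw [l4, fN_eq] at h3
  have h4 := allN_iff.1 h3 x4 (by
    simp only [dv, Nat.succ_eq_add_one]; omega)
  simp only [fN_eq, Nat.add_eq, Nat.mul_eq, Nat.sub_eq] at h4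
  rw [l5, fN_eq] at h4
  have h5 := allN_iff.1 h4 x5 (by
    simp only [dv, Nat.succ_eq_add_one]; omega)
  simp only [fN_eq, Nat.add_eq, Nat.mul_eq, Nat.sub_eq] at h5
  rw [l6, fN_eq] at h5
  have h6 := allN_iff.1 h5 x6 (by
    simp only [dv, Nat.succ_eq_add_one]; omega)
  simp only [fN_eq, Nat.add_eq, Nat.mul_eq, Nat.sub_eq] at h6
  rw [l7, fN_eq] at h6
  have h7 := allN_iff.1 h6 x7 (by
    simp only [dv, Nat.succ_eq_add_one]; omega)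
  simp only [fN_eq, Nat.add_eq, Nat.mul_eq, Nat.sub_eq] at h7
  convert h7 using 3
  simp [qf, sum_range_succ]
  ring

/-- The residue of a root value. -/
noncomputable def nn (a : List ℕ) (r : ℕ) : ℕ :=
  dotN a (res 40 ((List.range chevE8.rank).map (gt rcE8 r))) % 40

theorem nn_cast {f : Rt → ℤ} {a : List ℕ} (hf : IsAdd C8.R f) (h : Rp C8 40 a f) (r : Rt) :
    ((nn a r : ℕ) : ZMod 40) = f r := by
  rw [nn, ZMod.natCast_mod, dotN_res (by decide) dvd_rfl, hf r]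
  simp only [Int.cast_sum, Int.cast_mul, H29.rc_eq C8 tabOKE8, ← h _, mul_comm]

theorem nn_lt (a : List ℕ) (r : ℕ) : nn a r < 40 := Nat.mod_lt _ (by decide)

theorem wsum {f : Rt → ℤ} {a : List ℕ} (hf : IsAdd C8.R f) (h : Rp C8 40 a f) (φ : ℕ → ℕ) :
    ∑ r : Rt, φ (nn a r) = ∑ e ∈ range 40, φ e * z0 40 fun r => f r - e := by
  simp only [z0, mul_sum]
  rw [sum_comm]
  refine sum_congr rfl fun r _ => ?_
  have h2 := nn_cast hf h r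
  rw [sum_eq_single (nn a r)]
  · rw [if_pos, mul_one]
    rw [Int.cast_sub, ← h2, Int.cast_natCast, sub_self]
  · intro e he hne
    rw [if_neg, mul_zero]
    intro h3
    rw [Int.cast_sub, ← h2, Int.cast_natCast, sub_eq_zero, ZMod.natCast_eq_natCast_iff',
      Nat.mod_eq_of_lt (mem_range.1 he), Nat.mod_eq_of_lt (nn_lt a r)] at h3
    exact hne h3.symm
  · intro h3
    exact absurd (mem_range.2 (nn_lt a r)) h3

theorem pk_eq (a : List ℕ) : pk a = ∑ r : Rt, 2 ^ (8 * nn a r) := by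
  rw [pk, sumL_eq, hT40, List.map_map]
  have h1 : ∀ (n : ℕ) (g : ℕ → ℕ), ((List.range n).map g).sum = ∑ r : Fin n, g r := fun n g => by
    rw [← Finset.sum_range]
    rfl
  rw [h1]
  exact sum_congr rfl fun r _ => Nat.one_shiftLeft _

theorem vN_eq (a : List ℕ) (r : Rt) :
    vN C8 a r = ∑ j ∈ range 8, gt rcE8 r j * (a.getD j 0 : ℕ) := by
  simp only [vN, H29.rc_eq C8 tabOKE8]
  exact Fin.sum_univ_eq_sum_range (fun j => gt rcE8 r j * (a.getD j 0 : ℕ)) 8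

theorem abs_vN (a : List ℕ) (r : Rt) :
    |vN C8 a r| = ∑ j ∈ range 8, |gt rcE8 r j| * (a.getD j 0 : ℕ) ∧
      ∀ j < 8, |gt rcE8 r j| ≤ (ms.getD j 0 : ℕ) := by
  rw [vN_eq]
  rcases tab1 r r.2 with h | h
  · refine ⟨?_, fun j hj => by rw [abs_of_nonneg (h j hj).1]; exact (h j hj).2⟩
    rw [abs_of_nonneg (sum_nonneg fun j hj =>
      mul_nonneg (h j (mem_range.1 hj)).1 (Int.natCast_nonneg _))]
    exact sum_congr rfl fun j hj => by rw [abs_of_nonneg (h j (mem_range.1 hj)).1]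
  · refine ⟨?_, fun j hj => by rw [abs_of_nonpos (h j hj).1]; exact (h j hj).2⟩
    rw [abs_of_nonpos (sum_nonpos fun j hj =>
      mul_nonpos_of_nonpos_of_nonneg (h j (mem_range.1 hj)).1 (Int.natCast_nonneg _)),
      ← sum_neg_distrib]
    exact sum_congr rfl fun j hj => by rw [abs_of_nonpos (h j (mem_range.1 hj)).1, neg_mul]

theorem gval (v : ℤ) (hv : |v| ≤ 40) (n : ℕ) (hn : n < 40) (h : (n : ZMod 40) = v) :
    ((n * (40 - n) : ℕ) : ℤ) = 40 * |v| - v ^ 2 := by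
  have h1 : ((40 : ℕ) : ℤ) ∣ v - n := by
    rw [← ZMod.intCast_eq_intCast_iff_dvd_sub, Int.cast_natCast]; exact h
  obtain ⟨h2, h3⟩ := abs_le.1 hv
  rw [Nat.cast_mul, Nat.cast_sub hn.le]
  have h4 : v = n ∨ v = n - 40 ∨ (v = 40 ∧ n = 0) := by omega
  rcases h4 with rfl | rfl | ⟨rfl, rfl⟩
  · rw [abs_of_nonneg (Int.natCast_nonneg _)]; push_cast; ring
  · rw [abs_of_nonpos (by omega)]; push_cast; ring
  · norm_num

theorem quad (hQ : QfStmt) (a : List ℕ)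
    (ha : ∑ j ∈ range 8, ((ms.getD j 0 : ℕ) : ℤ) * (a.getD j 0 : ℕ) ≤ 40) :
    ((∑ r : Rt, nn a r * (40 - nn a r) : ℕ) : ℤ) =
      40 * ∑ j ∈ range 8, ((cs.getD j 0 : ℕ) : ℤ) * (a.getD j 0 : ℕ) - 60 * (qf a : ℤ) := by
  have h1 : ∑ r : Rt, |vN C8 a r| = ∑ j ∈ range 8, ((cs.getD j 0 : ℕ) : ℤ) * (a.getD j 0 : ℕ) := by
    rw [sum_congr rfl fun r _ => (abs_vN a r).1, sum_comm]
    refine sum_congr rfl fun j hj => ?_
    rw [← sum_mul, ← tab2 j (mem_range.1 hj)]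
    exact congrArg (· * _) (Fin.sum_univ_eq_sum_range (fun r => |gt rcE8 r j|) 240)
  rw [← h1, ← hQ a, Nat.cast_sum, mul_sum, ← sum_sub_distrib]
  refine sum_congr rfl fun r _ => gval _ ?_ _ (nn_lt a r) (nn_cast (isAdd_vN C8 a) (rp_vN C8 40 a) r)
  rw [(abs_vN a r).1]
  exact (sum_le_sum fun j hj => mul_le_mul_of_nonneg_right ((abs_vN a r).2 j (mem_range.1 hj))
    (Int.natCast_nonneg _)).trans ha

theorem len8 (a : List ℕ) (h : a.length = 8) :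
    ∃ x0 x1 x2 x3 x4 x5 x6 x7, a = [x0, x1, x2, x3, x4, x5, x6, x7] :=
  match a, h with
  | [x0, x1, x2, x3, x4, x5, x6, x7], _ => ⟨x0, x1, x2, x3, x4, x5, x6, x7, rfl⟩

theorem y40 (hQ : QfStmt) : Y40Stmt := by
  intro f hf i hi hc
  obtain ⟨u, hu, a, h1, hl, h2⟩ := hf.alc tabOKE8 (s := 40) (by decide) (by decide) _ thE8
    (k := fun a => decide (dotN a [2, 3, 4, 6, 5, 4, 3, 2] ≤ 40))
    (allAlc_of fun a h => decide_eq_true h)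
  have hg := hf.comp hu
  have hz : ∀ e ∈ range 40, z0 40 (fun r => f (u r) - e) = zz i e := fun e he => by
    have h5 := hc e (mem_range.1 he)
    rw [cnt, z0_congr (g := fun r => f (u r) - e) u fun _ => Iff.rfl, hSE i hi e (mem_range.1 he)] at h5
    rw [zz, ← h5, Nat.add_sub_cancel_left]
  obtain ⟨t1, t2, t3, t4, t5, t6⟩ := tab3 i hi
  have hp : pk a = (PK.getD i (0, [])).1 := by
    rw [pk_eq, wsum hg h2 fun e => 2 ^ (8 * e), ← t2]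
    exact sum_congr rfl fun e he => by rw [hz e he]
  have hs : ∑ r : Rt, nn a r * (40 - nn a r) = 20 * DT.getD i 0 := by
    rw [wsum hg h2 fun e => e * (40 - e), ← t1]
    exact sum_congr rfl fun e he => by rw [hz e he]
  have hl' : a.length = 8 := hl
  obtain ⟨x0, x1, x2, x3, x4, x5, x6, x7, rfl⟩ :
      ∃ x0 x1 x2 x3 x4 x5 x6 x7, a = [x0, x1, x2, x3, x4, x5, x6, x7] := by
    exact len8 a hl'
  have hb : x0 * 2 + (x1 * 3 + (x2 * 4 + (x3 * 6 + (x4 * 5 + (x5 * 4 + (x6 * 3 + (x7 * 2 + 0))))))) ≤ 40 :=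
    of_decide_eq_true h1
  have hq := quad hQ [x0, x1, x2, x3, x4, x5, x6, x7] (by
    simp [sum_range_succ, ms]; omega)
  rw [hs] at hq
  have hF := fin_of x0 x1 x2 x3 x4 x5 x6 x7 (by omega)
  have hd : 368 * x0 + 544 * x1 + 728 * x2 + 1080 * x3 + 880 * x4 + 672 * x5 + 456 * x6 + 232 * x7 -
      3 * qf [x0, x1, x2, x3, x4, x5, x6, x7] = DT.getD i 0 := by
    generalize DT.getD i 0 = d at hq ⊢
    simp [sum_range_succ, cs] at hq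
    omega
  rw [hd, fin, fN_eq, t4] at hF
  have hfull : full [x0, x1, x2, x3, x4, x5, x6, x7] = true := by
    rcases t5 with t5 | t5
    · rw [t5] at hF; exact hF
    · have h0 := hz 0 (by decide)
      rw [t5, z0, sum_eq_zero_iff] at h0
      have h3 : ∀ j : Fin 8, [x0, x1, x2, x3, x4, x5, x6, x7].getD j 0 ≠ 0 := by
        intro j hj
        have h4 := h0 (C8.R.simple j) (mem_univ _)
        have h5 := h2 j
        rw [if_pos] at h4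
        · exact one_ne_zero h4
        · rw [Nat.cast_zero, sub_zero]
          exact h5.symm.trans (by rw [hj, Nat.cast_zero])
      have h6 : Nat.beq (x0 * x1 * x2 * x3 * x4 * x5 * x6 * x7) 0 = false := by
        refine Bool.eq_false_iff.2 fun h => absurd (Nat.eq_of_beq_eq_true h) ?_
        exact mul_ne_zero (mul_ne_zero (mul_ne_zero (mul_ne_zero (mul_ne_zero (mul_ne_zero
          (mul_ne_zero (h3 0) (h3 1)) (h3 2)) (h3 3)) (h3 4)) (h3 5)) (h3 6)) (h3 7)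
      rw [h6] at hF
      revert hF
      cases Nat.beq (Nat.mod (Nat.shiftRight MR (DT.getD i 0)) 2) 1 <;> exact id
  rw [full, fN_eq] at hfull
  have h7 := allL_iff.1 hfull _ t3
  rw [hp, Nat.beq_refl] at h7
  have h8 : [x0, x1, x2, x3, x4, x5, x6, x7] = (PK.getD i (0, [])).2 := of_decide_eq_true h7
  rcases t6 with ⟨h9, t6⟩ | t6 | t6
  · exact Or.inl ⟨h9, u, hu, by rw [← t6, ← h8]; exact h2⟩
  · right
    rw [h8, t6] at h2
    intro r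
    have := hg.eq_zero (s := 40) (fun j => by
      rw [← h2 j]
      have : ∀ j : Fin 8, (([0, 0, 0, 0, 0, 0, 0, 0] : List ℕ).getD j 0 : ZMod 40) = 0 := by decide
      exact this j) (u⁻¹ r)
    simpa using this
  · rw [t6] at h8; exact absurd h8 (List.cons_ne_nil _ _)

end Cfsg.Agent.H40.L81Y40
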