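import Cfsg.Agent.H50.L81Defs

/-! Piece Y40 of S5921, the finite check: the points of the alcove for `s = 40` with the
prescribed multiplicities. -/

set_option autoImplicit false
set_option maxRecDepth 100000

namespace Cfsg.Agent.H40.L81Y40

open Cfsg.Lie H37 H40 H34 H29 Finset

/-- The roots modulo `40`. -/
def T40 : List (List ℕ) :=
    [[38, 37, 36, 34, 35, 36, 37, 38], [38, 37, 36, 34, 35, 36, 37, 39], [38, 37, 36, 34, 35,
    36, 38, 39], [38, 37, 36, 34, 35, 37, 38, 39], [38, 37, 36, 34, 36, 37, 38, 39], [38, 37,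
    36, 35, 36, 37, 38, 39], [38, 37, 37, 35, 36, 37, 38, 39], [38, 38, 36, 35, 36, 37, 38, 39],
    [38, 38, 37, 35, 36, 37, 38, 39], [38, 38, 37, 36, 36, 37, 38, 39], [38, 38, 37, 36, 37, 37,
    38, 39], [38, 38, 37, 36, 37, 38, 38, 39], [38, 38, 37, 36, 37, 38, 39, 39], [38, 38, 37,
    36, 37, 38, 39, 0], [39, 37, 37, 35, 36, 37, 38, 39], [39, 38, 37, 35, 36, 37, 38, 39], [39,
    38, 37, 36, 36, 37, 38, 39], [39, 38, 37, 36, 37, 37, 38, 39], [39, 38, 37, 36, 37, 38, 38,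
    39], [39, 38, 37, 36, 37, 38, 39, 39], [39, 38, 37, 36, 37, 38, 39, 0], [39, 38, 38, 36, 36,
    37, 38, 39], [39, 38, 38, 36, 37, 37, 38, 39], [39, 38, 38, 36, 37, 38, 38, 39], [39, 38,
    38, 36, 37, 38, 39, 39], [39, 38, 38, 36, 37, 38, 39, 0], [39, 38, 38, 37, 37, 37, 38, 39],
    [39, 38, 38, 37, 37, 38, 38, 39], [39, 38, 38, 37, 37, 38, 39, 39], [39, 38, 38, 37, 37, 38,
    39, 0], [39, 38, 38, 37, 38, 38, 38, 39], [39, 38, 38, 37, 38, 38, 39, 39], [39, 38, 38, 37,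
    38, 38, 39, 0], [39, 38, 38, 37, 38, 39, 39, 39], [39, 38, 38, 37, 38, 39, 39, 0], [39, 38,
    38, 37, 38, 39, 0, 0], [39, 39, 38, 37, 37, 37, 38, 39], [39, 39, 38, 37, 37, 38, 38, 39],
    [39, 39, 38, 37, 37, 38, 39, 39], [39, 39, 38, 37, 37, 38, 39, 0], [39, 39, 38, 37, 38, 38,
    38, 39], [39, 39, 38, 37, 38, 38, 39, 39], [39, 39, 38, 37, 38, 38, 39, 0], [39, 39, 38, 37,
    38, 39, 39, 39], [39, 39, 38, 37, 38, 39, 39, 0], [39, 39, 38, 37, 38, 39, 0, 0], [39, 39,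
    38, 38, 38, 38, 38, 39], [39, 39, 38, 38, 38, 38, 39, 39], [39, 39, 38, 38, 38, 38, 39, 0],
    [39, 39, 38, 38, 38, 39, 39, 39], [39, 39, 38, 38, 38, 39, 39, 0], [39, 39, 38, 38, 38, 39,
    0, 0], [39, 39, 38, 38, 39, 39, 39, 39], [39, 39, 38, 38, 39, 39, 39, 0], [39, 39, 38, 38,
    39, 39, 0, 0], [39, 39, 38, 38, 39, 0, 0, 0], [39, 39, 39, 38, 38, 38, 38, 39], [39, 39, 39,
    38, 38, 38, 39, 39], [39, 39, 39, 38, 38, 38, 39, 0], [39, 39, 39, 38, 38, 39, 39, 39], [39,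
    39, 39, 38, 38, 39, 39, 0], [39, 39, 39, 38, 38, 39, 0, 0], [39, 39, 39, 38, 39, 39, 39,
    39], [39, 39, 39, 38, 39, 39, 39, 0], [39, 39, 39, 38, 39, 39, 0, 0], [39, 39, 39, 38, 39,
    0, 0, 0], [39, 39, 39, 39, 39, 39, 39, 39], [39, 39, 39, 39, 39, 39, 39, 0], [39, 39, 39,
    39, 39, 39, 0, 0], [39, 39, 39, 39, 39, 0, 0, 0], [39, 39, 39, 39, 0, 0, 0, 0], [39, 0, 39,
    39, 39, 39, 39, 39], [39, 0, 39, 39, 39, 39, 39, 0], [39, 0, 39, 39, 39, 39, 0, 0], [39, 0,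
    39, 39, 39, 0, 0, 0], [39, 0, 39, 39, 0, 0, 0, 0], [39, 0, 39, 0, 0, 0, 0, 0], [39, 0, 0, 0,
    0, 0, 0, 0], [0, 39, 39, 38, 38, 38, 38, 39], [0, 39, 39, 38, 38, 38, 39, 39], [0, 39, 39,
    38, 38, 38, 39, 0], [0, 39, 39, 38, 38, 39, 39, 39], [0, 39, 39, 38, 38, 39, 39, 0], [0, 39,
    39, 38, 38, 39, 0, 0], [0, 39, 39, 38, 39, 39, 39, 39], [0, 39, 39, 38, 39, 39, 39, 0], [0,
    39, 39, 38, 39, 39, 0, 0], [0, 39, 39, 38, 39, 0, 0, 0], [0, 39, 39, 39, 39, 39, 39, 39],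
    [0, 39, 39, 39, 39, 39, 39, 0], [0, 39, 39, 39, 39, 39, 0, 0], [0, 39, 39, 39, 39, 0, 0, 0],
    [0, 39, 39, 39, 0, 0, 0, 0], [0, 39, 0, 39, 39, 39, 39, 39], [0, 39, 0, 39, 39, 39, 39, 0],
    [0, 39, 0, 39, 39, 39, 0, 0], [0, 39, 0, 39, 39, 0, 0, 0], [0, 39, 0, 39, 0, 0, 0, 0], [0,
    39, 0, 0, 0, 0, 0, 0], [0, 0, 39, 39, 39, 39, 39, 39], [0, 0, 39, 39, 39, 39, 39, 0], [0, 0,
    39, 39, 39, 39, 0, 0], [0, 0, 39, 39, 39, 0, 0, 0], [0, 0, 39, 39, 0, 0, 0, 0], [0, 0, 39,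
    0, 0, 0, 0, 0], [0, 0, 0, 39, 39, 39, 39, 39], [0, 0, 0, 39, 39, 39, 39, 0], [0, 0, 0, 39,
    39, 39, 0, 0], [0, 0, 0, 39, 39, 0, 0, 0], [0, 0, 0, 39, 0, 0, 0, 0], [0, 0, 0, 0, 39, 39,
    39, 39], [0, 0, 0, 0, 39, 39, 39, 0], [0, 0, 0, 0, 39, 39, 0, 0], [0, 0, 0, 0, 39, 0, 0, 0],
    [0, 0, 0, 0, 0, 39, 39, 39], [0, 0, 0, 0, 0, 39, 39, 0], [0, 0, 0, 0, 0, 39, 0, 0], [0, 0,
    0, 0, 0, 0, 39, 39], [0, 0, 0, 0, 0, 0, 39, 0], [0, 0, 0, 0, 0, 0, 0, 39], [0, 0, 0, 0, 0,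
    0, 0, 1], [0, 0, 0, 0, 0, 0, 1, 0], [0, 0, 0, 0, 0, 0, 1, 1], [0, 0, 0, 0, 0, 1, 0, 0], [0,
    0, 0, 0, 0, 1, 1, 0], [0, 0, 0, 0, 0, 1, 1, 1], [0, 0, 0, 0, 1, 0, 0, 0], [0, 0, 0, 0, 1, 1,
    0, 0], [0, 0, 0, 0, 1, 1, 1, 0], [0, 0, 0, 0, 1, 1, 1, 1], [0, 0, 0, 1, 0, 0, 0, 0], [0, 0,
    0, 1, 1, 0, 0, 0], [0, 0, 0, 1, 1, 1, 0, 0], [0, 0, 0, 1, 1, 1, 1, 0], [0, 0, 0, 1, 1, 1, 1,
    1], [0, 0, 1, 0, 0, 0, 0, 0], [0, 0, 1, 1, 0, 0, 0, 0], [0, 0, 1, 1, 1, 0, 0, 0], [0, 0, 1,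
    1, 1, 1, 0, 0], [0, 0, 1, 1, 1, 1, 1, 0], [0, 0, 1, 1, 1, 1, 1, 1], [0, 1, 0, 0, 0, 0, 0,
    0], [0, 1, 0, 1, 0, 0, 0, 0], [0, 1, 0, 1, 1, 0, 0, 0], [0, 1, 0, 1, 1, 1, 0, 0], [0, 1, 0,
    1, 1, 1, 1, 0], [0, 1, 0, 1, 1, 1, 1, 1], [0, 1, 1, 1, 0, 0, 0, 0], [0, 1, 1, 1, 1, 0, 0,
    0], [0, 1, 1, 1, 1, 1, 0, 0], [0, 1, 1, 1, 1, 1, 1, 0], [0, 1, 1, 1, 1, 1, 1, 1], [0, 1, 1,
    2, 1, 0, 0, 0], [0, 1, 1, 2, 1, 1, 0, 0], [0, 1, 1, 2, 1, 1, 1, 0], [0, 1, 1, 2, 1, 1, 1,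
    1], [0, 1, 1, 2, 2, 1, 0, 0], [0, 1, 1, 2, 2, 1, 1, 0], [0, 1, 1, 2, 2, 1, 1, 1], [0, 1, 1,
    2, 2, 2, 1, 0], [0, 1, 1, 2, 2, 2, 1, 1], [0, 1, 1, 2, 2, 2, 2, 1], [1, 0, 0, 0, 0, 0, 0,
    0], [1, 0, 1, 0, 0, 0, 0, 0], [1, 0, 1, 1, 0, 0, 0, 0], [1, 0, 1, 1, 1, 0, 0, 0], [1, 0, 1,
    1, 1, 1, 0, 0], [1, 0, 1, 1, 1, 1, 1, 0], [1, 0, 1, 1, 1, 1, 1, 1], [1, 1, 1, 1, 0, 0, 0,
    0], [1, 1, 1, 1, 1, 0, 0, 0], [1, 1, 1, 1, 1, 1, 0, 0], [1, 1, 1, 1, 1, 1, 1, 0], [1, 1, 1,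
    1, 1, 1, 1, 1], [1, 1, 1, 2, 1, 0, 0, 0], [1, 1, 1, 2, 1, 1, 0, 0], [1, 1, 1, 2, 1, 1, 1,
    0], [1, 1, 1, 2, 1, 1, 1, 1], [1, 1, 1, 2, 2, 1, 0, 0], [1, 1, 1, 2, 2, 1, 1, 0], [1, 1, 1,
    2, 2, 1, 1, 1], [1, 1, 1, 2, 2, 2, 1, 0], [1, 1, 1, 2, 2, 2, 1, 1], [1, 1, 1, 2, 2, 2, 2,
    1], [1, 1, 2, 2, 1, 0, 0, 0], [1, 1, 2, 2, 1, 1, 0, 0], [1, 1, 2, 2, 1, 1, 1, 0], [1, 1, 2,
    2, 1, 1, 1, 1], [1, 1, 2, 2, 2, 1, 0, 0], [1, 1, 2, 2, 2, 1, 1, 0], [1, 1, 2, 2, 2, 1, 1,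
    1], [1, 1, 2, 2, 2, 2, 1, 0], [1, 1, 2, 2, 2, 2, 1, 1], [1, 1, 2, 2, 2, 2, 2, 1], [1, 1, 2,
    3, 2, 1, 0, 0], [1, 1, 2, 3, 2, 1, 1, 0], [1, 1, 2, 3, 2, 1, 1, 1], [1, 1, 2, 3, 2, 2, 1,
    0], [1, 1, 2, 3, 2, 2, 1, 1], [1, 1, 2, 3, 2, 2, 2, 1], [1, 1, 2, 3, 3, 2, 1, 0], [1, 1, 2,
    3, 3, 2, 1, 1], [1, 1, 2, 3, 3, 2, 2, 1], [1, 1, 2, 3, 3, 3, 2, 1], [1, 2, 2, 3, 2, 1, 0,
    0], [1, 2, 2, 3, 2, 1, 1, 0], [1, 2, 2, 3, 2, 1, 1, 1], [1, 2, 2, 3, 2, 2, 1, 0], [1, 2, 2,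
    3, 2, 2, 1, 1], [1, 2, 2, 3, 2, 2, 2, 1], [1, 2, 2, 3, 3, 2, 1, 0], [1, 2, 2, 3, 3, 2, 1,
    1], [1, 2, 2, 3, 3, 2, 2, 1], [1, 2, 2, 3, 3, 3, 2, 1], [1, 2, 2, 4, 3, 2, 1, 0], [1, 2, 2,
    4, 3, 2, 1, 1], [1, 2, 2, 4, 3, 2, 2, 1], [1, 2, 2, 4, 3, 3, 2, 1], [1, 2, 2, 4, 4, 3, 2,
    1], [1, 2, 3, 4, 3, 2, 1, 0], [1, 2, 3, 4, 3, 2, 1, 1], [1, 2, 3, 4, 3, 2, 2, 1], [1, 2, 3,
    4, 3, 3, 2, 1], [1, 2, 3, 4, 4, 3, 2, 1], [1, 2, 3, 5, 4, 3, 2, 1], [1, 3, 3, 5, 4, 3, 2,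
    1], [2, 2, 3, 4, 3, 2, 1, 0], [2, 2, 3, 4, 3, 2, 1, 1], [2, 2, 3, 4, 3, 2, 2, 1], [2, 2, 3,
    4, 3, 3, 2, 1], [2, 2, 3, 4, 4, 3, 2, 1], [2, 2, 3, 5, 4, 3, 2, 1], [2, 2, 4, 5, 4, 3, 2,
    1], [2, 3, 3, 5, 4, 3, 2, 1], [2, 3, 4, 5, 4, 3, 2, 1], [2, 3, 4, 6, 4, 3, 2, 1], [2, 3, 4,
    6, 5, 3, 2, 1], [2, 3, 4, 6, 5, 4, 2, 1], [2, 3, 4, 6, 5, 4, 3, 1], [2, 3, 4, 6, 5, 4, 3,
    2]]

/-- The packed multiplicities. -/
noncomputable def pk (a : List ℕ) : ℕ :=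
  sumL (fun z => Nat.shiftLeft 1 (Nat.mul 8 (Nat.mod (dotN a z) 40))) T40

/-- The packed patterns and the points realising them. -/
def PK : List (ℕ × List ℕ) :=
    [(58569752586557035266833967750866672536778834587441648588599332879729215222318870744525877610240,
    [1, 1, 1, 1, 1, 3, 1, 2]),
    (50258518492256737463834185917505366156588811661250728835738102174836030963457922422540220106240,
    [1, 2, 2, 1, 1, 1, 1, 1]),
    (58602345166071283736247592429081908145672103303704857836625387305415246903827497053313651050240,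
    [3, 1, 1, 1, 1, 1, 1, 1]),
    (50128149188272757461498136940491931577679572269129574426417319887463487466728435361069949650440,
    [3, 0, 0, 3, 1, 0, 1, 0]),
    (83601233602647146672063293175648297272275495805209177026456548242659745500042476534303075666440,
    [5, 0, 0, 1, 0, 2, 0, 1]),
    (66783206960792258653165186424066512423495204959079791485632198852868717704455173385457848354840,
    [7, 0, 0, 0, 0, 1, 2, 6]),
    (75355184663489978033286416343172795183714570509351569988925430973009551312241910788381919938840,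
    [3, 0, 0, 0, 0, 1, 1, 7]), (240, [0, 0, 0, 0, 0, 0, 0, 0]),
    (50258518492256737463830652223375809387929645072095249548030058879857016638555172059503015626240,
    []),
    (50258518496142045605507258710522361190692301441696359139591663821721538664838770879918651082240,
    [])]

/-- The full test. -/
noncomputable def full (a : List ℕ) : Bool :=
  fN (pk a) fun n => allL (fun q => Bool.rec true (decide (a = q.2)) (Nat.beq n q.1)) PK

/-- The admissible values of the quadratic invariant. -/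
def MA : ℕ := 0x1000111000000000000100010000000000000000000000000000000100000000000000000000000000000000000000100000000000000000000000000000000000000000000000000000000000000000000000000000400000000000000000000000000000000000000000000000000000000000000000000000000000000000000000000000000000000000000000000000000000000000000000000000000000000000000000000000000000000000000000000000000000000000000000000000000000000000000000000000000000000000000000000000000000000000000000000000000000000000000000000000000000000000000000000000000000000000000000000000000000000000000000000000000000000000000000000000000000000000000000000000000000000000000000000000000000000000000000000000000000000000000000000000000000000000000000000000000000000000000000000000000000000000000000000000000000000000000000000000000000000000000000000000000000000000000000000000000000001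

/-- The values of the regular cases. -/
def MR : ℕ := 0x1000111000000000000100000000000000000000000000000000000000000000000000000000000000000000000000000000000000000000000000000000000000000000000000000000000000000000000000000000000000000000000000000000000000000000000000000000000000000000000000000000000000000000000000000000000000000000000000000000000000000000000000000000000000000000000000000000000000000000000000000000000000000000000000000000000000000000000000000000000000000000000000000000000000000000000000000000000000000000000000000000000000000000000000000000000000000000000000000000000000000000000000000000000000000000000000000000000000000000000000000000000000000000000000000000000000000000000000000000000000000000000000000000000000000000000000000000000000000000000000000000000000000000000000000000000000000000000000000000000000000000000000000000000000000000000000000000000000000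

/-- The test of one point. -/
noncomputable def fin (d π : ℕ) (a : List ℕ) : Bool :=
  fN d fun d => Bool.rec true (Bool.rec (full a) (Bool.rec (full a) true (Nat.beq π 0))
    (Nat.beq (Nat.mod (Nat.shiftRight MR d) 2) 1)) (Nat.beq (Nat.mod (Nat.shiftRight MA d) 2) 1)

noncomputable def l7 (x0 x1 x2 x3 x4 x5 x6 s P Q π : ℕ) : Bool :=
  fN (Nat.add (Nat.add (Nat.add (Nat.add (Nat.add (Nat.add (Nat.mul 12 x0) (Nat.mul 18 x1))
  (Nat.mul 24 x2)) (Nat.mul 36 x3)) (Nat.mul 30 x4)) (Nat.mul 24 x5)) (Nat.mul 18 x6)) fun w =>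
  allN (fun x7 => fin (Nat.sub (Nat.add P (Nat.mul 232 x7)) (Nat.add Q (Nat.mul x7 (Nat.add w
  (Nat.mul 6 x7))))) (Nat.mul π x7) [x0, x1, x2, x3, x4, x5, x6, x7]) (Nat.succ (Nat.div s 2))

noncomputable def l6 (x0 x1 x2 x3 x4 x5 s P Q π : ℕ) : Bool :=
  fN (Nat.add (Nat.add (Nat.add (Nat.add (Nat.add (Nat.mul 24 x0) (Nat.mul 36 x1)) (Nat.mul 48
  x2)) (Nat.mul 72 x3)) (Nat.mul 60 x4)) (Nat.mul 48 x5)) fun w => allN (fun x6 => fN (Nat.sub s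
  (Nat.mul 3 x6)) fun s => fN (Nat.add P (Nat.mul 456 x6)) fun P => fN (Nat.add Q (Nat.mul x6
  (Nat.add w (Nat.mul 18 x6)))) fun Q => fN (Nat.mul π x6) fun π => l7 x0 x1 x2 x3 x4 x5 x6 s P
  Q π) (Nat.succ (Nat.div s 3))

noncomputable def l5 (x0 x1 x2 x3 x4 s P Q π : ℕ) : Bool :=
  fN (Nat.add (Nat.add (Nat.add (Nat.add (Nat.mul 36 x0) (Nat.mul 54 x1)) (Nat.mul 72 x2))
  (Nat.mul 108 x3)) (Nat.mul 90 x4)) fun w => allN (fun x5 => fN (Nat.sub s (Nat.mul 4 x5)) fun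
  s => fN (Nat.add P (Nat.mul 672 x5)) fun P => fN (Nat.add Q (Nat.mul x5 (Nat.add w (Nat.mul 36
  x5)))) fun Q => fN (Nat.mul π x5) fun π => l6 x0 x1 x2 x3 x4 x5 s P Q π) (Nat.succ (Nat.div s
  4))

noncomputable def l4 (x0 x1 x2 x3 s P Q π : ℕ) : Bool :=
  fN (Nat.add (Nat.add (Nat.add (Nat.mul 48 x0) (Nat.mul 72 x1)) (Nat.mul 96 x2)) (Nat.mul 144
  x3)) fun w => allN (fun x4 => fN (Nat.sub s (Nat.mul 5 x4)) fun s => fN (Nat.add P (Nat.mul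
  880 x4)) fun P => fN (Nat.add Q (Nat.mul x4 (Nat.add w (Nat.mul 60 x4)))) fun Q => fN (Nat.mul
  π x4) fun π => l5 x0 x1 x2 x3 x4 s P Q π) (Nat.succ (Nat.div s 5))

noncomputable def l3 (x0 x1 x2 s P Q π : ℕ) : Bool :=
  fN (Nat.add (Nat.add (Nat.mul 60 x0) (Nat.mul 90 x1)) (Nat.mul 120 x2)) fun w => allN (fun x3
  => fN (Nat.sub s (Nat.mul 6 x3)) fun s => fN (Nat.add P (Nat.mul 1080 x3)) fun P => fN
  (Nat.add Q (Nat.mul x3 (Nat.add w (Nat.mul 90 x3)))) fun Q => fN (Nat.mul π x3) fun π => l4 x0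
  x1 x2 x3 s P Q π) (Nat.succ (Nat.div s 6))

noncomputable def l2 (x0 x1 s P Q π : ℕ) : Bool :=
  fN (Nat.add (Nat.mul 42 x0) (Nat.mul 60 x1)) fun w => allN (fun x2 => fN (Nat.sub s (Nat.mul 4
  x2)) fun s => fN (Nat.add P (Nat.mul 728 x2)) fun P => fN (Nat.add Q (Nat.mul x2 (Nat.add w
  (Nat.mul 42 x2)))) fun Q => fN (Nat.mul π x2) fun π => l3 x0 x1 x2 s P Q π) (Nat.succ (Nat.div
  s 4))

noncomputable def l1 (x0 s P Q π : ℕ) : Bool :=
  fN (Nat.mul 30 x0) fun w => allN (fun x1 => fN (Nat.sub s (Nat.mul 3 x1)) fun s => fN (Nat.add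
  P (Nat.mul 544 x1)) fun P => fN (Nat.add Q (Nat.mul x1 (Nat.add w (Nat.mul 24 x1)))) fun Q =>
  fN (Nat.mul π x1) fun π => l2 x0 x1 s P Q π) (Nat.succ (Nat.div s 3))

noncomputable def l0 (x0 : ℕ) : Bool :=
  fN (Nat.sub 40 (Nat.mul 2 x0)) fun s => fN (Nat.mul 368 x0) fun P => fN (Nat.mul x0 (Nat.mul
  12 x0)) fun Q => l1 x0 s P Q x0

theorem eqns : True := by
  have := @T40.eq_1
  have := @pk.eq_1
  have := @PK.eq_1
  have := @full.eq_1
  have := @MA.eq_1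
  have := @MR.eq_1
  have := @fin.eq_1
  have := @l7.eq_1
  have := @l6.eq_1
  have := @l5.eq_1
  have := @l4.eq_1
  have := @l3.eq_1
  have := @l2.eq_1
  have := @l1.eq_1
  have := @l0.eq_1
  trivial

theorem c0 : l0 0 = true := by decide +kernel

theorem c1 : l0 1 = true := by decide +kernel

theorem c2 : l0 2 = true := by decide +kernel

theorem c3 : l0 3 = true := by decide +kernel

theorem c4 : l0 4 = true := by decide +kernel

theorem c5 : l0 5 = true := by decide +kernel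

theorem c6 : l0 6 = true := by decide +kernel

theorem c7 : l0 7 = true := by decide +kernel

theorem c8 : allN (fun x => l0 (x + 8)) 13 = true := by decide +kernel

theorem chk (x : ℕ) (hx : x ≤ 20) : l0 x = true := by
  rcases x with _ | _ | _ | _ | _ | _ | _ | _ | x
  exacts [c0, c1, c2, c3, c4, c5, c6, c7, allN_iff.1 c8 x (by omega)]

end Cfsg.Agent.H40.L81Y40
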