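import Cfsg.Agent.H89.OlDefs

/-! Project OL, piece T1. -/

set_option autoImplicit false

namespace Cfsg.Agent.H40.OlT1

open Subgroup Cfsg.Agent.H18 Cfsg.Agent.H17 Cfsg.Agent.H26.K64 MonoidAlgebra Cfsg.Agent.H89.Ol
open Cfsg.Agent.H19 (kk)
open scoped Classical

universe u

theorem rank_le {G : Type u} [Group G] [Finite G] {M : Ideal AlgInt} {B : Set (IrrCharacter G)}
    {P : Subgroup G} (hM : IsPModular 2 M) (hB : IsPBlock M B) (hD : IsDefectGroup 2 M B P) {z : G}
    (hz : z ∈ P) (hc : ∀ g, z * g = g * z) (h4 : Nat.card P ≤ 4 * orderOf z) :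
    blockRank 2 B ≤ 3 := by
  have := Fintype.ofFinite G
  have hP : IsPGroup 2 P := IsPGroup.of_card (dg_card hM hB hD)
  have hcen : zpowers z ≤ Subgroup.center G :=
    zpowers_le.2 (mem_center_iff.2 fun g => (hc g).symm)
  have : (zpowers z).Normal := ⟨fun n hn g => by
    rwa [mem_center_iff.1 (hcen hn) g, mul_inv_cancel_right]⟩
  let π := QuotientGroup.mk' (zpowers z)
  have hπ : Function.Surjective π := QuotientGroup.mk'_surjective _
  have hker : π.ker = zpowers z := QuotientGroup.ker_mk' _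
  have hk : IsPGroup 2 π.ker := hP.to_le (hker.le.trans (zpowers_le.2 hz))
  have hc : ∀ y : G, ¬ 2 ∣ orderOf y → y ∈ Cz π.ker := fun y _ => mem_Cz.2 fun q hq =>
    (mem_center_iff.1 (hcen (hker ▸ hq)) y).symm
  rw [← H21.blockRank_preimage_infl hM hπ hk hc hB]
  refine rank_le_of_index hM (H22.isPBlock_preimage_of_preg hπ hM hk hc hB)
    (H22.dg_preimage_of_preg hπ hM hk hc hB hD) ?_
  refine (Nat.le_of_dvd Nat.card_pos (index_dvd_card _)).trans ?_
  have h1 := (π.ker.subgroupOf P).card_mul_index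
  rw [← relIndex, relIndex_ker, hker, H4.card_subgroupOf_of_le (zpowers_le.2 hz),
    Nat.card_zpowers] at h1
  refine Nat.le_of_mul_le_mul_left ?_ (orderOf_pos z)
  rw [h1, mul_comm]
  exact h4

theorem t1 : T1Stmt.{u} := by
  intro G _ _ _ M B P e u s hu hf h4
  have := s.charP
  have := Fintype.ofFinite (Cz (zpowers u))
  have hN := s.Cz_le_NP hu
  have h1 := (s.max.isDefect_iff_card s.prim (s.sub hu) (L := Cz (zpowers u)) (by simp)
    (hN.trans (NP_le _ _ _)) fun _ hx => NP_fix (hN hx)).2 fun g _ hg => by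
      rw [← Cz_cs, cs_zpowers]
      exact hf _ ⟨hu, g, rfl, hg⟩
  obtain ⟨a, ha⟩ := s.pair.exists_sub (inf_le_left : P ⊓ Cz (zpowers u) ≤ P)
  have l : Loc 2 P e _ _ _ _ a := ⟨s.sub hu, zpowers_le.2 (mem_Cz_zpowers.2 rfl), le_rfl, hN, rfl,
    h1, ha⟩
  have s' := s.loc_bs l
  have h2 := rank_le s.hM s'.hB s'.dg (z := slf u) ⟨hu, (slf u).2⟩ (slf_comm u) (by
    rw [H4.card_subgroupOf_of_le inf_le_right, ← orderOf_coe]
    exact h4)
  obtain ⟨t, ⟨r, rfl⟩, h5, h6⟩ := H20.exists_odd_bound (z := slf u) s.hM (s.ind_lb hu)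
    (H21.Cz_zpowers u) (s.isPElt_slf hu)
  rw [← s'.card_eq, H4.card_subgroupOf_of_le inf_le_right] at h5 h6
  rcases Nat.eq_zero_or_pos r with rfl | h
  · simpa using h5
  · exact Nat.le_of_mul_le_mul_right ((Nat.mul_le_mul_left _ (show 3 ≤ 2 * r + 1 by omega)).trans
      (h6.trans (Nat.mul_le_mul_left _ h2))) (by omega)

end Cfsg.Agent.H40.OlT1
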