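import Cfsg.Agent.H58.Q4K
import Cfsg.Agent.H69.FixLift
import Cfsg.Agent.H63.Frob
import Cfsg.Agent.H6.BwGL3
import Cfsg.Agent.H3.Frattini

/-!
Project Q4 (statement S3404), piece FA.
-/

set_option autoImplicit false

namespace Cfsg.Agent.H40.Q4Fa

open Subgroup Cfsg.Agent.H58.Q4

universe u

theorem card_inf {G : Type*} [Group G] [Finite G] (T K : Subgroup G) :
    Nat.card ↥(T ⊓ K) * K.relIndex T = Nat.card T := by
  rw [← inf_relIndex_right K T, inf_comm K T, ← relIndex_bot_left, ← relIndex_bot_left T]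
  exact relIndex_mul_relIndex ⊥ (T ⊓ K) T bot_le inf_le_left

/-- The fixed points on a quotient are at most as many as the fixed points. -/
theorem card_fix_quot {J : Type*} [Group J] [Finite J] (N : Subgroup J) [N.Normal]
    (α : J →* J) (β : J ⧸ N →* J ⧸ N) (hβ : ∀ x : J, β x = α x) :
    Nat.card (β.eqLocus (MonoidHom.id _)) ≤ Nat.card (α.eqLocus (MonoidHom.id _)) := by
  set F := α.eqLocus (MonoidHom.id _) with hF
  set F' := β.eqLocus (MonoidHom.id _) with hF'
  set T := F'.comap (QuotientGroup.mk' N) with hT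
  have mF : ∀ x, x ∈ F ↔ α x = x := fun x => Iff.rfl
  have mT : ∀ x, x ∈ T ↔ (α x : J ⧸ N) = x := fun x => by rw [← hβ]; rfl
  have hFT : F ≤ T := fun x hx => (mT x).2 (by rw [(mF x).1 hx])
  have h1 : F.relIndex T ≤ Nat.card N := by
    refine Nat.card_le_card_of_injective (fun q : T ⧸ F.subgroupOf T =>
      (⟨α q.out.1 * q.out.1⁻¹, ?_⟩ : N)) ?_
    · have := (mT _).1 q.out.2
      rw [← QuotientGroup.eq_one_iff, QuotientGroup.mk_mul, this, QuotientGroup.mk_inv,
        mul_inv_cancel]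
    · intro a b hab
      have e : α a.out.1 * a.out.1⁻¹ = α b.out.1 * b.out.1⁻¹ := congrArg Subtype.val hab
      rw [← a.out_eq', ← b.out_eq', QuotientGroup.eq, mem_subgroupOf, mF]
      simp only [coe_mul, coe_inv, map_mul, map_inv]
      rw [eq_mul_inv_iff_mul_eq] at e
      rw [← e]; group
  have h2 : Nat.card F * F.relIndex T = Nat.card T := by
    rw [← card_inf T F, inf_eq_right.2 hFT]
  have h3 : Nat.card N * Nat.card F' = Nat.card T := by
    have hN : N ≤ T := by
      intro x hx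
      rw [hT, mem_comap, QuotientGroup.mk'_apply, (QuotientGroup.eq_one_iff x).2 hx]
      exact one_mem _
    have := card_inf T (QuotientGroup.mk' N).ker
    rw [relIndex_ker, QuotientGroup.ker_mk', inf_eq_right.2 hN, hT,
      map_comap_eq_self_of_surjective (QuotientGroup.mk'_surjective N)] at this
    exact this
  have h4 : Nat.card N * Nat.card F' ≤ Nat.card N * Nat.card F := by
    rw [h3, ← h2, mul_comm]
    exact Nat.mul_le_mul_right _ h1
  exact Nat.le_of_mul_le_mul_left h4 Nat.card_pos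

theorem card_le_27 {A : Type*} [CommGroup A] [Finite A] (he : ∀ a : A, a ^ 3 = 1) (β : A →* A)
    (h3 : ∀ a, β (β (β a)) = a) (hf : Nat.card (β.eqLocus (MonoidHom.id _)) ≤ 3) :
    Nat.card A ≤ 27 := by
  let δ : A →* A := β / MonoidHom.id A
  have hδ : ∀ a, δ a = β a / a := fun a => rfl
  have hk : δ.ker = β.eqLocus (MonoidHom.id _) := by
    ext a
    rw [MonoidHom.mem_ker, hδ, div_eq_one]; rfl
  have step : ∀ B : Subgroup A, Nat.card B ≤ 3 * Nat.card (B.map δ) := fun B => by
    rw [← card_inf B δ.ker, relIndex_ker]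
    exact Nat.mul_le_mul_right _ ((card_le_of_le inf_le_right).trans (hk ▸ hf))
  have hz : (((⊤ : Subgroup A).map δ).map δ).map δ = ⊥ := by
    rw [eq_bot_iff]
    rintro _ ⟨_, ⟨_, ⟨a, -, rfl⟩, rfl⟩, rfl⟩
    rw [mem_bot]
    simp only [hδ, map_div, h3]
    have : ∀ a b c : A, a / c / (c / b) / (c / b / (b / a)) = b ^ 3 / c ^ 3 := by
      intro a b c
      apply Additive.ofMul.injective
      simp only [ofMul_div, ofMul_pow]
      abel
    rw [this, he, he, div_one]
  have h1 := step ⊤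
  have h2 := step ((⊤ : Subgroup A).map δ)
  have h3 := step (((⊤ : Subgroup A).map δ).map δ)
  rw [hz, card_bot] at h3
  rw [card_top] at h1
  omega

theorem card_le_27' {A : Type*} [Group A] [Finite A] (hc : ∀ a b : A, a * b = b * a)
    (he : ∀ a : A, a ^ 3 = 1) (β : A →* A)
    (h3 : ∀ a, β (β (β a)) = a) (hf : Nat.card (β.eqLocus (MonoidHom.id _)) ≤ 3) :
    Nat.card A ≤ 27 := by
  let _ : CommGroup A := { (inferInstance : Group A) with mul_comm := hc }
  exact card_le_27 he β h3 hf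

theorem frattini_index {J : Type*} [Group J] [Finite J] (hJ : IsPGroup 3 J) (α : MulAut J)
    (h3 : ∀ x, α (α (α x)) = x)
    (hf : Nat.card ((α : J →* J).eqLocus (MonoidHom.id _)) ≤ 3) :
    ∃ d ≤ 3, (frattini J).index = 3 ^ d := by
  have : Fact (Nat.Prime 3) := ⟨by norm_num⟩
  have hc : ∀ a b : J ⧸ frattini J, a * b = b * a := by
    intro a b
    induction a using QuotientGroup.induction_on with | H a =>
    induction b using QuotientGroup.induction_on with | H b =>
    rw [← QuotientGroup.mk_mul, ← QuotientGroup.mk_mul, QuotientGroup.eq]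
    refine H3.commutator_le_frattini hJ ?_
    have := commutator_mem_commutator (mem_top b⁻¹) (mem_top a⁻¹)
    rw [commutatorElement_def] at this
    have e : (a * b)⁻¹ * (b * a) = b⁻¹ * a⁻¹ * b⁻¹⁻¹ * a⁻¹⁻¹ := by group
    rw [e]
    exact this
  have he : ∀ a : J ⧸ frattini J, a ^ 3 = 1 := by
    intro a
    induction a using QuotientGroup.induction_on with | H a =>
    rw [← QuotientGroup.mk_pow, QuotientGroup.eq_one_iff]
    exact H3.pow_mem_frattini hJ a
  obtain ⟨β, hβ⟩ : ∃ β : (J ⧸ frattini J) →* (J ⧸ frattini J), ∀ x : J, β x = (α x : J) :=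
    ⟨(H6.BwGL3.quotAut (frattini J) α).toMonoidHom, fun _ => rfl⟩
  have h1 := card_fix_quot (frattini J) (α : J →* J) β hβ
  have h27 : Nat.card (J ⧸ frattini J) ≤ 27 := by
    refine card_le_27' hc he β (fun a => ?_) (h1.trans hf)
    induction a using QuotientGroup.induction_on with | H a =>
    rw [hβ, hβ, hβ, h3]
  obtain ⟨d, hd⟩ := IsPGroup.iff_card.1 (hJ.to_quotient (frattini J))
  refine ⟨d, ?_, hd⟩
  by_contra hlt
  have : 3 ^ 4 ≤ 3 ^ d := Nat.pow_le_pow_right (by norm_num) (by omega)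
  omega

variable {G : Type u} [Group G] [Finite G]

theorem semireg {V : Subgroup G} {c : G} (hr : (orderOf c).Prime)
    (hf : ∀ v ∈ V, Commute c v → v = 1) : H63.Semiregular V (zpowers c) := by
  intro x hx hx1
  rw [eq_bot_iff]
  intro v hv
  have hc : c ∈ zpowers x := by
    have : zpowers x = zpowers c := by
      refine eq_of_le_of_card_ge (zpowers_le.2 hx) ?_
      rw [Nat.card_zpowers, Nat.card_zpowers]
      have := (Nat.dvd_prime hr).1 (orderOf_dvd_of_mem_zpowers hx)
      rw [orderOf_eq_one_iff] at this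
      exact (this.resolve_left hx1).ge
    rw [this]; exact mem_zpowers c
  obtain ⟨k, rfl⟩ := hc
  exact hf v hv.1 ((mem_Ce.1 hv.2).symm.zpow_left k)

theorem case1 {J V : Subgroup G} {c : G} {s : ℕ} (hs : s.Prime) (hso : Odd s)
    (hJ : IsPGroup s J) (hV : IsPGroup 2 V) (hr : (orderOf c).Prime) (hrs : orderOf c ≠ s)
    (hVJ : V ≤ Nm J) (hcJ : c ∈ Nm J) (hcV : c ∈ Nm V) (hf : ∀ v ∈ V, Commute c v → v = 1)
    (h : J ⊓ Ce c ≤ centralizer (V : Set G)) : J ≤ centralizer (V : Set G) := by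
  have := Fact.mk hs
  have hreg := semireg hr hf
  have hn : zpowers c ≤ Nm V := zpowers_le.2 hcV
  have hsdp : H63.IsSdp V (zpowers c) (V ⊔ zpowers c) :=
    ⟨hn, disjoint_iff.1 (disjoint_of_coprime_natCard (hreg.coprime hn)), rfl⟩
  obtain ⟨a, ha⟩ := IsPGroup.iff_card.1 hJ
  obtain ⟨b, hb⟩ := IsPGroup.iff_card.1 hV
  have hco : (Nat.card J).Coprime (Nat.card ↥(V ⊔ zpowers c)) := by
    rw [hsdp.card, ha, hb, Nat.card_zpowers]
    refine Nat.Coprime.pow_left _ (Nat.Coprime.mul_right (Nat.Coprime.pow_right _ ?_) ?_)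
    · exact Nat.coprime_two_right.2 hso
    · exact (Nat.coprime_primes hs hr).2 hrs.symm
  have hsol : Group.IsSolvable J := by
    have := hJ.isNilpotent
    infer_instance
  have hW := H69.Wielandt_card hsdp hreg (sup_le hVJ (zpowers_le.2 hcJ)) hco hsol
  have he : J ⊓ centralizer ((V ⊔ zpowers c : Subgroup G) : Set G) =
      J ⊓ centralizer ((zpowers c : Subgroup G) : Set G) := by
    refine le_antisymm (inf_le_inf_left _ (centralizer_le (SetLike.coe_subset_coe.2 le_sup_right))) fun x hx => ⟨hx.1, ?_⟩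
    have h1 : x ∈ centralizer (V : Set G) :=
      h ⟨hx.1, mem_Ce.2 (mem_centralizer_iff.1 hx.2 c (mem_zpowers c)).symm⟩
    have h2 : V ⊔ zpowers c ≤ Ce x := sup_le
      (fun v hv => mem_Ce.2 (mem_centralizer_iff.1 h1 v hv))
      (fun v hv => mem_Ce.2 (mem_centralizer_iff.1 hx.2 v hv))
    exact mem_centralizer_iff.2 fun g hg => mem_Ce.1 (h2 hg)
  rw [he] at hW
  have h3 := Nat.eq_of_mul_eq_mul_left (pow_pos Nat.card_pos _) hW
  have h4 : J ⊓ centralizer (V : Set G) = J := eq_of_le_of_card_ge inf_le_left h3.le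
  exact inf_eq_left.1 h4

theorem case2 {J V : Subgroup G} {c y : G} (hJ : IsPGroup 3 J) (hV : IsPGroup 2 V)
    (hr : (orderOf c).Prime) (hro : Odd (orderOf c)) (hrs : orderOf c ≠ 3)
    (hVJ : V ≤ Nm J) (hcJ : c ∈ Nm J) (hcV : c ∈ Nm V) (hf : ∀ v ∈ V, Commute c v → v = 1)
    (hy : y ∈ Nm J) (hy3 : y ^ 3 = 1) (hcy : Nat.card ↥(J ⊓ Ce y) ≤ 3) :
    J ≤ centralizer (V : Set G) := by
  let α : MulAut J := J.normalizerMonoidHom ⟨y, hy⟩
  have hα : ∀ x : J, (α x : G) = y * x * y⁻¹ := fun x => rfl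
  obtain ⟨d, hd3, hd⟩ := frattini_index hJ α (fun x => Subtype.ext (by
      rw [hα, hα, hα]
      calc y * (y * (y * x * y⁻¹) * y⁻¹) * y⁻¹ = y ^ 3 * x * (y ^ 3)⁻¹ := by
            rw [pow_three']; group
        _ = x := by rw [hy3]; group)) (by
      refine le_trans (Nat.card_le_card_of_injective (fun x => (⟨x.1.1, x.1.2, ?_⟩ : ↥(J ⊓ Ce y)))
        ?_) hcy
      · have : (α x.1 : G) = x.1 := congrArg Subtype.val x.2
        rw [hα, mul_inv_eq_iff_eq_mul] at this
        exact mem_Ce.2 this.symm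
      · intro a b hab
        exact Subtype.ext (Subtype.ext (congrArg (fun z : ↥(J ⊓ Ce y) => (z : G)) hab)))
  have key : ∀ R : Subgroup G, (Nat.card R).Coprime 3 → R ≤ Nm J →
      (centralizer (J : Set G)).relIndex R ∣ 11232 := by
    intro R hR hn
    refine (H6.BwGL3.relIndex_dvd (by norm_num) hJ hd hR hn).trans ?_
    interval_cases d <;> decide
  have hCn : ∀ g ∈ Nm J, ∀ x ∈ centralizer (J : Set G), g * x * g⁻¹ ∈ centralizer (J : Set G) := by
    intro g hg x hx
    rw [mem_centralizer_iff] at hx ⊢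
    intro j hj
    have := hx _ (conj_mem_of_Nm (inv_mem hg) hj)
    calc j * (g * x * g⁻¹) = g * (g⁻¹ * j * g⁻¹⁻¹ * x) * g⁻¹ := by group
      _ = g * x * g⁻¹ * j := by rw [this]; group
  rw [le_centralizer_iff]
  by_cases hc : c ∈ centralizer (J : Set G)
  · let f : V → V := fun v => ⟨v * (c * (v : G)⁻¹ * c⁻¹),
      mul_mem v.2 (conj_mem_of_Nm hcV (inv_mem v.2))⟩
    have hinj : Function.Injective f := by
      intro v w e
      have e' : (v : G) * (c * (v : G)⁻¹ * c⁻¹) = w * (c * (w : G)⁻¹ * c⁻¹) :=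
        congrArg Subtype.val e
      have h1 : Commute c ((w : G)⁻¹ * v) := by
        change c * ((w : G)⁻¹ * v) = (w : G)⁻¹ * v * c
        calc c * ((w : G)⁻¹ * v) = (w : G)⁻¹ * (w * (c * (w : G)⁻¹ * c⁻¹)) * c * v := by group
          _ = (w : G)⁻¹ * v * c := by rw [← e']; group
      have := hf _ (mul_mem (inv_mem w.2) v.2) h1
      rw [inv_mul_eq_one] at this
      exact Subtype.ext this.symm
    intro v hv
    obtain ⟨w, hw⟩ := Finite.surjective_of_injective hinj ⟨v, hv⟩
    have e : (w : G) * (c * (w : G)⁻¹ * c⁻¹) = v := congrArg Subtype.val hw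
    rw [← e, ← mul_assoc, ← mul_assoc]
    exact mul_mem (hCn _ (hVJ w.2) _ hc) (inv_mem hc)
  · have h13 : orderOf c = 13 := by
      have h1 := key (zpowers c) (by
        rw [Nat.card_zpowers]; exact (Nat.coprime_primes hr (by norm_num)).2 hrs)
        (zpowers_le.2 hcJ)
      have h2 : (centralizer (J : Set G)).relIndex (zpowers c) ∣ orderOf c := by
        rw [← Nat.card_zpowers]; exact relIndex_dvd_card _ _
      rcases (Nat.dvd_prime hr).1 h2 with h | h
      · exact absurd (relIndex_eq_one.1 h (mem_zpowers c)) hc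
      · rw [h, show 11232 = 2 ^ 5 * 3 ^ 3 * 13 by norm_num] at h1
        rcases (Nat.Prime.dvd_mul hr).1 h1 with h1 | h1
        · rcases (Nat.Prime.dvd_mul hr).1 h1 with h1 | h1
          · have := (Nat.prime_dvd_prime_iff_eq hr Nat.prime_two).1 (hr.dvd_of_dvd_pow h1)
            rw [this] at hro
            exact absurd hro (by decide)
          · exact absurd ((Nat.prime_dvd_prime_iff_eq hr Nat.prime_three).1
              (hr.dvd_of_dvd_pow h1)) hrs
        · exact (Nat.prime_dvd_prime_iff_eq hr (by norm_num)).1 h1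
    obtain ⟨b, hb⟩ := IsPGroup.iff_card.1 hV
    have h1 := key V (by rw [hb]; exact Nat.Coprime.pow_left _ (by norm_num)) hVJ
    have h2 : (centralizer (J : Set G)).relIndex V ∣ 2 ^ b := hb ▸ relIndex_dvd_card _ _
    have h3 : (centralizer (J : Set G)).relIndex V ∣ 2 ^ 5 := by
      rw [show 11232 = 2 ^ 5 * 351 by norm_num] at h1
      exact Nat.Coprime.dvd_of_dvd_mul_right
        (Nat.Coprime.coprime_dvd_left h2 (Nat.Coprime.pow_left _ (by norm_num))) h1
    have h4 := (semireg hr hf).card_dvd_pred (zpowers_le.2 hcV)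
    have h5 := (semireg (V := V ⊓ centralizer (J : Set G)) hr
      (fun v hv => hf v hv.1)).card_dvd_pred (zpowers_le.2 (mem_Nm_of_finite fun x hx =>
        ⟨conj_mem_of_Nm hcV hx.1, hCn _ hcJ _ hx.2⟩))
    have h6 := card_inf V (centralizer (J : Set G))
    rw [Nat.card_zpowers, h13] at h4 h5
    have p1 : 0 < Nat.card ↥(V ⊓ centralizer (J : Set G)) := Nat.card_pos
    have p2 : 0 < Nat.card V := Nat.card_pos
    refine relIndex_eq_one.1 ?_
    obtain ⟨i, hi, e⟩ := (Nat.dvd_prime_pow Nat.prime_two).1 h3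
    rw [e] at h6 ⊢
    interval_cases i <;> omega

theorem fa : FaStmt.{u} := by
  intro G _ _ J V c s hs hso hJ hV hr hro hrs hVJ hcJ hcV hf h
  rcases h with h | ⟨rfl, y, hy, hy3, hcy⟩
  · exact case1 hs hso hJ hV hr hrs hVJ hcJ hcV hf h
  · exact case2 hJ hV hr hro hrs hVJ hcJ hcV hf hy hy3 hcy

end Cfsg.Agent.H40.Q4Fa
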